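import Mathlib
import Cfsg.Prelude.Def_Characters
import Cfsg.Agent.Lib.Helper4.CharLinear
import Cfsg.Agent.Lib.Helper83.Linear
import Cfsg.Agent.Lib.Helper83.LinearCount
import Cfsg.Agent.Lib.Helper35.Ind

/-!
# Group-theoretic input for the extension theorem for central Sylow intersections
-/

set_option autoImplicit false

namespace Cfsg.Agent.Lib.Helper21

open Cfsg
open scoped commutatorElement Pointwise

section DadeGrp

variable {G : Type*} [Group G]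

theorem comm_central_left {z : G} (hz : z ∈ Subgroup.center G) (a b : G) :
    ⁅z * a, b⁆ = ⁅a, b⁆ := by
  have h := Subgroup.mem_center_iff.mp hz
  calc ⁅z * a, b⁆ = z * (a * b * a⁻¹) * z⁻¹ * b⁻¹ := by
        simp [commutatorElement_def, mul_assoc]
    _ = (a * b * a⁻¹) * z * z⁻¹ * b⁻¹ := by rw [← h (a * b * a⁻¹)]
    _ = ⁅a, b⁆ := by simp [commutatorElement_def, mul_assoc]

theorem comm_central_right {z : G} (hz : z ∈ Subgroup.center G) (a b : G) :
    ⁅a, z * b⁆ = ⁅a, b⁆ := by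
  have h := Subgroup.mem_center_iff.mp hz
  calc ⁅a, z * b⁆ = a * z * (b * a⁻¹ * b⁻¹) * z⁻¹ := by
        simp [commutatorElement_def, mul_assoc]
    _ = z * a * (b * a⁻¹ * b⁻¹) * z⁻¹ := by rw [h a]
    _ = a * (b * a⁻¹ * b⁻¹) * z * z⁻¹ := by rw [mul_assoc z, ← h (a * (b * a⁻¹ * b⁻¹))]
    _ = ⁅a, b⁆ := by simp [commutatorElement_def, mul_assoc]

/-- In an elementary group the commutator subgroup lies in that of a Sylow `p`-subgroup. -/
theorem elementary_commutator_le {p : ℕ} [hp : Fact p.Prime] {E : Type*} [Group E] [Finite E]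
    (hE : IsElementary p E) (S : Sylow p E) :
    commutator E ≤ ⁅(S : Subgroup E), (S : Subgroup E)⁆ := by
  obtain ⟨x, hx, hcop, k, hk⟩ := hE
  have hC : Nat.card (Subgroup.zpowers x) = orderOf x := Nat.card_zpowers x
  have hcard : Nat.card E = orderOf x * p ^ k := by
    rw [← hC, ← hk, Subgroup.card_mul_index]
  have hpnd : ¬ p ∣ orderOf x := by
    intro h
    have := Nat.Coprime.eq_one_of_dvd hcop.symm h
    exact hp.out.ne_one this
  have ho : orderOf x ≠ 0 := (orderOf_pos x).ne'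
  have hS : Nat.card (S : Subgroup E) = p ^ k := by
    rw [Sylow.card_eq_multiplicity, hcard, Nat.factorization_mul ho (pow_ne_zero k hp.out.ne_zero)]
    simp [Nat.factorization_eq_zero_of_not_dvd hpnd, hp.out.factorization_self]
  have hcompl : Subgroup.IsComplement' (Subgroup.zpowers x) (S : Subgroup E) := by
    apply Subgroup.isComplement'_of_coprime
    · rw [hC, hS, hcard]
    · rw [hC, hS]
      exact Nat.Coprime.pow_right k hcop
  have hCcent : Subgroup.zpowers x ≤ Subgroup.center E := Subgroup.zpowers_le.mpr hx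
  rw [commutator_def, Subgroup.commutator_le]
  intro g₁ _ g₂ _
  obtain ⟨⟨c₁, s₁⟩, h₁, -⟩ := hcompl.existsUnique g₁
  obtain ⟨⟨c₂, s₂⟩, h₂, -⟩ := hcompl.existsUnique g₂
  simp only at h₁ h₂
  rw [← h₁, ← h₂, comm_central_left (hCcent c₁.2), comm_central_right (hCcent c₂.2)]
  exact Subgroup.commutator_mem_commutator s₁.2 s₂.2

/-- A character of degree one is irreducible. -/
theorem isIrr_of_isChar_one {χ : G → ℂ} (h : IsCharacter G χ) (h1 : χ 1 = 1) :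
    IsIrrCharacter G χ := by
  obtain ⟨n, ρ, rfl⟩ := h
  rw [Representation.char_one] at h1
  have h2 : Module.finrank ℂ (Fin n → ℂ) = 1 := by exact_mod_cast h1
  exact ⟨n, ρ, Helper83.irreducible_of_finrank_one ρ h2, rfl⟩

/-- The hypotheses on the Sylow subgroup give `P ∩ N ∩ [P, P] = 1`. -/
theorem dade_sylow_disjoint [Finite G] (P N : Subgroup G)
    (hcent : ∀ x ∈ P ⊓ N, ∀ y ∈ P, x * y = y * x)
    (hlin : ∀ lam : ↥(P ⊓ N) → ℂ, IsCharacter ↥(P ⊓ N) lam → lam 1 = 1 →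
      ∃ μ : ↥P → ℂ, IsCharacter ↥P μ ∧ μ 1 = 1 ∧ ∀ x : ↥(P ⊓ N), μ ⟨(x : G), x.2.1⟩ = lam x) :
    (P ⊓ N) ⊓ ⁅P, P⁆ = ⊥ := by
  classical
  rw [eq_bot_iff]
  rintro x ⟨hxM, hxc⟩
  rw [Subgroup.mem_bot]
  by_contra hx1
  letI : CommGroup ↥(P ⊓ N) :=
    { (inferInstance : Group ↥(P ⊓ N)) with
      mul_comm := fun a b => Subtype.ext (hcent a a.2 b b.2.1) }
  haveI : NeZero (Monoid.exponent ↥(P ⊓ N) : ℂ) := ⟨by
    have := Monoid.exponent_ne_zero_of_finite (G := ↥(P ⊓ N))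
    exact_mod_cast this⟩
  obtain ⟨l, hl⟩ := CommGroup.exists_apply_ne_one_of_hasEnoughRootsOfUnity ↥(P ⊓ N) ℂ
    (a := ⟨x, hxM⟩) (by intro h; exact hx1 (congrArg Subtype.val h))
  obtain ⟨μ, hμ, hμ1, hμres⟩ := hlin (fun g => (l g : ℂ))
    (Helper35.isChar_of_irr (Helper4.isIrrCharacter_lin l)) (by simp)
  have hμirr := isIrr_of_isChar_one hμ hμ1
  have hc : (⟨x, hxM.1⟩ : ↥P) ∈ commutator ↥P := by
    rw [← Subgroup.map_subtype_commutator] at hxc
    obtain ⟨c', hc', hc'x⟩ := hxc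
    have : c' = ⟨x, hxM.1⟩ := Subtype.ext hc'x
    rw [← this]; exact hc'
  have h2 := Helper83.irr_linear_commutator hμirr hμ1 hc
  have h3 := hμres ⟨x, hxM⟩
  rw [h2] at h3
  apply hl
  exact Units.ext h3.symm

/-- The disjointness passes to every Sylow subgroup. -/
theorem dade_sylow_disjoint' {p : ℕ} [Fact p.Prime] [Finite G] (P : Sylow p G) (N : Subgroup G)
    [hN : N.Normal]
    (h : ((P : Subgroup G) ⊓ N) ⊓ ⁅(P : Subgroup G), (P : Subgroup G)⁆ = ⊥) (Q : Sylow p G) :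
    ((Q : Subgroup G) ⊓ N) ⊓ ⁅(Q : Subgroup G), (Q : Subgroup G)⁆ = ⊥ := by
  obtain ⟨g, rfl⟩ := MulAction.exists_smul_eq G P Q
  rw [Sylow.coe_subgroup_smul, eq_bot_iff]
  rintro y ⟨⟨-, hyN'⟩, hyc'⟩
  have hyN : y ∈ N := hyN'
  have hmap := Subgroup.map_commutator (H₁ := (P : Subgroup G)) (H₂ := (P : Subgroup G))
    (MulAut.conj g).toMonoidHom
  have hyc : y ∈ Subgroup.map (MulAut.conj g).toMonoidHom
      ⁅(P : Subgroup G), (P : Subgroup G)⁆ := by
    rw [hmap]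
    exact hyc'
  obtain ⟨z, hz, hzy⟩ := hyc
  have hzy' : g * z * g⁻¹ = y := hzy
  rw [Subgroup.mem_bot]
  have hzN : z ∈ N := by
    have h1 : z = g⁻¹ * y * g⁻¹⁻¹ := by rw [← hzy']; group
    rw [h1]
    exact hN.conj_mem y hyN g⁻¹
  have h1 : z ∈ ((P : Subgroup G) ⊓ N) ⊓ ⁅(P : Subgroup G), (P : Subgroup G)⁆ :=
    ⟨⟨Subgroup.commutator_le_self _ hz, hzN⟩, hz⟩
  rw [h, Subgroup.mem_bot] at h1
  rw [← hzy', h1]; group

/-- The disjointness passes to elementary subgroups. -/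
theorem dade_elem_disjoint {p : ℕ} [Fact p.Prime] [Finite G] (P : Sylow p G) (N : Subgroup G)
    [hN : N.Normal]
    (h : ((P : Subgroup G) ⊓ N) ⊓ ⁅(P : Subgroup G), (P : Subgroup G)⁆ = ⊥)
    (E : Subgroup G) (hE : IsElementary p E) : (E ⊓ N) ⊓ ⁅E, E⁆ = ⊥ := by
  obtain ⟨S⟩ := (inferInstance : Nonempty (Sylow p ↥E))
  have hS := elementary_commutator_le hE S
  set P₁ : Subgroup G := (S : Subgroup ↥E).map E.subtype with hP₁
  have hP₁p : IsPGroup p P₁ := IsPGroup.map S.isPGroup' E.subtype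
  obtain ⟨Q, hQ⟩ := IsPGroup.exists_le_sylow hP₁p
  have hQd := dade_sylow_disjoint' P N h Q
  have h1 : ⁅E, E⁆ ≤ ⁅P₁, P₁⁆ := by
    rw [← Subgroup.map_subtype_commutator, hP₁, ← Subgroup.map_commutator]
    exact Subgroup.map_mono hS
  rw [eq_bot_iff]
  rintro x ⟨⟨-, hxN⟩, hxc⟩
  have hx1 : x ∈ ⁅P₁, P₁⁆ := h1 hxc
  have hx2 : x ∈ (Q : Subgroup G) := hQ (Subgroup.commutator_le_self P₁ hx1)
  have hx3 : x ∈ ⁅(Q : Subgroup G), (Q : Subgroup G)⁆ := Subgroup.commutator_mono hQ hQ hx1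
  rw [← hQd]
  exact ⟨⟨hx2, hxN⟩, hx3⟩

/-- Disjointness from the commutator subgroup makes `E ∩ N` central in `E`. -/
theorem dade_central (E N : Subgroup G) [hN : N.Normal] (h : (E ⊓ N) ⊓ ⁅E, E⁆ = ⊥) :
    ∀ x ∈ E ⊓ N, ∀ e ∈ E, x * e = e * x := by
  intro x hx e he
  rw [← commutatorElement_eq_one_iff_mul_comm, ← Subgroup.mem_bot, ← h]
  refine ⟨⟨?_, ?_⟩, Subgroup.commutator_mem_commutator hx.1 he⟩
  · rw [commutatorElement_def]
    exact E.mul_mem (E.mul_mem (E.mul_mem hx.1 he) (E.inv_mem hx.1)) (E.inv_mem he)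
  · have h1 : ⁅x, e⁆ = x * (e * x⁻¹ * e⁻¹) := by rw [commutatorElement_def]; group
    rw [h1]
    exact N.mul_mem hx.2 (hN.conj_mem _ (N.inv_mem hx.2) e)

/-- Linear characters of `E ∩ N` extend to `E`. -/
theorem dade_lin_ext [Finite G] (E N : Subgroup G) (h : (E ⊓ N) ⊓ ⁅E, E⁆ = ⊥)
    (l : ↥(E ⊓ N) →* ℂˣ) : ∃ L : ↥E →* ℂˣ, ∀ x : ↥(E ⊓ N), L ⟨x, x.2.1⟩ = l x := by
  classical
  let ι : ↥(E ⊓ N) →* Abelianization ↥E :=
    (Abelianization.of).comp (Subgroup.inclusion (inf_le_left : E ⊓ N ≤ E))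
  have hι : Function.Injective ι := by
    rw [injective_iff_map_eq_one]
    intro x hx
    have h1 : Subgroup.inclusion (inf_le_left : E ⊓ N ≤ E) x ∈ commutator ↥E := by
      rw [← Abelianization.ker_of, MonoidHom.mem_ker]
      exact hx
    have h2 : (x : G) ∈ ⁅E, E⁆ := by
      rw [← Subgroup.map_subtype_commutator]
      exact ⟨_, h1, rfl⟩
    have h3 : (x : G) ∈ (E ⊓ N) ⊓ ⁅E, E⁆ := ⟨x.2, h2⟩
    rw [h, Subgroup.mem_bot] at h3
    exact Subtype.ext h3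
  let l' : ↥ι.range →* ℂˣ := l.comp (MonoidHom.ofInjective hι).symm.toMonoidHom
  haveI : NeZero (Monoid.exponent (Abelianization ↥E) : ℂ) := ⟨by
    have := Monoid.exponent_ne_zero_of_finite (G := Abelianization ↥E)
    exact_mod_cast this⟩
  obtain ⟨L, hL⟩ := MonoidHom.domRestrict_surjective (M := ℂ) ι.range l'
  refine ⟨L.comp Abelianization.of, fun x => ?_⟩
  have h1 : L (ι x) = l' ⟨ι x, ⟨x, rfl⟩⟩ := by
    rw [← hL]; rfl
  have h2 : (MonoidHom.ofInjective hι).symm ⟨ι x, ⟨x, rfl⟩⟩ = x := by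
    rw [MulEquiv.symm_apply_eq]
    exact Subtype.ext (MonoidHom.ofInjective_apply hι).symm
  show L (ι x) = l x
  rw [h1]
  show l ((MonoidHom.ofInjective hι).symm ⟨ι x, ⟨x, rfl⟩⟩) = l x
  rw [h2]

end DadeGrp

end Cfsg.Agent.Lib.Helper21
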