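import Cfsg.Agent.Lib.Helper21.Zass

/-!
Counting in Zassenhaus groups: order formula and the number of fixed-point-free elements.
-/

set_option autoImplicit false

namespace Cfsg.Agent.Lib.Helper21

open Cfsg Finset

section OrbitCount

variable {G X : Type*} [Group G] [Fintype G] [MulAction G X] [DecidableEq X]

theorem card_fiber_eq (x y : X) (h : G) (hh : h • x = y) :
    (univ.filter (fun g : G => g • x = y)).card = (univ.filter (fun g : G => g • x = x)).card := by
  apply Finset.card_nbij' (fun g => h⁻¹ * g) (fun g => h * g)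
  · intro g hg
    simp only [coe_filter, mem_univ, true_and, Set.mem_setOf_eq] at hg ⊢
    rw [mul_smul, hg, ← hh, inv_smul_smul]
  · intro g hg
    simp only [coe_filter, mem_univ, true_and, Set.mem_setOf_eq] at hg ⊢
    rw [mul_smul, hg, hh]
  · intro g _
    simp
  · intro g _
    simp

theorem card_eq_orbit_mul_stab (x : X) (T : Finset X) (hT : ∀ y, y ∈ T ↔ ∃ g : G, g • x = y) :
    Fintype.card G = T.card * (univ.filter (fun g : G => g • x = x)).card := by
  have h1 := Finset.card_eq_sum_card_fiberwise (f := fun g : G => g • x) (s := univ) (t := T)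
    (fun g _ => (hT _).mpr ⟨g, rfl⟩)
  rw [Finset.card_univ] at h1
  rw [h1]
  rw [Finset.sum_congr rfl (fun y hy => by
    obtain ⟨h, hh⟩ := (hT y).mp hy
    exact card_fiber_eq x y h hh)]
  rw [Finset.sum_const, smul_eq_mul]

end OrbitCount

theorem card_class_dvd {G : Type*} [Group G] [Finite G] (P : G → Prop) (x0 : G)
    (hP : ∀ y, P y ↔ IsConj x0 y) : Nat.card {g : G // P g} ∣ Nat.card G := by
  classical
  letI := Fintype.ofFinite G
  have h1 := card_eq_orbit_mul_stab (G := ConjAct G) x0 (univ.filter P) (by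
    intro y
    rw [← MulAction.mem_orbit_iff, ConjAct.mem_orbit_conjAct]
    simp only [mem_filter, mem_univ, true_and, hP]
    exact isConj_comm)
  rw [Nat.card_eq_fintype_card, Nat.card_eq_fintype_card, Fintype.card_subtype]
  rw [ConjAct.card] at h1
  exact Dvd.intro _ h1.symm

section Count

variable {G Ω : Type*} [Group G] [MulAction G Ω]

theorem zass_count [Finite G] [Fintype Ω] (hZ : IsZassenhausGroup G Ω) {a b : Ω} (hab : a ≠ b) :
    Nat.card G = Fintype.card Ω * (Fintype.card Ω - 1) *
        Nat.card ↥(MulAction.stabilizer G a ⊓ MulAction.stabilizer G b : Subgroup G) ∧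
    (2 * (Nat.card {g : G // ∀ c : Ω, g • c ≠ c} : ℤ)) =
      (Nat.card G : ℤ) - ((Fintype.card Ω : ℤ) - 1) * ((Fintype.card Ω : ℤ) - 2) := by
  classical
  letI := Fintype.ofFinite G
  set n := Fintype.card Ω with hn
  set e := Nat.card ↥(MulAction.stabilizer G a ⊓ MulAction.stabilizer G b : Subgroup G) with he
  have h3 : 3 ≤ n := zass_three_le_card hZ
  let ps : Ω → Ω → ℕ := fun c d => (univ.filter (fun g : G => g • c = c ∧ g • d = d)).card
  have he' : ps a b = e := by
    rw [he, Nat.card_eq_fintype_card, Fintype.card_subtype]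
    show (univ.filter (fun g : G => g • a = a ∧ g • b = b)).card = _
    apply congrArg Finset.card
    ext g
    simp [Subgroup.mem_inf]
  have hoff : (univ : Finset Ω).offDiag.card = n * (n - 1) := by
    rw [Finset.offDiag_card, Finset.card_univ, Nat.mul_sub, mul_one]
  have hpair : ∀ c d : Ω, c ≠ d → Fintype.card G = n * (n - 1) * ps c d := by
    intro c d hcd
    have h1 := card_eq_orbit_mul_stab (G := G) (c, d) ((univ : Finset Ω).offDiag) (by
      intro y
      rw [Finset.mem_offDiag]
      constructor
      · rintro ⟨_, _, hy⟩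
        obtain ⟨g, h1, h2⟩ := zass_two_trans hZ hcd hy
        exact ⟨g, Prod.ext h1 h2⟩
      · rintro ⟨g, rfl⟩
        exact ⟨mem_univ _, mem_univ _, fun h => hcd (MulAction.injective g h)⟩)
    rw [h1, hoff]
    congr 1
    show _ = (univ.filter (fun g : G => g • c = c ∧ g • d = d)).card
    congr 1
    ext g
    simp [Prod.ext_iff]
  have hG : Fintype.card G = n * (n - 1) * e := by rw [hpair a b hab, he']
  have hps : ∀ c d : Ω, c ≠ d → ps c d = e := by
    intro c d hcd
    have h1 := hpair c d hcd
    rw [hG] at h1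
    have hpos : 0 < n * (n - 1) := Nat.mul_pos (by omega) (by omega)
    exact (Nat.eq_of_mul_eq_mul_left hpos h1).symm
  have hstab : ∀ c : Ω, (univ.filter (fun g : G => g • c = c)).card = (n - 1) * e := by
    intro c
    have h1 := card_eq_orbit_mul_stab (G := G) c (univ : Finset Ω) (by
      intro y
      simp only [mem_univ, true_iff]
      by_cases hyc : c = y
      · exact ⟨1, by rw [one_smul, hyc]⟩
      · obtain ⟨g, h1, _⟩ := zass_two_trans hZ hyc (Ne.symm hyc)
        exact ⟨g, h1⟩)
    rw [hG, Finset.card_univ, ← hn, mul_assoc] at h1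
    exact (Nat.eq_of_mul_eq_mul_left (by omega) h1).symm
  let fx : G → ℕ := fun g => (univ.filter (fun c : Ω => g • c = c)).card
  have hfx1 : fx 1 = n := by
    show (univ.filter (fun c : Ω => (1 : G) • c = c)).card = n
    simp [hn]
  have hfx2 : ∀ g : G, g ≠ 1 → fx g ≤ 2 := by
    intro g hg
    by_contra hcon
    have h2 : 2 < (univ.filter (fun c : Ω => g • c = c)).card := not_le.mp hcon
    obtain ⟨x, y, z, hx, hy, hz, hxy, hxz, hyz⟩ := Finset.two_lt_card_iff.mp h2
    simp only [mem_filter, mem_univ, true_and] at hx hy hz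
    exact hg (zass_three hZ hxy hyz hxz hx hy hz)
  have hS1 : ∑ g : G, fx g = Fintype.card G := by
    have h1 : ∑ g : G, fx g = ∑ c : Ω, (univ.filter (fun g : G => g • c = c)).card := by
      simp only [fx, Finset.card_filter]
      rw [Finset.sum_comm]
    rw [h1, Finset.sum_congr rfl (fun c _ => hstab c), Finset.sum_const, Finset.card_univ,
      smul_eq_mul, hG, ← hn, mul_assoc]
  have hS2 : ∑ g : G, (fx g * fx g - fx g) = Fintype.card G := by
    have h1 : ∀ g : G, fx g * fx g - fx g =
        ∑ p : Ω × Ω, if (p.1 ≠ p.2 ∧ g • p.1 = p.1 ∧ g • p.2 = p.2) then 1 else 0 := by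
      intro g
      rw [← Finset.offDiag_card, ← Finset.card_filter]
      congr 1
      ext p
      simp only [Finset.mem_offDiag, mem_filter, mem_univ, true_and]
      tauto
    rw [Finset.sum_congr rfl (fun g _ => h1 g), Finset.sum_comm]
    have h2 : ∀ p : Ω × Ω,
        (∑ g : G, if (p.1 ≠ p.2 ∧ g • p.1 = p.1 ∧ g • p.2 = p.2) then 1 else 0) =
          if p ∈ (univ : Finset Ω).offDiag then e else 0 := by
      intro p
      by_cases hp : p.1 = p.2
      · simp [hp]
      · rw [if_pos (by simp [Finset.mem_offDiag, hp])]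
        rw [← hps p.1 p.2 hp]
        show _ = (univ.filter (fun g : G => g • p.1 = p.1 ∧ g • p.2 = p.2)).card
        rw [Finset.card_filter]
        apply Finset.sum_congr rfl
        intro g _
        simp [hp]
    rw [Finset.sum_congr rfl (fun p _ => h2 p), Finset.sum_ite_mem, Finset.univ_inter,
      Finset.sum_const, smul_eq_mul, hoff, hG]
  refine ⟨by rw [Nat.card_eq_fintype_card]; exact hG, ?_⟩
  have hN0 : Nat.card {g : G // ∀ c : Ω, g • c ≠ c} = (univ.filter (fun g : G => fx g = 0)).card := by
    rw [Nat.card_eq_fintype_card, Fintype.card_subtype]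
    congr 1
    ext g
    simp only [mem_filter, mem_univ, true_and, fx, Finset.card_eq_zero, Finset.filter_eq_empty_iff]
    simp
  have hw : ∀ g : G, ((fx g * fx g - fx g : ℕ) : ℤ) - 2 * (fx g : ℤ) + 2 =
      (if fx g = 0 then 2 else 0) + (if g = 1 then ((n : ℤ) - 1) * ((n : ℤ) - 2) else 0) := by
    intro g
    rw [Nat.cast_sub (Nat.le_mul_self _), Nat.cast_mul]
    by_cases hg : g = 1
    · rw [hg, hfx1, if_neg (by omega), if_pos rfl]
      ring
    · rw [if_neg hg]
      have := hfx2 g hg
      interval_cases h : fx g <;> simp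
  have hsum : ∑ g : G, (((fx g * fx g - fx g : ℕ) : ℤ) - 2 * (fx g : ℤ) + 2) =
      (Fintype.card G : ℤ) := by
    rw [Finset.sum_add_distrib, Finset.sum_sub_distrib, ← Nat.cast_sum, hS2, ← Finset.mul_sum,
      ← Nat.cast_sum, hS1, Finset.sum_const, Finset.card_univ]
    simp
    ring
  rw [Finset.sum_congr rfl (fun g _ => hw g), Finset.sum_add_distrib, Finset.sum_ite_eq',
    if_pos (mem_univ _)] at hsum
  have h5 : ∑ g : G, (if fx g = 0 then (2 : ℤ) else 0) =
      2 * ((univ.filter (fun g : G => fx g = 0)).card : ℤ) := by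
    rw [Finset.card_filter, Nat.cast_sum, Finset.mul_sum]
    apply Finset.sum_congr rfl
    intro g _
    split_ifs <;> simp
  rw [h5] at hsum
  rw [hN0, Nat.card_eq_fintype_card]
  linarith

end Count

end Cfsg.Agent.Lib.Helper21
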