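import Mathlib
import Cfsg.Agent.Lib.Helper21.ZassCount
import Cfsg.Agent.Lib.Helper42.Sec5

/-!
Zassenhaus groups: the two-point stabilizer, fusion, and the transfer into it.
-/

set_option autoImplicit false

namespace Cfsg.Agent.Lib.Helper21

open Cfsg MulAction

section Z2

variable {G Ω : Type*} [Group G] [MulAction G Ω]

/-- A non-identity element fixing `a ≠ b` has no further fixed point. -/
theorem zass_fixed_of_two (hZ : IsZassenhausGroup G Ω) {g : G} (hg : g ≠ 1) {a b c : Ω}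
    (hab : a ≠ b) (ha : g • a = a) (hb : g • b = b) (hc : g • c = c) : c = a ∨ c = b := by
  by_contra hcon
  push Not at hcon
  exact hg (zass_three hZ hab (Ne.symm hcon.2) (Ne.symm hcon.1) ha hb hc)

/-- If a non-identity element of the two-point stabilizer is conjugated into it by `g`, then `g`
fixes or swaps the two points. -/
theorem zass_conj_pair (hZ : IsZassenhausGroup G Ω) {y g : G} (hy : y ≠ 1) {a b : Ω}
    (hab : a ≠ b) (ha : y • a = a) (hb : y • b = b) (ha' : (g * y * g⁻¹) • a = a)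
    (hb' : (g * y * g⁻¹) • b = b) : (g • a = a ∧ g • b = b) ∨ (g • a = b ∧ g • b = a) := by
  have h1 : y • (g⁻¹ • a) = g⁻¹ • a := by
    rw [mul_smul, mul_smul] at ha'
    exact eq_inv_smul_iff.mpr ha'
  have h2 : y • (g⁻¹ • b) = g⁻¹ • b := by
    rw [mul_smul, mul_smul] at hb'
    exact eq_inv_smul_iff.mpr hb'
  have hne : g⁻¹ • a ≠ g⁻¹ • b := fun h => hab (MulAction.injective g⁻¹ h)
  rcases zass_fixed_of_two hZ hy hab ha hb h1 with h3 | h3 <;>
    rcases zass_fixed_of_two hZ hy hab ha hb h2 with h4 | h4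
  · exact absurd (h3.trans h4.symm) hne
  · left
    exact ⟨(inv_smul_eq_iff.mp h3).symm, (inv_smul_eq_iff.mp h4).symm⟩
  · right
    exact ⟨(inv_smul_eq_iff.mp h4).symm, (inv_smul_eq_iff.mp h3).symm⟩
  · exact absurd (h3.trans h4.symm) hne

/-- A Zassenhaus group is not abelian. -/
theorem zass_nonabelian (hZ : IsZassenhausGroup G Ω) : ∃ x y : G, x * y ≠ y * x := by
  by_contra hcon
  push Not at hcon
  obtain ⟨y, hy1, a, b, hab, ha, hb⟩ := hZ.2.2.2.1
  obtain ⟨c, hca, hcb⟩ := zass_exists_third hZ hab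
  obtain ⟨g, hga, -⟩ := zass_two_trans hZ hab hca (c := c) (d := a)
  have hc : y • c = c := by
    rw [← hga, ← mul_smul, hcon y g, mul_smul, ha]
  exact hy1 (zass_three hZ hab (Ne.symm hcb) (Ne.symm hca) ha hb hc)

/-- A homomorphism from a non-abelian simple group to a commutative group is trivial. -/
theorem hom_trivial_of_simple {G A : Type*} [Group G] [IsSimpleGroup G] [CommGroup A]
    (hna : ∃ x y : G, x * y ≠ y * x) (f : G →* A) (g : G) : f g = 1 := by
  rcases (MonoidHom.normal_ker f).eq_bot_or_eq_top with h | h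
  · exfalso
    obtain ⟨x, y, hxy⟩ := hna
    apply hxy
    have hinj : Function.Injective f := (MonoidHom.ker_eq_bot_iff f).mp h
    apply hinj
    rw [map_mul, map_mul, mul_comm]
  · have : g ∈ f.ker := by rw [h]; trivial
    exact this

variable [Finite G] [Fintype Ω]

/-- For a prime `p` dividing the order of the two-point stabilizer, `n ≡ 2 (mod p)`. -/
theorem zass_card_modEq (hZ : IsZassenhausGroup G Ω) {a b : Ω} (hab : a ≠ b) {p : ℕ}
    (hp : p.Prime) (hdvd : p ∣ Nat.card ↥(stabilizer G a ⊓ stabilizer G b : Subgroup G)) :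
    Fintype.card Ω ≡ 2 [MOD p] := by
  haveI : Fact p.Prime := ⟨hp⟩
  obtain ⟨y, hy⟩ := exists_prime_orderOf_dvd_card' p hdvd
  have hyG : orderOf (y : G) = p := by rw [Subgroup.orderOf_coe, hy]
  have hy1 : (y : G) ≠ 1 := by
    intro h
    rw [h, orderOf_one] at hyG
    exact hp.one_lt.ne hyG
  have hP : IsPGroup p (Subgroup.zpowers (y : G)) := by
    apply IsPGroup.of_card (n := 1)
    rw [Nat.card_zpowers, pow_one, hyG]
  have h1 := hP.card_modEq_card_fixedPoints Ω
  have h2 : (MulAction.fixedPoints (Subgroup.zpowers (y : G)) Ω) = {a, b} := by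
    ext c
    simp only [MulAction.mem_fixedPoints, Set.mem_insert_iff, Set.mem_singleton_iff]
    constructor
    · intro hc
      have hyc : (y : G) • c = c := hc ⟨y, Subgroup.mem_zpowers _⟩
      exact zass_fixed_of_two hZ hy1 hab y.2.1 y.2.2 hyc
    · rintro (rfl | rfl) ⟨g, hg⟩
      · have hle : Subgroup.zpowers (y : G) ≤ stabilizer G c :=
          (Subgroup.zpowers_le).mpr y.2.1
        exact hle hg
      · have hle : Subgroup.zpowers (y : G) ≤ stabilizer G c :=
          (Subgroup.zpowers_le).mpr y.2.2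
        exact hle hg
  rw [h2, Nat.card_eq_fintype_card] at h1
  have h3 : Nat.card ↥({a, b} : Set Ω) = 2 := by
    rw [Nat.card_coe_set_eq, Set.ncard_pair hab]
  rw [h3] at h1
  exact h1

/-- If the two-point stabilizer has odd order `e`, then `e` is prime to `n (n - 1)`. -/
theorem zass_coprime (hZ : IsZassenhausGroup G Ω) {a b : Ω} (hab : a ≠ b)
    (hodd : Odd (Nat.card ↥(stabilizer G a ⊓ stabilizer G b : Subgroup G))) :
    Nat.Coprime (Nat.card ↥(stabilizer G a ⊓ stabilizer G b : Subgroup G))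
      (Fintype.card Ω * (Fintype.card Ω - 1)) := by
  have h3 : 3 ≤ Fintype.card Ω := zass_three_le_card hZ
  apply Nat.coprime_of_dvd
  intro p hp hpe hpn
  have hmod := zass_card_modEq hZ hab hp hpe
  have hd2 : p ∣ Fintype.card Ω - 2 := (Nat.modEq_iff_dvd' (by omega)).mp hmod.symm
  rcases (Nat.Prime.dvd_mul hp).mp hpn with h | h
  · have h4 : p ∣ Fintype.card Ω - (Fintype.card Ω - 2) := Nat.dvd_sub h hd2
    have h5 : Fintype.card Ω - (Fintype.card Ω - 2) = 2 := by omega
    rw [h5] at h4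
    have h6 : p = 2 := (Nat.prime_dvd_prime_iff_eq hp Nat.prime_two).mp h4
    rw [h6] at hpe
    exact (Nat.not_even_iff_odd.mpr hodd) (even_iff_two_dvd.mpr hpe)
  · have h4 : p ∣ (Fintype.card Ω - 1) - (Fintype.card Ω - 2) := Nat.dvd_sub h hd2
    have h5 : (Fintype.card Ω - 1) - (Fintype.card Ω - 2) = 1 := by omega
    rw [h5] at h4
    exact hp.one_lt.ne' (Nat.dvd_one.mp h4)

/-- The index of the two-point stabilizer. -/
theorem zass_index (hZ : IsZassenhausGroup G Ω) {a b : Ω} (hab : a ≠ b) :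
    (stabilizer G a ⊓ stabilizer G b : Subgroup G).index =
      Fintype.card Ω * (Fintype.card Ω - 1) := by
  have h1 := (zass_count hZ hab).1
  have h2 := Subgroup.card_mul_index (stabilizer G a ⊓ stabilizer G b : Subgroup G)
  rw [h1, mul_comm] at h2
  exact Nat.eq_of_mul_eq_mul_right Nat.card_pos h2

omit [Finite G] [Fintype Ω] in
/-- Conjugation by an element swapping `a` and `b` preserves the two-point stabilizer. -/
theorem swap_conj_mem {τ y : G} {a b : Ω} (hτa : τ • a = b) (hτb : τ • b = a)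
    (hy : y ∈ (stabilizer G a ⊓ stabilizer G b : Subgroup G)) :
    τ * y * τ⁻¹ ∈ (stabilizer G a ⊓ stabilizer G b : Subgroup G) := by
  have ha : y • a = a := hy.1
  have hb : y • b = b := hy.2
  have h1 : τ⁻¹ • a = b := by rw [inv_smul_eq_iff, hτb]
  have h2 : τ⁻¹ • b = a := by rw [inv_smul_eq_iff, hτa]
  constructor
  · show (τ * y * τ⁻¹) • a = a
    rw [mul_smul, mul_smul, h1, hb, hτb]
  · show (τ * y * τ⁻¹) • b = b
    rw [mul_smul, mul_smul, h2, ha, hτa]

/-- Conjugation by a swapping element, as an endomorphism of the two-point stabilizer. -/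
def swapConj (τ : G) {a b : Ω} (hτa : τ • a = b) (hτb : τ • b = a) :
    (stabilizer G a ⊓ stabilizer G b : Subgroup G) →*
      (stabilizer G a ⊓ stabilizer G b : Subgroup G) where
  toFun y := ⟨τ * y * τ⁻¹, swap_conj_mem hτa hτb y.2⟩
  map_one' := Subtype.ext (by simp)
  map_mul' x y := Subtype.ext (by simp [mul_assoc])

omit [Finite G] [Fintype Ω] in
theorem swapConj_coe (τ : G) {a b : Ω} (hτa : τ • a = b) (hτb : τ • b = a)
    (y : (stabilizer G a ⊓ stabilizer G b : Subgroup G)) :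
    ((swapConj τ hτa hτb y : (stabilizer G a ⊓ stabilizer G b : Subgroup G)) : G) =
      τ * y * τ⁻¹ := rfl

/-- **Transfer lemma**: in a simple Zassenhaus group whose two-point stabilizer `E` has odd
order, an element swapping the two points inverts `E` modulo its commutator subgroup. -/
theorem zass_swap_inv (hZ : IsZassenhausGroup G Ω) [IsSimpleGroup G] {a b : Ω} (hab : a ≠ b)
    (hodd : Odd (Nat.card ↥(stabilizer G a ⊓ stabilizer G b : Subgroup G)))
    {A : Type*} [CommGroup A] (φ : (stabilizer G a ⊓ stabilizer G b : Subgroup G) →* A)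
    (τ : G) (hτa : τ • a = b) (hτb : τ • b = a)
    (y : (stabilizer G a ⊓ stabilizer G b : Subgroup G)) :
    φ y * φ (swapConj τ hτa hτb y) = 1 := by
  set κ : (stabilizer G a ⊓ stabilizer G b : Subgroup G) →* A := φ * φ.comp (swapConj τ hτa hτb) with hκ
  have hτ2 : τ * τ ∈ (stabilizer G a ⊓ stabilizer G b : Subgroup G) :=
    ⟨by show (τ * τ) • a = a; rw [mul_smul, hτa, hτb],
     by show (τ * τ) • b = b; rw [mul_smul, hτb, hτa]⟩
  have hκE : ∀ (g z : (stabilizer G a ⊓ stabilizer G b : Subgroup G)), κ (g * z * g⁻¹) = κ z := by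
    intro g z
    rw [map_mul, map_mul, map_inv, mul_inv_cancel_comm]
  have hκτ : ∀ z : (stabilizer G a ⊓ stabilizer G b : Subgroup G), κ (swapConj τ hτa hτb z) = κ z := by
    intro z
    simp only [hκ, MonoidHom.mul_apply, MonoidHom.comp_apply]
    have h1 : swapConj τ hτa hτb (swapConj τ hτa hτb z) =
        ⟨τ * τ, hτ2⟩ * z * ⟨τ * τ, hτ2⟩⁻¹ :=
      Subtype.ext (by simp [swapConj, mul_assoc])
    rw [h1, map_mul, map_mul, map_inv, mul_inv_cancel_comm, mul_comm]
  have hfus : ∀ (z g : G) (hz : z ∈ (stabilizer G a ⊓ stabilizer G b : Subgroup G)) (hg : g * z * g⁻¹ ∈ (stabilizer G a ⊓ stabilizer G b : Subgroup G)),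
      κ ⟨g * z * g⁻¹, hg⟩ = κ ⟨z, hz⟩ := by
    intro z g hz hg
    by_cases hz1 : z = 1
    · subst hz1
      have h1 : (⟨g * 1 * g⁻¹, hg⟩ : (stabilizer G a ⊓ stabilizer G b : Subgroup G)) = 1 := Subtype.ext (by simp)
      have h2 : (⟨1, hz⟩ : (stabilizer G a ⊓ stabilizer G b : Subgroup G)) = 1 := rfl
      rw [h1, h2]
    · rcases zass_conj_pair hZ hz1 hab hz.1 hz.2 hg.1 hg.2 with ⟨h1, h2⟩ | ⟨h1, h2⟩
      · have hgE : g ∈ (stabilizer G a ⊓ stabilizer G b : Subgroup G) := ⟨h1, h2⟩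
        have h3 : (⟨g * z * g⁻¹, hg⟩ : (stabilizer G a ⊓ stabilizer G b : Subgroup G)) = ⟨g, hgE⟩ * ⟨z, hz⟩ * ⟨g, hgE⟩⁻¹ := rfl
        rw [h3, hκE]
      · have hε : τ⁻¹ * g ∈ (stabilizer G a ⊓ stabilizer G b : Subgroup G) := by
          constructor
          · show (τ⁻¹ * g) • a = a
            rw [mul_smul, h1, inv_smul_eq_iff, hτa]
          · show (τ⁻¹ * g) • b = b
            rw [mul_smul, h2, inv_smul_eq_iff, hτb]
        have h3 : (⟨g * z * g⁻¹, hg⟩ : (stabilizer G a ⊓ stabilizer G b : Subgroup G)) =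
            swapConj τ hτa hτb (⟨τ⁻¹ * g, hε⟩ * ⟨z, hz⟩ * ⟨τ⁻¹ * g, hε⟩⁻¹) := by
          apply Subtype.ext
          simp [swapConj, mul_assoc]
        rw [h3, hκτ, hκE]
  have htr : MonoidHom.transfer κ (y : G) = κ y ^ (stabilizer G a ⊓ stabilizer G b : Subgroup G).index := by
    have := Helper42.transfer_eq_pow_of_key κ (y : G) y.2 (by
      intro k g₀ hk
      have hyk : (y : G) ^ k ∈ (stabilizer G a ⊓ stabilizer G b : Subgroup G) := (stabilizer G a ⊓ stabilizer G b : Subgroup G).pow_mem y.2 k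
      have h1 := hfus ((y : G) ^ k) g₀⁻¹ hyk (by rw [inv_inv]; exact hk)
      have h2 : (⟨g₀⁻¹ * (y : G) ^ k * g₀, hk⟩ : (stabilizer G a ⊓ stabilizer G b : Subgroup G)) =
          ⟨g₀⁻¹ * (y : G) ^ k * g₀⁻¹⁻¹, by rw [inv_inv]; exact hk⟩ :=
        Subtype.ext (by simp)
      rw [h2, h1, ← map_pow]
      rfl)
    exact this
  have h1 : MonoidHom.transfer κ (y : G) = 1 :=
    hom_trivial_of_simple (zass_nonabelian hZ) _ _
  have h2 : κ y ^ (stabilizer G a ⊓ stabilizer G b : Subgroup G).index = 1 := by rw [← htr, h1]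
  have h3 : κ y ^ Nat.card (stabilizer G a ⊓ stabilizer G b : Subgroup G) = 1 := by rw [← map_pow, pow_card_eq_one', map_one]
  have h4 : orderOf (κ y) ∣ (stabilizer G a ⊓ stabilizer G b : Subgroup G).index := orderOf_dvd_of_pow_eq_one h2
  have h5 : orderOf (κ y) ∣ Nat.card (stabilizer G a ⊓ stabilizer G b : Subgroup G) := orderOf_dvd_of_pow_eq_one h3
  have hcop := zass_coprime hZ hab hodd
  rw [← zass_index hZ hab] at hcop
  have h6 : orderOf (κ y) = 1 :=
    Nat.Coprime.eq_one_of_dvd (Nat.Coprime.coprime_dvd_left h5 hcop) h4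
  exact orderOf_eq_one_iff.mp h6

end Z2

end Cfsg.Agent.Lib.Helper21
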