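import Mathlib
import Cfsg.Agent.Lib.Helper21.Zass2
import Cfsg.Agent.Lib.Helper21.DadeGrp
import Cfsg.Agent.Lib.Helper83.Linear
import Cfsg.Agent.Lib.Helper35.Ind
import Cfsg.Agent.Lib.Helper4.CharDecomp

/-!
Zassenhaus groups: characters induced from linear characters of a point stabilizer (Feit).
-/

set_option autoImplicit false

namespace Cfsg.Agent.Lib.Helper21

open Cfsg MulAction
open scoped ComplexConjugate

section Z3

variable {G Ω : Type*} [Group G] [MulAction G Ω]

/-- All two-point stabilizers have the same order. -/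
theorem zass_twoStab_card [Finite G] [Fintype Ω] (hZ : IsZassenhausGroup G Ω) {a b c d : Ω}
    (hab : a ≠ b) (hcd : c ≠ d) :
    Nat.card ↥(stabilizer G c ⊓ stabilizer G d : Subgroup G) =
      Nat.card ↥(stabilizer G a ⊓ stabilizer G b : Subgroup G) := by
  have h1 := (zass_count hZ hab).1
  have h2 := (zass_count hZ hcd).1
  have h3 : 3 ≤ Fintype.card Ω := zass_three_le_card hZ
  rw [h1] at h2
  exact (Nat.eq_of_mul_eq_mul_left (Nat.mul_pos (by omega) (by omega)) h2).symm

/-- The subgroup `H` of the stabilizer of `a` is transitive on the remaining points. -/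
theorem zass_H_trans [Finite G] [Fintype Ω] (a : Ω) (H : Subgroup G)
    (hHa : H ≤ stabilizer G a) (hHcard : Nat.card H + 1 = Fintype.card Ω)
    (hHfix : ∀ u ∈ H, u ≠ 1 → ∀ c : Ω, u • c = c → c = a) {c d : Ω} (hc : c ≠ a) (hd : d ≠ a) :
    ∃ u ∈ H, u • c = d := by
  classical
  let f : H → {d : Ω // d ≠ a} := fun u => ⟨(u : G) • c, by
    intro h
    have hu : (u : G) • a = a := hHa u.2
    rw [← hu] at h
    exact hc (MulAction.injective (u : G) h)⟩
  have hinj : Function.Injective f := by
    intro u u' h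
    have h1 : (u : G) • c = (u' : G) • c := congrArg Subtype.val h
    have h2 : ((u' : G)⁻¹ * (u : G)) • c = c := by rw [mul_smul, h1, inv_smul_smul]
    by_contra hne
    have h3 : (u' : G)⁻¹ * (u : G) ≠ 1 := by
      intro h4
      apply hne
      apply Subtype.ext
      exact (inv_mul_eq_one.mp h4).symm
    exact hc (hHfix _ (H.mul_mem (H.inv_mem u'.2) u.2) h3 c h2)
  have hcard : Nat.card {d : Ω // d ≠ a} ≤ Nat.card H := by
    have h1 : Nat.card {d : Ω // d ≠ a} = Fintype.card Ω - 1 := by
      rw [Nat.card_eq_fintype_card]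
      exact Set.card_ne_eq a
    omega
  have hbij := hinj.bijective_of_nat_card_le hcard
  obtain ⟨u, hu⟩ := hbij.2 ⟨d, hd⟩
  exact ⟨u, u.2, congrArg Subtype.val hu⟩

/-- **Feit**: in a simple Zassenhaus group with two-point stabilizer of odd order, a non-principal
linear character of the point stabilizer trivial on the Frobenius kernel `H` induces
irreducibly, and the induced character is `1` on `H ∖ {1}`. -/
theorem zass_ind_irr [Fintype G] [Fintype Ω] (hZ : IsZassenhausGroup G Ω) {a b : Ω}
    (hab : a ≠ b) [IsSimpleGroup G]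
    (hodd : Odd (Nat.card ↥(stabilizer G a ⊓ stabilizer G b : Subgroup G)))
    (H : Subgroup G) (hHa : H ≤ stabilizer G a) (hHcard : Nat.card H + 1 = Fintype.card Ω)
    (hHfix : ∀ u ∈ H, u ≠ 1 → ∀ c : Ω, u • c = c → c = a)
    (μ : stabilizer G a → ℂ) (hμ : IsCharacter (stabilizer G a) μ ∧ μ 1 = 1)
    (hμH : ∀ u : stabilizer G a, (u : G) ∈ H → μ u = 1) (hμne : μ ≠ fun _ => 1) :
    IsIrrCharacter G (indFun (stabilizer G a) μ) ∧
      ∀ u ∈ H, u ≠ 1 → indFun (stabilizer G a) μ u = 1 := by
  classical
  have hμi : IsIrrCharacter (stabilizer G a) μ := isIrr_of_isChar_one hμ.1 hμ.2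
  have hmul : ∀ g g' : stabilizer G a, μ (g * g') = μ g * μ g' :=
    Helper83.irr_linear_mul hμi hμ.2
  have hnorm : ∀ g : stabilizer G a, μ g * conj (μ g) = 1 := by
    intro g
    rw [Complex.mul_conj, Complex.normSq_eq_norm_sq, Helper83.irr_linear_norm hμi hμ.2 g]
    simp
  have hinv : ∀ g : stabilizer G a, μ g⁻¹ * μ g = 1 := by
    intro g
    rw [← hmul, inv_mul_cancel, hμ.2]
  have hconjS : ∀ (s g : stabilizer G a), μ (s * g * s⁻¹) = μ g := by
    intro s g
    have h1 := hinv s⁻¹
    rw [inv_inv] at h1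
    rw [hmul, hmul, mul_comm (μ s), mul_assoc, h1, mul_one]
  have hSc : (Nat.card (stabilizer G a) : ℂ) ≠ 0 := by
    exact_mod_cast (Nat.card_pos (α := stabilizer G a)).ne'
  have hmem : ∀ (x g : G), x⁻¹ * g * x ∈ stabilizer G a ↔ g • (x • a) = x • a := by
    intro x g
    rw [mem_stabilizer_iff, mul_smul, mul_smul, inv_smul_eq_iff]
  have hcount : ∑ x : G, (if x ∈ stabilizer G a then (1 : ℂ) else 0) =
      (Nat.card (stabilizer G a) : ℂ) := by
    rw [Finset.sum_boole, Nat.card_eq_fintype_card, Fintype.card_subtype]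
  have hval : ∀ u ∈ H, u ≠ 1 → indFun (stabilizer G a) μ u = 1 := by
    intro u hu hu1
    unfold indFun
    have h1 : ∀ x : G, extendByZero (stabilizer G a) μ (x⁻¹ * u * x) =
        if x ∈ stabilizer G a then 1 else 0 := by
      intro x
      by_cases hx : x ∈ stabilizer G a
      · rw [if_pos hx]
        have hxu : x⁻¹ * u * x ∈ stabilizer G a :=
          (stabilizer G a).mul_mem ((stabilizer G a).mul_mem ((stabilizer G a).inv_mem hx)
            (hHa hu)) hx
        rw [Helper35.ext_mem (stabilizer G a) μ _ hxu]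
        have h2 : (⟨x⁻¹ * u * x, hxu⟩ : stabilizer G a) =
            (⟨x, hx⟩ : stabilizer G a)⁻¹ * ⟨u, hHa hu⟩ * ((⟨x, hx⟩ : stabilizer G a)⁻¹)⁻¹ := by
          apply Subtype.ext
          simp
        rw [h2, hconjS, hμH ⟨u, hHa hu⟩ hu]
      · rw [if_neg hx]
        apply Helper35.ext_not_mem
        intro hxu
        rw [hmem] at hxu
        exact hx (hHfix u hu hu1 _ hxu)
    rw [Finset.sum_congr rfl (fun x _ => h1 x), hcount, inv_mul_cancel₀ hSc]
  refine ⟨?_, hval⟩
  have hχc : IsCharacter G (indFun (stabilizer G a) μ) :=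
    Helper35.isCharacter_indFun (stabilizer G a) hμ.1
  have hχcf : IsClassFunction G (indFun (stabilizer G a) μ) :=
    Helper35.isClassFunction_of_isCharacter hχc
  -- the key inner sums
  have hA : ∀ x : G, ∑ y : stabilizer G a,
      extendByZero (stabilizer G a) μ (x⁻¹ * (y : G) * x) * conj (μ y) =
      if x ∈ stabilizer G a then (Nat.card (stabilizer G a) : ℂ) else 0 := by
    intro x
    by_cases hx : x ∈ stabilizer G a
    · rw [if_pos hx]
      have h1 : ∀ y : stabilizer G a,
          extendByZero (stabilizer G a) μ (x⁻¹ * (y : G) * x) * conj (μ y) = 1 := by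
        intro y
        have hxy : x⁻¹ * (y : G) * x ∈ stabilizer G a :=
          (stabilizer G a).mul_mem ((stabilizer G a).mul_mem ((stabilizer G a).inv_mem hx)
            y.2) hx
        rw [Helper35.ext_mem (stabilizer G a) μ _ hxy]
        have h2 : (⟨x⁻¹ * (y : G) * x, hxy⟩ : stabilizer G a) =
            (⟨x, hx⟩ : stabilizer G a)⁻¹ * y * ((⟨x, hx⟩ : stabilizer G a)⁻¹)⁻¹ := by
          apply Subtype.ext
          simp
        rw [h2, hconjS, hnorm]
      rw [Finset.sum_congr rfl (fun y _ => h1 y), Finset.sum_const, Finset.card_univ,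
        nsmul_eq_mul, mul_one, Nat.card_eq_fintype_card]
    · rw [if_neg hx]
      -- the point `c = x • a ≠ a`
      have hca : x • a ≠ a := fun h => hx h
      have hac : a ≠ x • a := Ne.symm hca
      have hc'a : x⁻¹ • a ≠ a := by
        intro h
        apply hca
        rw [inv_smul_eq_iff] at h
        exact h.symm
      -- an element `τ` swapping `a` and `x • a`
      obtain ⟨s, hsa, hsc⟩ := zass_two_trans hZ (Ne.symm hc'a) hac
      have hτa : (s * x⁻¹) • a = x • a := by rw [mul_smul, hsc]
      have hτc : (s * x⁻¹) • (x • a) = a := by rw [mul_smul, inv_smul_smul, hsa]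
      have hoddc : Odd (Nat.card ↥(stabilizer G a ⊓ stabilizer G (x • a) : Subgroup G)) := by
        rw [zass_twoStab_card hZ hab hac]
        exact hodd
      set φ : (stabilizer G a ⊓ stabilizer G (x • a) : Subgroup G) →* ℂˣ :=
        (Helper83.linHom hμi hμ.2).toHomUnits.comp (Subgroup.inclusion inf_le_left) with hφ
      have hφv : ∀ z : (stabilizer G a ⊓ stabilizer G (x • a) : Subgroup G),
          ((φ z : ℂˣ) : ℂ) = μ ⟨(z : G), z.2.1⟩ := fun z => rfl
      -- the key relation
      have hkey : ∀ (y : stabilizer G a) (hy : (y : G) • (x • a) = x • a)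
          (hxy : x⁻¹ * (y : G) * x ∈ stabilizer G a),
          μ ⟨x⁻¹ * (y : G) * x, hxy⟩ = conj (μ y) := by
        intro y hy hxy
        have h1 := zass_swap_inv hZ hac hoddc φ (s * x⁻¹) hτa hτc ⟨(y : G), ⟨y.2, hy⟩⟩
        have h2 := congrArg (fun u : ℂˣ => (u : ℂ)) h1
        simp only [Units.val_mul, Units.val_one] at h2
        rw [hφv, hφv] at h2
        have h3 : (⟨((swapConj (s * x⁻¹) hτa hτc ⟨(y : G), ⟨y.2, hy⟩⟩ :
            (stabilizer G a ⊓ stabilizer G (x • a) : Subgroup G)) : G), (swapConj (s * x⁻¹) hτa hτc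
              ⟨(y : G), ⟨y.2, hy⟩⟩).2.1⟩ : stabilizer G a) =
            (⟨s, hsa⟩ : stabilizer G a) * ⟨x⁻¹ * (y : G) * x, hxy⟩ *
              (⟨s, hsa⟩ : stabilizer G a)⁻¹ := by
          apply Subtype.ext
          simp [swapConj, mul_assoc]
        rw [h3, hconjS] at h2
        have h4 : μ y * conj (μ y) = 1 := hnorm y
        have h5 : μ y ≠ 0 := by
          intro h0
          rw [h0, zero_mul] at h4
          exact zero_ne_one h4
        have h6 : μ (⟨(y : G), y.2⟩ : stabilizer G a) = μ y := rfl
        rw [h6] at h2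
        exact mul_left_cancel₀ h5 (h2.trans h4.symm)
      -- rewrite the sum
      have h1 : ∀ y : stabilizer G a,
          extendByZero (stabilizer G a) μ (x⁻¹ * (y : G) * x) * conj (μ y) =
          if (y : G) • (x • a) = x • a then conj (μ y) ^ 2 else 0 := by
        intro y
        by_cases hy : (y : G) • (x • a) = x • a
        · rw [if_pos hy]
          have hxy : x⁻¹ * (y : G) * x ∈ stabilizer G a := (hmem x y).mpr hy
          rw [Helper35.ext_mem (stabilizer G a) μ _ hxy, hkey y hy hxy, sq]
        · rw [if_neg hy, Helper35.ext_not_mem (stabilizer G a) μ _ (fun h => hy ((hmem x y).mp h)),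
            zero_mul]
      rw [Finset.sum_congr rfl (fun y _ => h1 y), ← Finset.sum_filter]
      rw [Finset.sum_subtype (Finset.univ.filter
        (fun y : stabilizer G a => (y : G) • (x • a) = x • a)) (p := fun y : stabilizer G a =>
          (y : G) • (x • a) = x • a) (by simp) (fun y => conj (μ y) ^ 2)]
      let e : {y : stabilizer G a // (y : G) • (x • a) = x • a} ≃
          (stabilizer G a ⊓ stabilizer G (x • a) : Subgroup G) :=
        { toFun := fun y => ⟨(y.1 : G), ⟨y.1.2, y.2⟩⟩
          invFun := fun z => ⟨⟨(z : G), z.2.1⟩, z.2.2⟩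
          left_inv := fun y => rfl
          right_inv := fun z => rfl }
      set ν : (stabilizer G a ⊓ stabilizer G (x • a) : Subgroup G) →* ℂ :=
        (Helper83.linHom hμi hμ.2).comp (Subgroup.inclusion inf_le_left) with hν
      have hνv : ∀ z : (stabilizer G a ⊓ stabilizer G (x • a) : Subgroup G),
          ν z = μ ⟨(z : G), z.2.1⟩ := fun z => rfl
      rw [Fintype.sum_equiv e (fun y => conj (μ (y : stabilizer G a)) ^ 2)
        (fun z => conj (ν z) ^ 2) (fun y => rfl)]
      have h2 : ∀ z : (stabilizer G a ⊓ stabilizer G (x • a) : Subgroup G),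
          conj (ν z) ^ 2 = conj (ν (z ^ 2)) := by
        intro z
        rw [map_pow, map_pow]
      have hcop : (Nat.card ↥(stabilizer G a ⊓ stabilizer G (x • a) : Subgroup G)).Coprime 2 :=
        Nat.Coprime.symm (Nat.coprime_two_left.mpr hoddc)
      rw [Finset.sum_congr rfl (fun z _ => h2 z)]
      have h3 := Equiv.sum_comp (powCoprime hcop) (fun z => conj (ν z))
      have h4 : ∀ z : (stabilizer G a ⊓ stabilizer G (x • a) : Subgroup G),
          powCoprime hcop z = z ^ 2 := fun z => rfl
      simp only [h4] at h3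
      rw [h3, ← map_sum]
      -- `ν` is non-trivial
      have hνne : ν ≠ 1 := by
        intro hν1
        apply hμne
        funext g
        -- move `g • (x • a)` back by an element of `H`
        have hg : (g : G) • (x • a) ≠ a := by
          intro h
          have hga : (g : G) • a = a := g.2
          exact hca (MulAction.injective (g : G) (h.trans hga.symm))
        obtain ⟨u, hu, huc⟩ := zass_H_trans a H hHa hHcard hHfix hg hca
        have hz : u * (g : G) ∈ (stabilizer G a ⊓ stabilizer G (x • a) : Subgroup G) :=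
          ⟨(stabilizer G a).mul_mem (hHa hu) g.2, by
            show (u * (g : G)) • (x • a) = x • a
            rw [mul_smul, huc]⟩
        have h5 := congrArg (fun f : (stabilizer G a ⊓ stabilizer G (x • a) : Subgroup G) →* ℂ =>
          f ⟨u * (g : G), hz⟩) hν1
        simp only [MonoidHom.one_apply] at h5
        rw [hνv] at h5
        have h6 : (⟨u * (g : G), hz.1⟩ : stabilizer G a) = ⟨u, hHa hu⟩ * g := rfl
        rw [h6, hmul, hμH ⟨u, hHa hu⟩ hu, one_mul] at h5
        exact h5
      rw [sum_hom_units_eq_zero ν hνne, map_zero]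
  -- norm one
  have hfr : classInner (indFun (stabilizer G a) μ) (indFun (stabilizer G a) μ) =
      classInner (Helper35.res (stabilizer G a) (indFun (stabilizer G a) μ)) μ :=
    Helper35.frobenius_reciprocity' (stabilizer G a) μ _ hχcf
  have hsum : ∑ y : stabilizer G a,
      Helper35.res (stabilizer G a) (indFun (stabilizer G a) μ) y * conj (μ y) =
      (Nat.card (stabilizer G a) : ℂ) := by
    have h1 : ∀ y : stabilizer G a,
        Helper35.res (stabilizer G a) (indFun (stabilizer G a) μ) y * conj (μ y) =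
        (Nat.card (stabilizer G a) : ℂ)⁻¹ *
          ∑ x : G, extendByZero (stabilizer G a) μ (x⁻¹ * (y : G) * x) * conj (μ y) := by
      intro y
      show (Nat.card (stabilizer G a) : ℂ)⁻¹ *
        (∑ x : G, extendByZero (stabilizer G a) μ (x⁻¹ * (y : G) * x)) * conj (μ y) = _
      rw [mul_assoc, Finset.sum_mul]
    rw [Finset.sum_congr rfl (fun y _ => h1 y), ← Finset.mul_sum, Finset.sum_comm,
      Finset.sum_congr rfl (fun x _ => hA x)]
    have h2 : ∀ x : G, (if x ∈ stabilizer G a then (Nat.card (stabilizer G a) : ℂ) else 0) =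
        (Nat.card (stabilizer G a) : ℂ) * (if x ∈ stabilizer G a then (1 : ℂ) else 0) := by
      intro x
      split_ifs <;> simp
    rw [Finset.sum_congr rfl (fun x _ => h2 x), ← Finset.mul_sum, hcount, ← mul_assoc,
      inv_mul_cancel₀ hSc, one_mul]
  have hnorm1 : classInner (indFun (stabilizer G a) μ) (indFun (stabilizer G a) μ) = 1 := by
    rw [hfr]
    unfold classInner
    rw [hsum, inv_mul_cancel₀ hSc]
  have := Helper4.irr_finite (G := G)
  let _ : Fintype (IrrCharacter G) := Fintype.ofFinite _
  exact Helper4.isIrrCharacter_of_norm_one _ hχc hnorm1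

end Z3

end Cfsg.Agent.Lib.Helper21
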