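import Mathlib
import Cfsg.Agent.Lib.Helper21.Zass3

/-!
Zassenhaus groups with two-point stabilizer of odd order: involutions (Feit).
-/

set_option autoImplicit false

namespace Cfsg.Agent.Lib.Helper21

open Cfsg MulAction

section Z4

variable {G Ω : Type*} [Group G] [MulAction G Ω]

/-- An involution fixes at most one point when the two-point stabilizers have odd order. -/
theorem zass_invol_fix_le_one [Finite G] [Fintype Ω] (hZ : IsZassenhausGroup G Ω) {a b : Ω}
    (hab : a ≠ b) (hodd : Odd (Nat.card ↥(stabilizer G a ⊓ stabilizer G b : Subgroup G)))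
    {t : G} (ht : orderOf t = 2) {c d : Ω} (hc : t • c = c) (hd : t • d = d) : c = d := by
  by_contra hcd
  have hodd' : Odd (Nat.card ↥(stabilizer G c ⊓ stabilizer G d : Subgroup G)) := by
    rw [zass_twoStab_card hZ hab hcd]
    exact hodd
  have hmem : t ∈ (stabilizer G c ⊓ stabilizer G d : Subgroup G) := ⟨hc, hd⟩
  have h1 : orderOf (⟨t, hmem⟩ : ↥(stabilizer G c ⊓ stabilizer G d : Subgroup G)) ∣
      Nat.card ↥(stabilizer G c ⊓ stabilizer G d : Subgroup G) := orderOf_dvd_natCard _
  rw [Subgroup.orderOf_mk, ht] at h1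
  exact (Nat.not_even_iff_odd.mpr hodd') (even_iff_two_dvd.mpr h1)

/-- There is an involution swapping two given points. -/
theorem zass_exists_invol_swap [Finite G] [Fintype Ω] (hZ : IsZassenhausGroup G Ω) {a b : Ω}
    (hab : a ≠ b) (hodd : Odd (Nat.card ↥(stabilizer G a ⊓ stabilizer G b : Subgroup G))) :
    ∃ τ : G, orderOf τ = 2 ∧ τ • a = b ∧ τ • b = a := by
  obtain ⟨τ₀, h1, h2⟩ := zass_two_trans hZ hab (Ne.symm hab)
  have hsq : τ₀ * τ₀ ∈ (stabilizer G a ⊓ stabilizer G b : Subgroup G) :=
    ⟨by show (τ₀ * τ₀) • a = a; rw [mul_smul, h1, h2],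
     by show (τ₀ * τ₀) • b = b; rw [mul_smul, h2, h1]⟩
  have hpow : ∀ k : ℕ, (τ₀ ^ (2 * k + 1)) • a = b ∧ (τ₀ ^ (2 * k + 1)) • b = a := by
    intro k
    induction k with
    | zero => simpa using ⟨h1, h2⟩
    | succ k ih =>
      have h3 : τ₀ ^ (2 * (k + 1) + 1) = τ₀ * τ₀ * τ₀ ^ (2 * k + 1) := by
        rw [show 2 * (k + 1) + 1 = 2 + (2 * k + 1) by ring, pow_add, pow_two]
      rw [h3]
      constructor
      · rw [mul_smul, mul_smul, ih.1, h2, h1]
      · rw [mul_smul, mul_smul, ih.2, h1, h2]
  obtain ⟨k, hk⟩ := hodd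
  refine ⟨τ₀ ^ (2 * k + 1), ?_, (hpow k).1, (hpow k).2⟩
  haveI : Fact (Nat.Prime 2) := ⟨Nat.prime_two⟩
  apply orderOf_eq_prime
  · rw [← pow_mul, mul_comm, pow_mul, pow_two, ← hk]
    have h4 := congrArg Subtype.val (pow_card_eq_one'
      (x := (⟨τ₀ * τ₀, hsq⟩ : (stabilizer G a ⊓ stabilizer G b : Subgroup G))))
    simpa using h4
  · intro h
    have h5 := (hpow k).1
    rw [h, one_smul] at h5
    exact hab h5

/-- If the number of points is odd, an involution swapping `a` and `b` commutes with no
non-identity element of the two-point stabilizer. -/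
theorem zass_cent_invol_of_odd [Finite G] [Fintype Ω] (hZ : IsZassenhausGroup G Ω) {a b : Ω}
    (hab : a ≠ b) (hodd : Odd (Nat.card ↥(stabilizer G a ⊓ stabilizer G b : Subgroup G)))
    (hn : Odd (Fintype.card Ω)) {τ : G} (hτ : orderOf τ = 2) (hτa : τ • a = b)
    {y : G} (hya : y • a = a) (hyb : y • b = b) (hcomm : τ * y = y * τ) : y = 1 := by
  haveI : Fact (Nat.Prime 2) := ⟨Nat.prime_two⟩
  have hσ : (MulAction.toPerm τ : Equiv.Perm Ω) ^ 2 ^ 1 = 1 := by
    rw [pow_one]
    ext c
    simp only [Equiv.Perm.coe_pow, Equiv.Perm.coe_one, id_eq]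
    show τ • τ • c = c
    rw [← mul_smul, ← pow_two, ← hτ, pow_orderOf_eq_one, one_smul]
  have hnd : ¬ 2 ∣ Fintype.card Ω := fun h => (Nat.not_even_iff_odd.mpr hn) (even_iff_two_dvd.mpr h)
  obtain ⟨f, hf⟩ := Equiv.Perm.exists_fixed_point_of_prime (n := 1) hnd hσ
  have hf' : τ • f = f := hf
  have hfa : f ≠ a := by
    rintro rfl
    rw [hτa] at hf'
    exact hab hf'.symm
  have hfb : f ≠ b := by
    rintro rfl
    have h1 : τ • τ • a = a := by
      rw [← mul_smul, ← pow_two, ← hτ, pow_orderOf_eq_one, one_smul]
    rw [hτa, hf'] at h1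
    exact hab h1.symm
  have hyf : τ • (y • f) = y • f := by
    rw [← mul_smul, hcomm, mul_smul, hf']
  have hyf' : y • f = f := zass_invol_fix_le_one hZ hab hodd hτ hyf hf'
  exact zass_three hZ hab (Ne.symm hfb) (Ne.symm hfa) hya hyb hyf'

/-- The involutions swapping `c` and `d`: there are exactly `|E|` of them and they are all
conjugate, provided one of them has trivial centralizer in the two-point stabilizer. -/
theorem zass_invol_pair [Finite G] (c d : Ω) {τ : G} (hτ : orderOf τ = 2)
    (hτc : τ • c = d) (hτd : τ • d = c)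
    (hcent : ∀ y : G, y • c = c → y • d = d → τ * y = y * τ → y = 1) :
    Nat.card {t : G // orderOf t = 2 ∧ t • c = d} =
      Nat.card ↥(stabilizer G c ⊓ stabilizer G d : Subgroup G) ∧
    ∀ t : G, orderOf t = 2 → t • c = d → IsConj τ t := by
  have hτ2 : τ * τ = 1 := by rw [← pow_two, ← hτ, pow_orderOf_eq_one]
  let f : (stabilizer G c ⊓ stabilizer G d : Subgroup G) → {t : G // orderOf t = 2 ∧ t • c = d} :=
    fun y => ⟨(y : G) * τ * (y : G)⁻¹, by
      constructor
      · have := (MulAut.conj (y : G)).orderOf_eq τ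
        rw [MulAut.conj_apply] at this
        rw [this, hτ]
      · have h1 : (y : G)⁻¹ • c = c := inv_smul_eq_iff.mpr y.2.1.symm
        have h2 : (y : G) • d = d := y.2.2
        rw [mul_smul, mul_smul, h1, hτc, h2]⟩
  have hfinj : Function.Injective f := by
    intro y y' h
    have h0 : (y : G) * τ * (y : G)⁻¹ = (y' : G) * τ * (y' : G)⁻¹ := congrArg Subtype.val h
    have h1 : τ * ((y' : G)⁻¹ * (y : G)) = ((y' : G)⁻¹ * (y : G)) * τ := by
      calc τ * ((y' : G)⁻¹ * (y : G)) = (y' : G)⁻¹ * ((y' : G) * τ * (y' : G)⁻¹) * (y : G) := by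
            group
        _ = (y' : G)⁻¹ * ((y : G) * τ * (y : G)⁻¹) * (y : G) := by rw [h0]
        _ = ((y' : G)⁻¹ * (y : G)) * τ := by group
    have hm := (stabilizer G c ⊓ stabilizer G d : Subgroup G).mul_mem
      ((stabilizer G c ⊓ stabilizer G d : Subgroup G).inv_mem y'.2) y.2
    have h2 := hcent ((y' : G)⁻¹ * (y : G)) hm.1 hm.2 h1
    exact Subtype.ext (inv_mul_eq_one.mp h2).symm
  let g : {t : G // orderOf t = 2 ∧ t • c = d} → (stabilizer G c ⊓ stabilizer G d : Subgroup G) :=
    fun t => ⟨τ * (t : G), by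
      have htc : (t : G) • c = d := t.2.2
      have htd : (t : G) • d = c := by
        have ht2 : (t : G) * (t : G) = 1 := by
          have h3 := pow_orderOf_eq_one (t : G)
          rw [t.2.1, pow_two] at h3
          exact h3
        have h1 : ((t : G) * (t : G)) • c = c := by rw [ht2, one_smul]
        rw [mul_smul, htc] at h1
        exact h1
      exact ⟨by show (τ * (t : G)) • c = c; rw [mul_smul, htc, hτd],
        by show (τ * (t : G)) • d = d; rw [mul_smul, htd, hτc]⟩⟩
  have hginj : Function.Injective g := by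
    intro t t' h
    have h0 : τ * (t : G) = τ * (t' : G) := congrArg Subtype.val h
    exact Subtype.ext (mul_left_cancel h0)
  have hle1 := Nat.card_le_card_of_injective f hfinj
  have hle2 := Nat.card_le_card_of_injective g hginj
  refine ⟨le_antisymm hle2 hle1, ?_⟩
  intro t ht htc
  have hbij := hfinj.bijective_of_nat_card_le hle2
  obtain ⟨y, hy⟩ := hbij.2 ⟨t, ht, htc⟩
  have hy' : (y : G) * τ * (y : G)⁻¹ = t := congrArg Subtype.val hy
  exact isConj_iff.mpr ⟨(y : G), hy'⟩

/-- **Involutions in Zassenhaus groups** (counting form): if involutions swapping two points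
have trivial centralizer in the two-point stabilizer, then all involutions are conjugate and
their number `i` satisfies `i * (n - f) = n (n - 1) e`, where `f` is the number of fixed points
of an involution. -/
theorem zass_invol_count [Finite G] [Fintype Ω] (hZ : IsZassenhausGroup G Ω) {a b : Ω}
    (hab : a ≠ b) (hodd : Odd (Nat.card ↥(stabilizer G a ⊓ stabilizer G b : Subgroup G)))
    (hcent : ∀ (c d : Ω), c ≠ d → ∀ τ : G, orderOf τ = 2 → τ • c = d → τ • d = c →
      ∀ y : G, y • c = c → y • d = d → τ * y = y * τ → y = 1) :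
    (∀ x y : G, orderOf x = 2 → orderOf y = 2 → IsConj x y) ∧
    Nat.card {x : G // orderOf x = 2} *
      (if Even (Fintype.card Ω) then Fintype.card Ω else Fintype.card Ω - 1) =
      Fintype.card Ω * ((Fintype.card Ω - 1) *
        Nat.card ↥(stabilizer G a ⊓ stabilizer G b : Subgroup G)) := by
  classical
  letI := Fintype.ofFinite G
  haveI : Fact (Nat.Prime 2) := ⟨Nat.prime_two⟩
  constructor
  · -- conjugacy
    obtain ⟨τ₀, hτ₀, hτ₀a, hτ₀b⟩ := zass_exists_invol_swap hZ hab hodd
    have hconj := (zass_invol_pair a b hτ₀ hτ₀a hτ₀b (hcent a b hab τ₀ hτ₀ hτ₀a hτ₀b)).2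
    have key : ∀ x : G, orderOf x = 2 → IsConj τ₀ x := by
      intro x hx
      have hx1 : x ≠ 1 := by
        rintro rfl
        rw [orderOf_one] at hx
        omega
      have hmove : ∃ c : Ω, x • c ≠ c := by
        by_contra hno
        push Not at hno
        haveI := hZ.1
        exact hx1 (eq_of_smul_eq_smul (α := Ω) (fun c => by rw [hno c, one_smul]))
      obtain ⟨c, hc⟩ := hmove
      obtain ⟨g, hga, hgb⟩ := zass_two_trans hZ (Ne.symm hc) hab
      have h1 : orderOf (g * x * g⁻¹) = 2 := by
        have := (MulAut.conj g).orderOf_eq x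
        rw [MulAut.conj_apply] at this
        rw [this, hx]
      have h2 : (g * x * g⁻¹) • a = b := by
        have h3 : g⁻¹ • a = c := by rw [inv_smul_eq_iff, hga]
        rw [mul_smul, mul_smul, h3, hgb]
      have h4 := hconj _ h1 h2
      have h5 : IsConj x (g * x * g⁻¹) := isConj_iff.mpr ⟨g, rfl⟩
      exact h4.trans h5.symm
    intro x y hx hy
    exact (key x hx).symm.trans (key y hy)
  · -- counting
    set n := Fintype.card Ω with hn
    set e := Nat.card ↥(stabilizer G a ⊓ stabilizer G b : Subgroup G) with he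
    set I : Finset G := Finset.univ.filter (fun t : G => orderOf t = 2) with hI
    have hIcard : Nat.card {x : G // orderOf x = 2} = I.card := by
      rw [Nat.card_eq_fintype_card, Fintype.card_subtype]
    have hcol : ∀ c : Ω, (I.filter (fun t => t • c ≠ c)).card = (n - 1) * e := by
      intro c
      have hmaps : ((I.filter (fun t => t • c ≠ c) : Finset G) : Set G).MapsTo
          (fun t => t • c) ((Finset.univ.erase c : Finset Ω) : Set Ω) := by
        intro t ht
        simp only [Finset.coe_filter, Set.mem_setOf_eq] at ht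
        simp only [Finset.coe_erase, Finset.coe_univ, Set.mem_diff, Set.mem_univ,
          Set.mem_singleton_iff, true_and]
        exact ht.2
      rw [Finset.card_eq_sum_card_fiberwise hmaps]
      have hfib : ∀ d ∈ (Finset.univ.erase c : Finset Ω),
          ((I.filter (fun t => t • c ≠ c)).filter (fun t => t • c = d)).card = e := by
        intro d hd
        have hdc : d ≠ c := Finset.ne_of_mem_erase hd
        have hcd : c ≠ d := Ne.symm hdc
        have hodd' : Odd (Nat.card ↥(stabilizer G c ⊓ stabilizer G d : Subgroup G)) := by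
          rw [zass_twoStab_card hZ hab hcd]
          exact hodd
        obtain ⟨τ, hτ, hτc, hτd⟩ := zass_exists_invol_swap hZ hcd hodd'
        have h1 := (zass_invol_pair c d hτ hτc hτd (hcent c d hcd τ hτ hτc hτd)).1
        rw [zass_twoStab_card hZ hab hcd] at h1
        rw [he, ← h1, Nat.card_eq_fintype_card, Fintype.card_subtype]
        congr 1
        ext t
        simp only [Finset.mem_filter, Finset.mem_univ, true_and, hI]
        constructor
        · rintro ⟨⟨h2, -⟩, h3⟩
          exact ⟨h2, h3⟩
        · rintro ⟨h2, h3⟩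
          exact ⟨⟨h2, by rw [h3]; exact hdc⟩, h3⟩
      rw [Finset.sum_congr rfl hfib, Finset.sum_const, Finset.card_erase_of_mem (Finset.mem_univ c),
        Finset.card_univ, smul_eq_mul]
    have hrow : ∀ t ∈ I, (Finset.univ.filter (fun c : Ω => t • c ≠ c)).card =
        (if Even n then n else n - 1) := by
      intro t htI
      have ht : orderOf t = 2 := by
        simpa [hI] using htI
      have hsplit : (Finset.univ.filter (fun c : Ω => t • c = c)).card +
          (Finset.univ.filter (fun c : Ω => t • c ≠ c)).card = n := by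
        have h := Finset.card_filter_add_card_filter_not (s := (Finset.univ : Finset Ω))
          (fun c => t • c = c)
        rw [Finset.card_univ] at h
        exact h
      have hle : (Finset.univ.filter (fun c : Ω => t • c = c)).card ≤ 1 := by
        apply Finset.card_le_one.mpr
        intro c hc d hd
        simp only [Finset.mem_filter, Finset.mem_univ, true_and] at hc hd
        exact zass_invol_fix_le_one hZ hab hodd ht hc hd
      have hσ : (MulAction.toPerm t : Equiv.Perm Ω) ^ 2 ^ 1 = 1 := by
        rw [pow_one]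
        ext c
        simp only [Equiv.Perm.coe_pow, Equiv.Perm.coe_one, id_eq]
        show t • t • c = c
        rw [← mul_smul, ← pow_two, ← ht, pow_orderOf_eq_one, one_smul]
      by_cases hpar : Even n
      · rw [if_pos hpar]
        have h0 : (Finset.univ.filter (fun c : Ω => t • c = c)).card = 0 := by
          by_contra hne
          obtain ⟨c, hc⟩ := Finset.card_pos.mp (Nat.pos_of_ne_zero hne)
          simp only [Finset.mem_filter, Finset.mem_univ, true_and] at hc
          obtain ⟨d, hd, hdc⟩ := Equiv.Perm.exists_fixed_point_of_prime' (n := 1)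
            (even_iff_two_dvd.mp hpar) hσ (a := c) hc
          exact hdc (zass_invol_fix_le_one hZ hab hodd ht hd hc)
        omega
      · rw [if_neg hpar]
        have h1 : 0 < (Finset.univ.filter (fun c : Ω => t • c = c)).card := by
          obtain ⟨f, hf⟩ := Equiv.Perm.exists_fixed_point_of_prime (n := 1)
            (fun h => hpar (even_iff_two_dvd.mpr h)) hσ
          exact Finset.card_pos.mpr ⟨f, by simpa using hf⟩
        omega
    have hdc := Finset.sum_card_bipartiteAbove_eq_sum_card_bipartiteBelow (s := I)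
      (t := (Finset.univ : Finset Ω)) (r := fun t c => t • c ≠ c)
    simp only [Finset.bipartiteAbove, Finset.bipartiteBelow] at hdc
    rw [Finset.sum_congr rfl hrow, Finset.sum_congr rfl (fun c _ => hcol c), Finset.sum_const,
      Finset.sum_const, Finset.card_univ, smul_eq_mul, smul_eq_mul] at hdc
    rw [hIcard]
    exact hdc

end Z4

end Cfsg.Agent.Lib.Helper21
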