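import Mathlib
import Cfsg.Prelude.Def_LieExceptional

/-!
Elementary facts about Zassenhaus groups (as permutation groups).
-/

set_option autoImplicit false

namespace Cfsg.Agent.Lib.Helper21

open Cfsg

variable {G Ω : Type*} [Group G] [MulAction G Ω]

theorem zass_two_trans (hZ : IsZassenhausGroup G Ω) {a b c d : Ω} (hab : a ≠ b) (hcd : c ≠ d) :
    ∃ g : G, g • a = c ∧ g • b = d :=
  MulAction.is_two_pretransitive_iff.mp hZ.2.1 hab hcd

theorem zass_three (hZ : IsZassenhausGroup G Ω) {g : G} {a b c : Ω} (hab : a ≠ b) (hbc : b ≠ c)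
    (hac : a ≠ c) (ha : g • a = a) (hb : g • b = b) (hc : g • c = c) : g = 1 :=
  hZ.2.2.1 g a b c hab hbc hac ha hb hc

theorem conj_ne_one {g y : G} (hy : y ≠ 1) : g * y * g⁻¹ ≠ 1 := by
  intro h
  apply hy
  have : y = g⁻¹ * (g * y * g⁻¹) * g := by group
  rw [this, h]
  group

theorem zass_exists_ne_one (hZ : IsZassenhausGroup G Ω) {a b : Ω} (hab : a ≠ b) :
    ∃ x : G, x ≠ 1 ∧ x • a = a ∧ x • b = b := by
  obtain ⟨y, hy1, c, d, hcd, hc, hd⟩ := hZ.2.2.2.1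
  obtain ⟨g, hga, hgb⟩ := zass_two_trans hZ hcd hab
  refine ⟨g * y * g⁻¹, conj_ne_one hy1, ?_, ?_⟩
  · rw [← hga]
    simp [mul_smul, hc]
  · rw [← hgb]
    simp [mul_smul, hd]

theorem zass_exists_third (hZ : IsZassenhausGroup G Ω) {a b : Ω} (hab : a ≠ b) :
    ∃ c : Ω, c ≠ a ∧ c ≠ b := by
  by_contra hcon
  have hcon' : ∀ c : Ω, c ≠ a → c = b := by
    intro c hca
    by_contra hcb
    exact hcon ⟨c, hca, hcb⟩
  obtain ⟨x, hx1, hxa, hxb⟩ := zass_exists_ne_one hZ hab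
  apply hx1
  haveI := hZ.1
  apply FaithfulSMul.eq_of_smul_eq_smul (α := Ω)
  intro c
  rw [one_smul]
  by_cases hca : c = a
  · rw [hca, hxa]
  · rw [hcon' c hca, hxb]

theorem zass_exists_pair (hZ : IsZassenhausGroup G Ω) : ∃ a b : Ω, a ≠ b := by
  obtain ⟨y, hy1, c, d, hcd, hc, hd⟩ := hZ.2.2.2.1
  exact ⟨c, d, hcd⟩

theorem zass_three_le_card [Fintype Ω] (hZ : IsZassenhausGroup G Ω) : 3 ≤ Fintype.card Ω := by
  obtain ⟨a, b, hab⟩ := zass_exists_pair hZ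
  obtain ⟨c, hca, hcb⟩ := zass_exists_third hZ hab
  exact Fintype.two_lt_card_iff.mpr ⟨a, b, c, hab, Ne.symm hca, Ne.symm hcb⟩

end Cfsg.Agent.Lib.Helper21
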