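import Cfsg.Agent.Lib.Helper21.Zass5

/-!
# Zassenhaus groups without normal `q`-complements: the two-point stabilizer is inverted
-/

set_option autoImplicit false

namespace Cfsg.Agent.Lib.Helper21

open Cfsg MulAction

/-- An endomorphism of `q'`-order of a finite cyclic `q`-group that fixes a non-identity
element is the identity. -/
theorem cyclic_aut_fix {Q : Type*} [Group Q] [Finite Q] [IsCyclic Q] {q : ℕ} (hq : q.Prime)
    (hQ : IsPGroup q Q) (α : Q →* Q) (m : ℕ) (hm : ¬ q ∣ m) (hαm : ∀ w, (α^[m]) w = w)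
    (u : Q) (hu : u ≠ 1) (hfix : α u = u) : ∀ w, α w = w := by
  haveI : Fact q.Prime := ⟨hq⟩
  obtain ⟨t, ht⟩ := MonoidHom.map_cyclic α
  obtain ⟨k, hk⟩ := IsPGroup.iff_card.mp hQ
  have hiter : ∀ (j : ℕ) (w : Q), (α^[j]) w = w ^ (t ^ j) := by
    intro j
    induction j with
    | zero => intro w; simp
    | succ j ih =>
      intro w
      rw [Function.iterate_succ_apply', ih, ht, ← zpow_mul, pow_succ]
  -- `q ∣ t - 1`
  have h1 : ((q : ℕ) : ℤ) ∣ t - 1 := by
    have h2 : u ^ (t - 1) = 1 := by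
      rw [zpow_sub, zpow_one, ← ht, hfix, mul_inv_cancel]
    have h3 : ((orderOf u : ℕ) : ℤ) ∣ t - 1 := orderOf_dvd_iff_zpow_eq_one.mpr h2
    have h4 : q ∣ orderOf u := by
      obtain ⟨j, hj⟩ := hQ u
      have h5 : orderOf u ∣ q ^ j := orderOf_dvd_of_pow_eq_one hj
      obtain ⟨i, _, hi⟩ := (Nat.dvd_prime_pow hq).mp h5
      have hi0 : i ≠ 0 := by
        rintro rfl
        rw [pow_zero, orderOf_eq_one_iff] at hi
        exact hu hi
      rw [hi]
      exact dvd_pow_self q hi0
    exact dvd_trans (Int.natCast_dvd_natCast.mpr h4) h3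
  -- `q ^ k ∣ t ^ m - 1`
  have h2 : ((q ^ k : ℕ) : ℤ) ∣ t ^ m - 1 := by
    obtain ⟨g, hg⟩ := IsCyclic.exists_generator (α := Q)
    have h3 : g ^ (t ^ m - 1) = 1 := by
      rw [zpow_sub, zpow_one, ← hiter, hαm, mul_inv_cancel]
    have h4 : ((orderOf g : ℕ) : ℤ) ∣ t ^ m - 1 := orderOf_dvd_iff_zpow_eq_one.mpr h3
    have h5 : orderOf g = Nat.card Q := orderOf_eq_card_of_forall_mem_zpowers hg
    rw [h5, hk] at h4
    exact h4
  -- the geometric sum is prime to `q`
  have h3 : ¬ ((q : ℕ) : ℤ) ∣ ∑ i ∈ Finset.range m, t ^ i := by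
    intro hdvd
    have h4 : ((q : ℕ) : ℤ) ∣ ∑ i ∈ Finset.range m, (t ^ i - 1) := by
      apply Finset.dvd_sum
      intro i _
      exact dvd_trans h1 (by simpa using sub_dvd_pow_sub_pow t 1 i)
    rw [Finset.sum_sub_distrib] at h4
    have h5 : ((q : ℕ) : ℤ) ∣ ∑ i ∈ Finset.range m, (1 : ℤ) := (dvd_sub_right hdvd).mp h4
    rw [Finset.sum_const, Finset.card_range, nsmul_eq_mul, mul_one] at h5
    exact hm (Int.natCast_dvd_natCast.mp h5)
  have h4 : IsCoprime ((q : ℕ) : ℤ) (∑ i ∈ Finset.range m, t ^ i) :=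
    ((Nat.prime_iff_prime_int.mp hq).irreducible.coprime_iff_not_dvd).mpr h3
  have h5 : ((q ^ k : ℕ) : ℤ) ∣ t - 1 := by
    have h6 : IsCoprime (((q : ℕ) : ℤ) ^ k) (∑ i ∈ Finset.range m, t ^ i) := h4.pow_left
    rw [← geom_sum_mul] at h2
    push_cast
    exact h6.dvd_of_dvd_mul_left h2
  intro w
  have h6 : w ^ (t - 1) = 1 := by
    rw [← orderOf_dvd_iff_zpow_eq_one]
    refine dvd_trans (Int.natCast_dvd_natCast.mpr ?_) h5
    rw [← hk]
    exact orderOf_dvd_natCard w
  rw [ht]
  have h7 : w ^ t = w ^ (t - 1) * w := by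
    rw [zpow_sub, zpow_one, inv_mul_cancel_right]
  rw [h7, h6, one_mul]

section Z7

variable {G Ω : Type*} [Group G] [MulAction G Ω]

/-- The homomorphism `y ↦ φ y * φ (τ y τ⁻¹)` on the two-point stabilizer is invariant under
fusion in `G`. -/
theorem zass_kappa_fus (hZ : IsZassenhausGroup G Ω) {a b : Ω} (hab : a ≠ b)
    {A : Type*} [CommGroup A] (φ : (stabilizer G a ⊓ stabilizer G b : Subgroup G) →* A)
    (τ : G) (hτa : τ • a = b) (hτb : τ • b = a) (z g : G)
    (hz : z ∈ (stabilizer G a ⊓ stabilizer G b : Subgroup G))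
    (hg : g * z * g⁻¹ ∈ (stabilizer G a ⊓ stabilizer G b : Subgroup G)) :
    (φ * φ.comp (swapConj τ hτa hτb)) ⟨g * z * g⁻¹, hg⟩ =
      (φ * φ.comp (swapConj τ hτa hτb)) ⟨z, hz⟩ := by
  set κ : (stabilizer G a ⊓ stabilizer G b : Subgroup G) →* A := φ * φ.comp (swapConj τ hτa hτb) with hκ
  have hτ2 : τ * τ ∈ (stabilizer G a ⊓ stabilizer G b : Subgroup G) :=
    ⟨by show (τ * τ) • a = a; rw [mul_smul, hτa, hτb],
     by show (τ * τ) • b = b; rw [mul_smul, hτb, hτa]⟩
  have hκE : ∀ (g z : (stabilizer G a ⊓ stabilizer G b : Subgroup G)), κ (g * z * g⁻¹) = κ z := by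
    intro g z
    rw [map_mul, map_mul, map_inv, mul_inv_cancel_comm]
  have hκτ : ∀ z : (stabilizer G a ⊓ stabilizer G b : Subgroup G), κ (swapConj τ hτa hτb z) = κ z := by
    intro z
    simp only [hκ, MonoidHom.mul_apply, MonoidHom.comp_apply]
    have h1 : swapConj τ hτa hτb (swapConj τ hτa hτb z) =
        ⟨τ * τ, hτ2⟩ * z * ⟨τ * τ, hτ2⟩⁻¹ :=
      Subtype.ext (by simp [swapConj, mul_assoc])
    rw [h1, map_mul, map_mul, map_inv, mul_inv_cancel_comm, mul_comm]
  by_cases hz1 : z = 1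
  · subst hz1
    have h1 : (⟨g * 1 * g⁻¹, hg⟩ : (stabilizer G a ⊓ stabilizer G b : Subgroup G)) = 1 := Subtype.ext (by simp)
    have h2 : (⟨1, hz⟩ : (stabilizer G a ⊓ stabilizer G b : Subgroup G)) = 1 := rfl
    rw [h1, h2]
  · rcases zass_conj_pair hZ hz1 hab hz.1 hz.2 hg.1 hg.2 with ⟨h1, h2⟩ | ⟨h1, h2⟩
    · have hgE : g ∈ (stabilizer G a ⊓ stabilizer G b : Subgroup G) := ⟨h1, h2⟩
      have h3 : (⟨g * z * g⁻¹, hg⟩ : (stabilizer G a ⊓ stabilizer G b : Subgroup G)) = ⟨g, hgE⟩ * ⟨z, hz⟩ * ⟨g, hgE⟩⁻¹ := rfl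
      rw [h3, hκE]
    · have hε : τ⁻¹ * g ∈ (stabilizer G a ⊓ stabilizer G b : Subgroup G) := by
        constructor
        · show (τ⁻¹ * g) • a = a
          rw [mul_smul, h1, inv_smul_eq_iff, hτa]
        · show (τ⁻¹ * g) • b = b
          rw [mul_smul, h2, inv_smul_eq_iff, hτb]
      have h3 : (⟨g * z * g⁻¹, hg⟩ : (stabilizer G a ⊓ stabilizer G b : Subgroup G)) =
          swapConj τ hτa hτb (⟨τ⁻¹ * g, hε⟩ * ⟨z, hz⟩ * ⟨τ⁻¹ * g, hε⟩⁻¹) := by
        apply Subtype.ext
        simp [swapConj, mul_assoc]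
      rw [h3, hκτ, hκE]

/-- If `G` has no normal `q`-complement for any prime `q` dividing the (odd) order of the
two-point stabilizer `E`, then an element swapping the two points inverts `E` modulo its
commutator subgroup. -/
theorem zass_swap_inv_of_nil [Finite G] [Fintype Ω] (hZ : IsZassenhausGroup G Ω) {a b : Ω}
    (hab : a ≠ b)
    (hodd : Odd (Nat.card ↥(stabilizer G a ⊓ stabilizer G b : Subgroup G)))
    (hnil : ∀ q : ℕ, q.Prime →
      q ∣ Nat.card ↥(stabilizer G a ⊓ stabilizer G b : Subgroup G) →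
      ¬ ∃ N : Subgroup G, N.Normal ∧ N.index = q ^ (Nat.card G).factorization q)
    {A : Type*} [CommGroup A] (φ : (stabilizer G a ⊓ stabilizer G b : Subgroup G) →* A)
    (τ : G) (hτa : τ • a = b) (hτb : τ • b = a)
    (y : (stabilizer G a ⊓ stabilizer G b : Subgroup G)) :
    φ y * φ (swapConj τ hτa hτb y) = 1 := by
  haveI := zass_twoStab_isZGroup hZ hab hodd
  set κ : (stabilizer G a ⊓ stabilizer G b : Subgroup G) →* A := φ * φ.comp (swapConj τ hτa hτb) with hκ
  have hfus := zass_kappa_fus hZ hab φ τ hτa hτb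
  rw [← hκ] at hfus
  show κ y = 1
  by_contra hne
  have hK1 : κ.ker.index ≠ 1 := by
    intro h1
    have h2 : κ.ker = ⊤ := Subgroup.index_eq_one.mp h1
    have h3 : y ∈ κ.ker := by rw [h2]; trivial
    exact hne h3
  obtain ⟨q, hq, hqdvd⟩ := Nat.exists_prime_and_dvd hK1
  haveI : Fact q.Prime := ⟨hq⟩
  have hqE : q ∣ Nat.card ↥(stabilizer G a ⊓ stabilizer G b : Subgroup G) :=
    dvd_trans hqdvd (Subgroup.index_dvd_card _)
  obtain ⟨P₀⟩ : Nonempty (Sylow q ↥(stabilizer G a ⊓ stabilizer G b : Subgroup G)) := inferInstance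
  -- the image `PG` of `P₀` in `G`
  obtain ⟨PG, hPG⟩ : ∃ PG : Subgroup G, PG = (P₀ : Subgroup ↥(stabilizer G a ⊓ stabilizer G b : Subgroup G)).map
      (stabilizer G a ⊓ stabilizer G b : Subgroup G).subtype := ⟨_, rfl⟩
  have hidx : ¬ q ∣ PG.index := by
    rw [hPG, Subgroup.index_map_subtype]
    intro h
    rcases (Nat.Prime.dvd_mul hq).mp h with h | h
    · exact P₀.not_dvd_index h
    · have hcop := zass_coprime hZ hab hodd
      rw [← zass_index hZ hab] at hcop
      have h2 := Nat.dvd_gcd hqE h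
      rw [Nat.Coprime.gcd_eq_one hcop] at h2
      exact hq.one_lt.ne' (Nat.dvd_one.mp h2)
  have hPp : IsPGroup q ↥PG := by
    rw [hPG]
    exact P₀.2.map _
  have hPGle : PG ≤ (stabilizer G a ⊓ stabilizer G b : Subgroup G) := by
    rw [hPG]
    exact Subgroup.map_subtype_le _
  have hPGmem : ∀ w : (stabilizer G a ⊓ stabilizer G b : Subgroup G),
      w ∈ (P₀ : Subgroup ↥(stabilizer G a ⊓ stabilizer G b : Subgroup G)) ↔ (w : G) ∈ PG := by
    intro w
    rw [hPG]
    constructor
    · intro hw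
      exact ⟨w, hw, rfl⟩
    · rintro ⟨w', hw', hww⟩
      have : w' = w := Subtype.ext hww
      rw [← this]
      exact hw'
  haveI hcycPG : IsCyclic ↥PG := by
    haveI : IsCyclic ↥(P₀ : Subgroup ↥(stabilizer G a ⊓ stabilizer G b : Subgroup G)) :=
      IsZGroup.isZGroup q hq P₀
    have e := Subgroup.equivMapOfInjective
      (P₀ : Subgroup ↥(stabilizer G a ⊓ stabilizer G b : Subgroup G))
      (stabilizer G a ⊓ stabilizer G b : Subgroup G).subtype (Subgroup.subtype_injective _)
    rw [← hPG] at e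
    exact isCyclic_of_surjective e.toMonoidHom e.surjective
  -- Burnside
  have hnotle : ¬ (Subgroup.normalizer (PG : Set G) ≤ Subgroup.centralizer (PG : Set G)) := by
    intro hP
    apply hnil q hq hqE
    let P : Sylow q G := IsPGroup.toSylow hPp hidx
    have hPc : ((P : Subgroup G) : Set G) = (PG : Set G) := rfl
    have hP' : Subgroup.normalizer ((P : Subgroup G) : Set G) ≤
        Subgroup.centralizer ((P : Subgroup G) : Set G) := hP
    refine ⟨(MonoidHom.transferSylow P hP').ker, MonoidHom.normal_ker _, ?_⟩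
    rw [← P.card_eq_multiplicity]
    exact (MonoidHom.ker_transferSylow_isComplement' P hP').symm.index_eq_card
  obtain ⟨x, hxN, hxC⟩ := SetLike.not_le_iff_exists.mp hnotle
  rw [Subgroup.mem_centralizer_iff] at hxC
  push Not at hxC
  obtain ⟨u₀, hu₀P, hu₀⟩ := hxC
  have hxconj : ∀ w : G, w ∈ PG → x * w * x⁻¹ ∈ PG := fun w hw =>
    (Subgroup.mem_normalizer_iff.mp hxN w).mp hw
  -- the automorphism
  let α : ↥PG →* ↥PG :=
    { toFun := fun w => ⟨x * w * x⁻¹, hxconj w w.2⟩
      map_one' := Subtype.ext (by simp)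
      map_mul' := fun w₁ w₂ => Subtype.ext (by simp [mul_assoc]) }
  have hα : ∀ w : ↥PG, ((α w : ↥PG) : G) = x * w * x⁻¹ := fun w => rfl
  have hcommPG : ∀ w₁ w₂ : ↥PG, w₁ * w₂ = w₂ * w₁ := fun w₁ w₂ =>
    (IsCyclic.commGroup (α := ↥PG)).mul_comm w₁ w₂
  have hiter : ∀ (j : ℕ) (w : ↥PG), (((α^[j]) w : ↥PG) : G) = x ^ j * w * (x ^ j)⁻¹ := by
    intro j
    induction j with
    | zero => intro w; simp
    | succ j ih =>
      intro w
      rw [Function.iterate_succ_apply', hα, ih, pow_succ']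
      group
  -- `x ^ m ∈ PG` for `m` the index of `PG` in its normalizer
  have hpow : x ^ (PG.subgroupOf (Subgroup.normalizer (PG : Set G))).index ∈ PG := by
    haveI : (PG.subgroupOf (Subgroup.normalizer (PG : Set G))).Normal :=
      Subgroup.normal_in_normalizer
    have h1 := Subgroup.pow_index_mem (PG.subgroupOf (Subgroup.normalizer (PG : Set G)))
      (⟨x, hxN⟩ : ↥(Subgroup.normalizer (PG : Set G)))
    rw [Subgroup.mem_subgroupOf] at h1
    simpa using h1
  have hm : ¬ q ∣ (PG.subgroupOf (Subgroup.normalizer (PG : Set G))).index := by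
    intro h
    exact hidx (dvd_trans h (Subgroup.relIndex_dvd_index_of_le Subgroup.le_normalizer))
  have hαm : ∀ w : ↥PG,
      (α^[(PG.subgroupOf (Subgroup.normalizer (PG : Set G))).index]) w = w := by
    intro w
    apply Subtype.ext
    rw [hiter]
    have h1 := hcommPG ⟨_, hpow⟩ w
    have h2 := congrArg Subtype.val h1
    simp only [Subgroup.coe_mul] at h2
    rw [h2, mul_inv_cancel_right]
  have hfpf : ∀ u : ↥PG, α u = u → u = 1 := by
    intro u hu
    by_contra hu1
    have h1 := cyclic_aut_fix hq hPp α _ hm hαm u hu1 hu ⟨u₀, hu₀P⟩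
    have h2 := congrArg Subtype.val h1
    rw [hα] at h2
    apply hu₀
    show u₀ * x = x * u₀
    have h3 : x * u₀ * x⁻¹ = u₀ := h2
    calc u₀ * x = (x * u₀ * x⁻¹) * x := by rw [h3]
      _ = x * u₀ := by group
  have hinj : Function.Injective (fun u : ↥PG => u⁻¹ * α u) := by
    intro u v huv
    have h1 : u⁻¹ * α u = v⁻¹ * α v := huv
    have h2 : α (v * u⁻¹) = v * u⁻¹ := by
      rw [map_mul, map_inv]
      have h3 : α v = v * (u⁻¹ * α u) := by rw [h1, mul_inv_cancel_left]
      rw [h3]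
      group
    have h4 := hfpf _ h2
    exact (mul_inv_eq_one.mp h4).symm
  have hsurj : Function.Surjective (fun u : ↥PG => u⁻¹ * α u) :=
    Finite.surjective_of_injective hinj
  -- `κ` is trivial on `P₀`
  have hP₀ : (P₀ : Subgroup ↥(stabilizer G a ⊓ stabilizer G b : Subgroup G)) ≤ κ.ker := by
    intro w hw
    rw [MonoidHom.mem_ker]
    have hwPG : (w : G) ∈ PG := (hPGmem w).mp hw
    obtain ⟨u, hu⟩ := hsurj ⟨(w : G), hwPG⟩
    have hu' : (u : G)⁻¹ * (x * u * x⁻¹) = (w : G) := congrArg Subtype.val hu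
    have huE : (u : G) ∈ (stabilizer G a ⊓ stabilizer G b : Subgroup G) := hPGle u.2
    have hxuE : x * (u : G) * x⁻¹ ∈ (stabilizer G a ⊓ stabilizer G b : Subgroup G) :=
      hPGle (hxconj u u.2)
    have hw' : w = (⟨(u : G), huE⟩ : (stabilizer G a ⊓ stabilizer G b : Subgroup G))⁻¹ *
        ⟨x * (u : G) * x⁻¹, hxuE⟩ := Subtype.ext hu'.symm
    rw [hw', map_mul, map_inv, hfus (u : G) x huE hxuE, inv_mul_cancel]
  exact P₀.not_dvd_index (dvd_trans hqdvd (Subgroup.index_dvd_of_le hP₀))

/-- In a Zassenhaus group whose two-point stabilizer `E` has odd order, if an element `τ`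
swapping the two points inverts `E` modulo its commutator subgroup, then `τ` commutes with no
non-identity element of `E`. -/
theorem zass_cent_swap_of_inv [Finite G] [Fintype Ω] (hZ : IsZassenhausGroup G Ω)
    {c d : Ω} (hcd : c ≠ d)
    (hodd : Odd (Nat.card ↥(stabilizer G c ⊓ stabilizer G d : Subgroup G)))
    {τ : G} (hτc : τ • c = d) (hτd : τ • d = c)
    (hK : ∀ y' : (stabilizer G c ⊓ stabilizer G d : Subgroup G),
      (Abelianization.of y' : Abelianization ↥(stabilizer G c ⊓ stabilizer G d : Subgroup G)) *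
        Abelianization.of (swapConj τ hτc hτd y') = 1)
    {y : G} (hyc : y • c = c) (hyd : y • d = d)
    (hcomm : τ * y = y * τ) : y = 1 := by
  haveI := zass_twoStab_isZGroup hZ hcd hodd
  have hcop2 : (Nat.card ↥(stabilizer G c ⊓ stabilizer G d : Subgroup G)).Coprime 2 :=
    Nat.Coprime.symm (Nat.coprime_two_left.mpr hodd)
  set y' : (stabilizer G c ⊓ stabilizer G d : Subgroup G) := ⟨y, hyc, hyd⟩ with hy'
  set sc := swapConj τ hτc hτd with hsc
  have hscy : sc y' = y' := by
    apply Subtype.ext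
    show τ * y * τ⁻¹ = y
    rw [hcomm, mul_inv_cancel_right]
  have hmemA : ∀ g : (stabilizer G c ⊓ stabilizer G d : Subgroup G),
      Abelianization.of g = 1 → g ∈ commutator ↥(stabilizer G c ⊓ stabilizer G d : Subgroup G) := by
    intro g hg
    rw [← Abelianization.ker_of]
    exact hg
  -- (a) `y'` lies in the commutator subgroup
  have hyA : y' ∈ commutator ↥(stabilizer G c ⊓ stabilizer G d : Subgroup G) := by
    apply hmemA
    have h1 := hK y'
    rw [hscy, ← pow_two] at h1
    have h2 : (Abelianization.of y') ^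
        Nat.card ↥(stabilizer G c ⊓ stabilizer G d : Subgroup G) = 1 := by
      rw [← map_pow, pow_card_eq_one', map_one]
    have h3 : orderOf (Abelianization.of y') ∣ 2 := orderOf_dvd_of_pow_eq_one h1
    have h4 : orderOf (Abelianization.of y') ∣
        Nat.card ↥(stabilizer G c ⊓ stabilizer G d : Subgroup G) := orderOf_dvd_of_pow_eq_one h2
    exact orderOf_eq_one_iff.mp (Nat.Coprime.eq_one_of_dvd
      (Nat.Coprime.coprime_dvd_left h4 hcop2) h3)
  -- the commutator subgroup is cyclic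
  haveI hcyc : IsCyclic ↥(commutator ↥(stabilizer G c ⊓ stabilizer G d : Subgroup G)) :=
    IsZGroup.isCyclic_commutator _
  obtain ⟨a₀, ha₀⟩ := IsCyclic.exists_generator
    (α := ↥(commutator ↥(stabilizer G c ⊓ stabilizer G d : Subgroup G)))
  have hAcomm : ∀ u v : (stabilizer G c ⊓ stabilizer G d : Subgroup G),
      u ∈ commutator ↥(stabilizer G c ⊓ stabilizer G d : Subgroup G) →
      v ∈ commutator ↥(stabilizer G c ⊓ stabilizer G d : Subgroup G) → u * v = v * u := by
    intro u v hu hv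
    obtain ⟨i, hi⟩ := Subgroup.mem_zpowers_iff.mp (ha₀ ⟨u, hu⟩)
    obtain ⟨j, hj⟩ := Subgroup.mem_zpowers_iff.mp (ha₀ ⟨v, hv⟩)
    have hi' : ((a₀ : (stabilizer G c ⊓ stabilizer G d : Subgroup G))) ^ i = u := by
      have := congrArg Subtype.val hi
      simpa using this
    have hj' : ((a₀ : (stabilizer G c ⊓ stabilizer G d : Subgroup G))) ^ j = v := by
      have := congrArg Subtype.val hj
      simpa using this
    rw [← hi', ← hj']
    exact (Commute.zpow_zpow_self _ i j).eq
  -- (b) `y'` is central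
  have hsq : ∀ g : (stabilizer G c ⊓ stabilizer G d : Subgroup G),
      (g * g) * y' = y' * (g * g) := by
    intro g
    -- `g y' g⁻¹` is a power of `y'`
    obtain ⟨i, hi⟩ := Subgroup.mem_zpowers_iff.mp (ha₀ ⟨y', hyA⟩)
    have hi' : ((a₀ : (stabilizer G c ⊓ stabilizer G d : Subgroup G))) ^ i = y' := by
      have := congrArg Subtype.val hi
      simpa using this
    have hconjA : g * (a₀ : (stabilizer G c ⊓ stabilizer G d : Subgroup G)) * g⁻¹ ∈
        commutator ↥(stabilizer G c ⊓ stabilizer G d : Subgroup G) :=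
      (inferInstance : (commutator ↥(stabilizer G c ⊓ stabilizer G d : Subgroup G)).Normal).conj_mem
        _ a₀.2 g
    obtain ⟨j, hj⟩ := Subgroup.mem_zpowers_iff.mp (ha₀ ⟨_, hconjA⟩)
    have hj' : ((a₀ : (stabilizer G c ⊓ stabilizer G d : Subgroup G))) ^ j =
        g * (a₀ : (stabilizer G c ⊓ stabilizer G d : Subgroup G)) * g⁻¹ := by
      have := congrArg Subtype.val hj
      simpa using this
    have h1 : g * y' * g⁻¹ = y' ^ j := by
      rw [← hi']
      have h2 : g * (a₀ : (stabilizer G c ⊓ stabilizer G d : Subgroup G)) ^ i * g⁻¹ =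
          (g * (a₀ : (stabilizer G c ⊓ stabilizer G d : Subgroup G)) * g⁻¹) ^ i := by
        rw [conj_zpow]
      rw [h2, ← hj', ← zpow_mul, ← zpow_mul, mul_comm]
    have h3 : sc (g * y' * g⁻¹) = g * y' * g⁻¹ := by
      rw [h1, map_zpow, hscy]
    have h4 : sc (g * y' * g⁻¹) = sc g * y' * (sc g)⁻¹ := by
      rw [map_mul, map_mul, map_inv, hscy]
    have h5 : g * sc g ∈ commutator ↥(stabilizer G c ⊓ stabilizer G d : Subgroup G) := by
      apply hmemA
      rw [map_mul]
      exact hK g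
    have h6 : (g * sc g) * y' = y' * (g * sc g) := hAcomm _ _ h5 hyA
    have h7 : sc g * y' * (sc g)⁻¹ = g⁻¹ * y' * g := by
      have h8 : sc g = g⁻¹ * (g * sc g) := by group
      calc sc g * y' * (sc g)⁻¹ = g⁻¹ * ((g * sc g) * y') * (g * sc g)⁻¹ * g := by
            rw [h8]; group
        _ = g⁻¹ * (y' * (g * sc g)) * (g * sc g)⁻¹ * g := by rw [h6]
        _ = g⁻¹ * y' * g := by group
    have h9 : g * y' * g⁻¹ = g⁻¹ * y' * g := by rw [← h3, h4, h7]
    calc (g * g) * y' = g * (g * y' * g⁻¹) * g := by group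
      _ = g * (g⁻¹ * y' * g) * g := by rw [h9]
      _ = y' * (g * g) := by group
  have hcentral : ∀ g : (stabilizer G c ⊓ stabilizer G d : Subgroup G), g * y' = y' * g := by
    intro g
    obtain ⟨w, hw⟩ := (powCoprime hcop2).surjective g
    have hw' : w ^ 2 = g := hw
    rw [← hw', pow_two]
    exact hsq w
  -- (c) transfer into the commutator subgroup
  have hkey : ∀ (k : ℕ) (g₀ : (stabilizer G c ⊓ stabilizer G d : Subgroup G)),
      g₀⁻¹ * y' ^ k * g₀ ∈ commutator ↥(stabilizer G c ⊓ stabilizer G d : Subgroup G) →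
      g₀⁻¹ * y' ^ k * g₀ = y' ^ k := by
    intro k g₀ _
    have h1 : Commute g₀ (y' ^ k) := (show Commute g₀ y' from hcentral g₀).pow_right k
    rw [mul_assoc, ← h1.eq, inv_mul_cancel_left]
  have htr := MonoidHom.transfer_eq_pow
    (Abelianization.of : ↥(commutator ↥(stabilizer G c ⊓ stabilizer G d : Subgroup G)) →* _) y' hkey
  have htr1 : MonoidHom.transfer
      (Abelianization.of : ↥(commutator ↥(stabilizer G c ⊓ stabilizer G d : Subgroup G)) →* _) y' = 1 := by
    have h1 := Abelianization.commutator_subset_ker (MonoidHom.transfer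
      (Abelianization.of : ↥(commutator ↥(stabilizer G c ⊓ stabilizer G d : Subgroup G)) →* _)) hyA
    exact h1
  rw [htr1] at htr
  have hcommA : commutator ↥(commutator ↥(stabilizer G c ⊓ stabilizer G d : Subgroup G)) = ⊥ := by
    have h1 : (⁅(⊤ : Subgroup ↥(commutator ↥(stabilizer G c ⊓ stabilizer G d : Subgroup G))),
        (⊤ : Subgroup ↥(commutator ↥(stabilizer G c ⊓ stabilizer G d : Subgroup G)))⁆ :
        Subgroup ↥(commutator ↥(stabilizer G c ⊓ stabilizer G d : Subgroup G))) = ⊥ := by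
      rw [Subgroup.commutator_eq_bot_iff_le_centralizer]
      intro u _
      rw [Subgroup.mem_centralizer_iff]
      intro v _
      apply Subtype.ext
      exact hAcomm _ _ v.2 u.2
    exact h1
  have hpow1 : y' ^ (commutator ↥(stabilizer G c ⊓ stabilizer G d : Subgroup G)).index = 1 := by
    have h1 : (⟨y' ^ (commutator ↥(stabilizer G c ⊓ stabilizer G d : Subgroup G)).index,
        MonoidHom.transfer_eq_pow_aux y' hkey⟩ :
        ↥(commutator ↥(stabilizer G c ⊓ stabilizer G d : Subgroup G))) ∈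
        (Abelianization.of :
          ↥(commutator ↥(stabilizer G c ⊓ stabilizer G d : Subgroup G)) →* _).ker := htr.symm
    rw [Abelianization.ker_of, hcommA, Subgroup.mem_bot] at h1
    exact congrArg Subtype.val h1
  have hpow2 : y' ^ Nat.card ↥(commutator ↥(stabilizer G c ⊓ stabilizer G d : Subgroup G)) = 1 := by
    have h1 := pow_card_eq_one'
      (x := (⟨y', hyA⟩ : ↥(commutator ↥(stabilizer G c ⊓ stabilizer G d : Subgroup G))))
    exact congrArg Subtype.val h1
  have hcopA := IsZGroup.coprime_commutator_index ↥(stabilizer G c ⊓ stabilizer G d : Subgroup G)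
  have h1 : orderOf y' = 1 := Nat.Coprime.eq_one_of_dvd
    (Nat.Coprime.coprime_dvd_left (orderOf_dvd_of_pow_eq_one hpow2) hcopA)
    (orderOf_dvd_of_pow_eq_one hpow1)
  have h2 : y' = 1 := orderOf_eq_one_iff.mp h1
  exact congrArg Subtype.val h2


/-- In a finite Zassenhaus group whose two-point stabiliser `E` has odd order and which has no
normal `q`-complement for any prime `q` dividing `|E|`, the group `E` is cyclic,
self-centralizing, and inverted by every element swapping the two points. -/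
theorem zass_twoStab_inverted [Finite G] [Fintype Ω] (hZ : IsZassenhausGroup G Ω) {a b : Ω}
    (hab : a ≠ b)
    (hodd : Odd (Nat.card ↥(stabilizer G a ⊓ stabilizer G b : Subgroup G)))
    (hnil : ∀ q : ℕ, q.Prime →
      q ∣ Nat.card ↥(stabilizer G a ⊓ stabilizer G b : Subgroup G) →
      ¬ ∃ N : Subgroup G, N.Normal ∧ N.index = q ^ (Nat.card G).factorization q) :
    IsCyclic ↥(stabilizer G a ⊓ stabilizer G b : Subgroup G) ∧
    Subgroup.centralizer ((stabilizer G a ⊓ stabilizer G b : Subgroup G) : Set G) =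
      stabilizer G a ⊓ stabilizer G b ∧
    ∀ s : G, s • a = b → s • b = a →
      ∀ h ∈ stabilizer G a ⊓ stabilizer G b, s * h * s⁻¹ = h⁻¹ := by
  haveI hZG := zass_twoStab_isZGroup hZ hab hodd
  have hcop2 : (Nat.card ↥(stabilizer G a ⊓ stabilizer G b : Subgroup G)).Coprime 2 :=
    Nat.Coprime.symm (Nat.coprime_two_left.mpr hodd)
  -- centralizers of swapping elements
  have hcent : ∀ s : G, s • a = b → s • b = a → ∀ y : G, y • a = a → y • b = b →
      s * y = y * s → y = 1 := by
    intro s hsa hsb y hya hyb hcomm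
    exact zass_cent_swap_of_inv hZ hab hodd hsa hsb
      (fun y' => zass_swap_inv_of_nil hZ hab hodd hnil Abelianization.of s hsa hsb y')
      hya hyb hcomm
  -- swapping elements are involutions
  have hsq : ∀ s : G, s • a = b → s • b = a → s * s = 1 := by
    intro s hsa hsb
    apply hcent s hsa hsb (s * s)
    · rw [mul_smul, hsa, hsb]
    · rw [mul_smul, hsb, hsa]
    · rw [mul_assoc]
  -- swapping elements invert
  have hinv : ∀ s : G, s • a = b → s • b = a →
      ∀ h ∈ (stabilizer G a ⊓ stabilizer G b : Subgroup G), s * h * s⁻¹ = h⁻¹ := by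
    intro s hsa hsb h hh
    have hinj : Function.Injective
        (fun u : (stabilizer G a ⊓ stabilizer G b : Subgroup G) => u⁻¹ * swapConj s hsa hsb u) := by
      intro u v huv
      have h1 : u⁻¹ * swapConj s hsa hsb u = v⁻¹ * swapConj s hsa hsb v := huv
      have h2 : swapConj s hsa hsb (v * u⁻¹) = v * u⁻¹ := by
        rw [map_mul, map_inv]
        have h3 : swapConj s hsa hsb v = v * (u⁻¹ * swapConj s hsa hsb u) := by
          rw [h1, mul_inv_cancel_left]
        rw [h3]
        group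
      have h4 : s * ((v * u⁻¹ : (stabilizer G a ⊓ stabilizer G b : Subgroup G)) : G) * s⁻¹ =
          ((v * u⁻¹ : (stabilizer G a ⊓ stabilizer G b : Subgroup G)) : G) :=
        congrArg Subtype.val h2
      have h5 : ((v * u⁻¹ : (stabilizer G a ⊓ stabilizer G b : Subgroup G)) : G) = 1 := by
        apply hcent s hsa hsb _ (v * u⁻¹).2.1 (v * u⁻¹).2.2
        calc s * ((v * u⁻¹ : (stabilizer G a ⊓ stabilizer G b : Subgroup G)) : G)
            = (s * ((v * u⁻¹ : (stabilizer G a ⊓ stabilizer G b : Subgroup G)) : G) * s⁻¹) * s := by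
              group
          _ = ((v * u⁻¹ : (stabilizer G a ⊓ stabilizer G b : Subgroup G)) : G) * s := by rw [h4]
      have h6 : v * u⁻¹ = 1 := Subtype.ext h5
      exact (mul_inv_eq_one.mp h6).symm
    obtain ⟨u, hu⟩ := Finite.surjective_of_injective hinj ⟨h, hh⟩
    have hu' : (u : G)⁻¹ * (s * u * s⁻¹) = h := congrArg Subtype.val hu
    have hs2 := hsq s hsa hsb
    have hs3 : s⁻¹ = s := inv_eq_of_mul_eq_one_left hs2
    rw [← hu', hs3]
    have e1 : s * ((u : G)⁻¹ * (s * u * s)) * s = s * (u : G)⁻¹ * s * u * (s * s) := by group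
    have e2 : ((u : G)⁻¹ * (s * u * s))⁻¹ = s⁻¹ * (u : G)⁻¹ * s⁻¹ * u := by group
    rw [e1, e2, hs2, mul_one, hs3]
  obtain ⟨s₀, hs₀a, hs₀b⟩ := zass_two_trans hZ hab hab.symm
  -- `E` is abelian
  have hcommE : ∀ h k : G, h ∈ (stabilizer G a ⊓ stabilizer G b : Subgroup G) →
      k ∈ (stabilizer G a ⊓ stabilizer G b : Subgroup G) → h * k = k * h := by
    intro h k hh hk
    have h1 := hinv s₀ hs₀a hs₀b h hh
    have h2 := hinv s₀ hs₀a hs₀b k hk
    have h3 := hinv s₀ hs₀a hs₀b (h * k) (mul_mem hh hk)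
    have h4 : s₀ * (h * k) * s₀⁻¹ = (s₀ * h * s₀⁻¹) * (s₀ * k * s₀⁻¹) := by group
    rw [h4, h1, h2, mul_inv_rev] at h3
    have h5 := congrArg (fun w => w⁻¹) h3
    simp only [mul_inv_rev, inv_inv] at h5
    exact h5.symm
  refine ⟨?_, ?_, hinv⟩
  · -- cyclic
    letI : CommGroup ↥(stabilizer G a ⊓ stabilizer G b : Subgroup G) :=
      { (inferInstance : Group ↥(stabilizer G a ⊓ stabilizer G b : Subgroup G)) with
        mul_comm := fun h k => Subtype.ext (hcommE h k h.2 k.2) }
    haveI : IsCyclic (Abelianization ↥(stabilizer G a ⊓ stabilizer G b : Subgroup G)) :=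
      IsZGroup.isCyclic_abelianization
    exact isCyclic_of_surjective
      (Abelianization.equivOfComm (H := ↥(stabilizer G a ⊓ stabilizer G b : Subgroup G))).symm.toMonoidHom
      (Abelianization.equivOfComm (H := ↥(stabilizer G a ⊓ stabilizer G b : Subgroup G))).symm.surjective
  · -- centralizer
    apply le_antisymm
    · intro g hg
      rw [Subgroup.mem_centralizer_iff] at hg
      obtain ⟨y, hy1, hya, hyb⟩ := zass_exists_ne_one hZ hab
      have hyE : y ∈ (stabilizer G a ⊓ stabilizer G b : Subgroup G) := ⟨hya, hyb⟩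
      have hgy : g * y * g⁻¹ = y := by
        rw [← hg y hyE, mul_inv_cancel_right]
      rcases zass_conj_pair hZ hy1 hab hya hyb (by rw [hgy]; exact hya) (by rw [hgy]; exact hyb)
        with ⟨h1, h2⟩ | ⟨h1, h2⟩
      · exact ⟨h1, h2⟩
      · exfalso
        have h3 := hinv g h1 h2 y hyE
        rw [hgy] at h3
        have h4 : y ^ 2 = 1 := by
          rw [pow_two]
          calc y * y = y * y⁻¹ := by rw [← h3]
            _ = 1 := mul_inv_cancel y
        have h5 : orderOf y ∣ 2 := orderOf_dvd_of_pow_eq_one h4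
        have h6 : orderOf y ∣ Nat.card ↥(stabilizer G a ⊓ stabilizer G b : Subgroup G) := by
          have := orderOf_dvd_natCard (⟨y, hyE⟩ : (stabilizer G a ⊓ stabilizer G b : Subgroup G))
          rwa [Subgroup.orderOf_mk] at this
        have h7 : orderOf y = 1 := Nat.Coprime.eq_one_of_dvd
          (Nat.Coprime.coprime_dvd_left h6 hcop2) h5
        exact hy1 (orderOf_eq_one_iff.mp h7)
    · intro g hg
      rw [Subgroup.mem_centralizer_iff]
      intro h hh
      exact hcommE h g hh hg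

end Z7

end Cfsg.Agent.Lib.Helper21
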