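import Mathlib

/-!
Existence of subgroups of index 2 (helper lemmas for S0729).
-/

namespace Cfsg.Agent.Lib.Helper21

/-- A nontrivial finite 2-group has a subgroup of index 2. -/
theorem idx2_of_two_group {Q : Type*} [Group Q] [Finite Q] (hQ : IsPGroup 2 Q)
    (hne : Nontrivial Q) : ∃ K : Subgroup Q, K.index = 2 := by
  haveI : Fact (Nat.Prime 2) := ⟨Nat.prime_two⟩
  obtain ⟨k, hk⟩ := IsPGroup.iff_card.mp hQ
  have h1 : 1 < Nat.card Q := Finite.one_lt_card_iff_nontrivial.mpr hne
  have hk1 : 1 ≤ k := by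
    rcases Nat.eq_zero_or_pos k with h | h
    · subst h
      simp at hk
      omega
    · exact h
  have hdvd : 2 ^ (k - 1) ∣ Nat.card Q := by
    rw [hk]
    exact pow_dvd_pow 2 (by omega)
  obtain ⟨K, hK⟩ := Sylow.exists_subgroup_card_pow_prime 2 hdvd
  refine ⟨K, ?_⟩
  have h2 := K.card_mul_index
  rw [hK, hk] at h2
  have h3 : 2 ^ k = 2 ^ (k - 1) * 2 := by
    rw [← pow_succ]
    congr 1
    omega
  rw [h3] at h2
  exact Nat.eq_of_mul_eq_mul_left (by positivity) h2

/-- If `G/N` is a nontrivial 2-group then `G` has a subgroup of index 2. -/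
theorem idx2_of_quotient {G : Type*} [Group G] [Finite G] (N : Subgroup G) [N.Normal]
    (hQ : IsPGroup 2 (G ⧸ N)) (hne : N ≠ ⊤) : ∃ K : Subgroup G, K.index = 2 := by
  have hnt : Nontrivial (G ⧸ N) := by
    rw [← Finite.one_lt_card_iff_nontrivial, ← Subgroup.index_eq_card]
    have h1 : N.index ≠ 1 := fun h => hne (Subgroup.index_eq_one.mp h)
    have h0 : N.index ≠ 0 := Subgroup.index_ne_zero_of_finite
    omega
  obtain ⟨K', hK'⟩ := idx2_of_two_group hQ hnt
  refine ⟨K'.comap (QuotientGroup.mk' N), ?_⟩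
  rw [Subgroup.index_comap_of_surjective K' (QuotientGroup.mk'_surjective N), hK']

/-- A normal complement to a nontrivial Sylow 2-subgroup gives a subgroup of index 2. -/
theorem idx2_of_complement {G : Type*} [Group G] [Finite G] (P : Sylow 2 G)
    (hP : (P : Subgroup G) ≠ ⊥) (N : Subgroup G) (hN : N.Normal)
    (hc : N.IsComplement' (P : Subgroup G)) : ∃ K : Subgroup G, K.index = 2 := by
  haveI := hN
  haveI : Fact (Nat.Prime 2) := ⟨Nat.prime_two⟩
  have hidx : N.index = Nat.card (P : Subgroup G) := hc.symm.index_eq_card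
  obtain ⟨k, hk⟩ := IsPGroup.iff_card.mp P.isPGroup'
  have hQ : IsPGroup 2 (G ⧸ N) := by
    apply IsPGroup.of_card (n := k)
    rw [← Subgroup.index_eq_card, hidx, hk]
  apply idx2_of_quotient N hQ
  intro htop
  rw [htop] at hc
  exact hP (Subgroup.isComplement'_top_left.mp hc)

/-- A finite commutative group of even order has a subgroup of index 2. -/
theorem idx2_of_comm_even {Q : Type*} [CommGroup Q] [Finite Q] (h2 : 2 ∣ Nat.card Q) :
    ∃ K : Subgroup Q, K.index = 2 := by
  haveI : Fact (Nat.Prime 2) := ⟨Nat.prime_two⟩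
  let f : Q →* Q := powMonoidHom 2
  have hne : f.range ≠ ⊤ := by
    intro htop
    have hsurj : Function.Surjective f := MonoidHom.range_eq_top.mp htop
    have hinj : Function.Injective f := Finite.injective_iff_surjective.mpr hsurj
    obtain ⟨z, hz⟩ := exists_prime_orderOf_dvd_card' 2 h2
    have hz1 : z ≠ 1 := by
      intro h
      rw [h, orderOf_one] at hz
      omega
    apply hz1
    apply hinj
    show z ^ 2 = 1 ^ 2
    rw [one_pow, ← hz, pow_orderOf_eq_one]
  have hQ : IsPGroup 2 (Q ⧸ f.range) := by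
    intro g
    obtain ⟨q, rfl⟩ := QuotientGroup.mk_surjective g
    refine ⟨1, ?_⟩
    rw [pow_one, ← QuotientGroup.mk_pow, QuotientGroup.eq_one_iff]
    exact ⟨q, rfl⟩
  exact idx2_of_quotient f.range hQ hne

/-- A 2-element outside the commutator subgroup gives a subgroup of index 2. -/
theorem idx2_of_two_elt {G : Type*} [Group G] [Finite G] (t : G) (k : ℕ) (ht : t ^ 2 ^ k = 1)
    (hnc : t ∉ commutator G) : ∃ K : Subgroup G, K.index = 2 := by
  haveI : Fact (Nat.Prime 2) := ⟨Nat.prime_two⟩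
  have ht1 : (Abelianization.of t : Abelianization G) ≠ 1 := by
    intro h
    apply hnc
    rw [← Abelianization.ker_of]
    exact h
  have hpow : (Abelianization.of t : Abelianization G) ^ 2 ^ k = 1 := by
    rw [← map_pow, ht, map_one]
  have hdvd : orderOf (Abelianization.of t : Abelianization G) ∣ 2 ^ k :=
    orderOf_dvd_of_pow_eq_one hpow
  obtain ⟨j, _, hj⟩ := (Nat.dvd_prime_pow Nat.prime_two).mp hdvd
  have hj1 : j ≠ 0 := by
    intro h
    rw [h, pow_zero, orderOf_eq_one_iff] at hj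
    exact ht1 hj
  have h2 : 2 ∣ Nat.card (Abelianization G) := by
    have h3 : 2 ∣ orderOf (Abelianization.of t : Abelianization G) := by
      rw [hj]
      exact dvd_pow_self 2 hj1
    exact h3.trans (orderOf_dvd_natCard _)
  obtain ⟨K', hK'⟩ := idx2_of_comm_even h2
  have hs : Function.Surjective (Abelianization.of : G →* Abelianization G) :=
    QuotientGroup.mk_surjective
  refine ⟨K'.comap Abelianization.of, ?_⟩
  rw [Subgroup.index_comap_of_surjective K' hs, hK']

/-- Given an involutory endomorphism `σ` and a subgroup of index 2, there is a `σ`-invariant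
subgroup of index 2. -/
theorem idx2_invariant {H : Type*} [Group H] (σ : H →* H) (hσ : ∀ h, σ (σ h) = h)
    (N₀ : Subgroup H) (h2 : N₀.index = 2) :
    ∃ N' : Subgroup H, N'.index = 2 ∧ ∀ h ∈ N', σ h ∈ N' := by
  classical
  have hsurj : Function.Surjective σ := fun h => ⟨σ h, hσ h⟩
  have h2' : (N₀.comap σ).index = 2 := by
    rw [Subgroup.index_comap_of_surjective N₀ hsurj, h2]
  by_cases heq : N₀.comap σ = N₀
  · refine ⟨N₀, h2, ?_⟩
    intro h hh
    rw [← heq] at hh
    exact hh
  · have m0 : ∀ x y : H, x * y ∈ N₀ ↔ (x ∈ N₀ ↔ y ∈ N₀) := fun x y =>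
      Subgroup.mul_mem_iff_of_index_two h2
    have m1 : ∀ x y : H, x * y ∈ N₀.comap σ ↔ (x ∈ N₀.comap σ ↔ y ∈ N₀.comap σ) := fun x y =>
      Subgroup.mul_mem_iff_of_index_two h2'
    let N₂ : Subgroup H :=
      { carrier := {h | h ∈ N₀ ↔ h ∈ N₀.comap σ}
        one_mem' := by
          show (1 : H) ∈ N₀ ↔ (1 : H) ∈ N₀.comap σ
          exact ⟨fun _ => Subgroup.one_mem _, fun _ => Subgroup.one_mem _⟩
        mul_mem' := by
          intro x y hx hy
          have hx' : x ∈ N₀ ↔ x ∈ N₀.comap σ := hx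
          have hy' : y ∈ N₀ ↔ y ∈ N₀.comap σ := hy
          show x * y ∈ N₀ ↔ x * y ∈ N₀.comap σ
          rw [m0, m1, hx', hy']
        inv_mem' := by
          intro x hx
          have hx' : x ∈ N₀ ↔ x ∈ N₀.comap σ := hx
          show x⁻¹ ∈ N₀ ↔ x⁻¹ ∈ N₀.comap σ
          rw [Subgroup.inv_mem_iff, Subgroup.inv_mem_iff]
          exact hx' }
    have hmem : ∀ h : H, h ∈ N₂ ↔ (h ∈ N₀ ↔ h ∈ N₀.comap σ) := fun h => Iff.rfl
    refine ⟨N₂, ?_, ?_⟩
    · rw [Subgroup.index_eq_two_iff]
      have hex : ∃ a : H, ¬ (a ∈ N₀ ↔ a ∈ N₀.comap σ) := by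
        by_contra hcon
        push Not at hcon
        apply heq
        ext x
        exact (hcon x).symm
      obtain ⟨a, ha⟩ := hex
      refine ⟨a, fun b => ?_⟩
      rw [hmem, hmem, m0, m1]
      by_cases c1 : a ∈ N₀ <;> by_cases c2 : a ∈ N₀.comap σ <;> by_cases c3 : b ∈ N₀ <;>
        by_cases c4 : b ∈ N₀.comap σ <;> simp_all [Xor]
    · intro h hh
      rw [hmem] at hh ⊢
      have e1 : σ h ∈ N₀.comap σ ↔ h ∈ N₀ := by
        rw [Subgroup.mem_comap, hσ]
      have e2 : σ h ∈ N₀ ↔ h ∈ N₀.comap σ := by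
        rw [Subgroup.mem_comap]
      rw [e1, e2]
      exact hh.symm

end Cfsg.Agent.Lib.Helper21
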