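import Mathlib

/-!
Small group-theoretic lemmas for S0729: subgroups of order 2, lifting elements of order 3,
no `SL(2,3)` section when elements of order 3 are unique up to inversion.
-/

namespace Cfsg.Agent.Lib.Helper21

/-- A subgroup of order 2 is generated by an involution. -/
theorem subgroup_card_two {X : Type*} [Group X] (A : Subgroup X) (hA : Nat.card A = 2) :
    ∃ x : X, x ≠ 1 ∧ x ^ 2 = 1 ∧ A = Subgroup.zpowers x := by
  haveI : Finite A := Nat.finite_of_card_ne_zero (by omega)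
  haveI : Nontrivial A := Finite.one_lt_card_iff_nontrivial.mp (by omega)
  obtain ⟨a, ha⟩ := exists_ne (1 : A)
  have ha2 : a ^ 2 = 1 := by
    rw [← hA]
    exact pow_card_eq_one'
  have hx1 : (a : X) ≠ 1 := fun h => ha (Subtype.ext h)
  have hx2 : (a : X) ^ 2 = 1 := by
    have := congrArg Subtype.val ha2
    simpa using this
  refine ⟨a, hx1, hx2, ?_⟩
  haveI : Fact (Nat.Prime 2) := ⟨Nat.prime_two⟩
  have ho : orderOf (a : X) = 2 := orderOf_eq_prime hx2 hx1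
  symm
  apply Subgroup.eq_of_le_of_card_ge
  · rw [Subgroup.zpowers_le]
    exact a.2
  · rw [Nat.card_zpowers, ho, hA]

/-- Lifting an element of order 3 along a surjection from a group of order not divisible
by 9. -/
theorem lift_order_three {Y Q : Type*} [Group Y] [Finite Y] [Group Q] (π : Y →* Q)
    (hπ : Function.Surjective π) (h9 : ¬ 9 ∣ Nat.card Y) (u : Q) (hu1 : u ≠ 1)
    (hu3 : u ^ 3 = 1) : ∃ y : Y, y ≠ 1 ∧ y ^ 3 = 1 ∧ π y = u := by
  haveI : Fact (Nat.Prime 3) := ⟨Nat.prime_three⟩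
  obtain ⟨y, rfl⟩ := hπ u
  have ho : orderOf (π y) = 3 := orderOf_eq_prime hu3 hu1
  have h3 : 3 ∣ orderOf y := by
    rw [← ho]
    apply orderOf_dvd_of_pow_eq_one
    rw [← map_pow, pow_orderOf_eq_one, map_one]
  obtain ⟨m, hm⟩ := h3
  have hm3 : ¬ 3 ∣ m := by
    rintro ⟨m', rfl⟩
    apply h9
    have : 9 ∣ orderOf y := ⟨m', by rw [hm]; ring⟩
    exact this.trans (orderOf_dvd_natCard y)
  have hmm : m * m % 3 = 1 := by
    have h12 : m % 3 = 1 ∨ m % 3 = 2 := by omega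
    rw [Nat.mul_mod]
    rcases h12 with h | h <;> rw [h]
  have hπx : π (y ^ (m * m)) = π y := by
    rw [map_pow, pow_eq_pow_mod (m * m) hu3, hmm, pow_one]
  refine ⟨y ^ (m * m), ?_, ?_, hπx⟩
  · intro h
    rw [h, map_one] at hπx
    exact hu1 hπx.symm
  · rw [← pow_mul, show m * m * 3 = (3 * m) * m by ring, ← hm, pow_mul, pow_orderOf_eq_one,
      one_pow]

/-- An upper unitriangular matrix in `SL(2,3)`. -/
abbrev sl23U : Matrix.SpecialLinearGroup (Fin 2) (ZMod 3) := ⟨!![1, 1; 0, 1], by decide⟩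

/-- A lower unitriangular matrix in `SL(2,3)`. -/
abbrev sl23L : Matrix.SpecialLinearGroup (Fin 2) (ZMod 3) := ⟨!![1, 0; 1, 1], by decide⟩

theorem sl23_pair : ∃ M₁ M₂ : Matrix.SpecialLinearGroup (Fin 2) (ZMod 3),
    M₁ ≠ 1 ∧ M₂ ≠ 1 ∧ M₁ ^ 3 = 1 ∧ M₂ ^ 3 = 1 ∧ M₁ ≠ M₂ ∧ M₁ * M₂ ≠ 1 :=
  ⟨sl23U, sl23L, by decide, by decide, by decide, by decide, by decide, by decide⟩

/-- If elements of order 3 are unique up to inversion and 9 does not divide the order, there
is no section isomorphic to `SL(2,3)`. -/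
theorem no_sl23_section {X : Type*} [Group X] [Finite X]
    (h3u : ∀ x y : X, x ≠ 1 → y ≠ 1 → x ^ 3 = 1 → y ^ 3 = 1 → x = y ∨ x⁻¹ = y)
    (h9 : ¬ 9 ∣ Nat.card X) (H K : Subgroup X) (hK : (K.subgroupOf H).Normal)
    (e : (H ⧸ K.subgroupOf H) ≃* Matrix.SpecialLinearGroup (Fin 2) (ZMod 3)) : False := by
  have h9' : ¬ 9 ∣ Nat.card H := fun h => h9 (h.trans (Subgroup.card_subgroup_dvd_card H))
  obtain ⟨M₁, M₂, hM₁1, hM₂1, hM₁3, hM₂3, hne, hne'⟩ := sl23_pair
  have hu₁1 : e.symm M₁ ≠ 1 := by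
    intro h
    apply hM₁1
    have := congrArg e h
    rwa [MulEquiv.apply_symm_apply, map_one] at this
  have hu₂1 : e.symm M₂ ≠ 1 := by
    intro h
    apply hM₂1
    have := congrArg e h
    rwa [MulEquiv.apply_symm_apply, map_one] at this
  have hu₁3 : e.symm M₁ ^ 3 = 1 := by rw [← map_pow, hM₁3, map_one]
  have hu₂3 : e.symm M₂ ^ 3 = 1 := by rw [← map_pow, hM₂3, map_one]
  obtain ⟨y₁, hy₁1, hy₁3, hy₁⟩ := lift_order_three (QuotientGroup.mk' (K.subgroupOf H))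
    (QuotientGroup.mk'_surjective _) h9' _ hu₁1 hu₁3
  obtain ⟨y₂, hy₂1, hy₂3, hy₂⟩ := lift_order_three (QuotientGroup.mk' (K.subgroupOf H))
    (QuotientGroup.mk'_surjective _) h9' _ hu₂1 hu₂3
  have hx₁1 : (y₁ : X) ≠ 1 := fun h => hy₁1 (Subtype.ext h)
  have hx₂1 : (y₂ : X) ≠ 1 := fun h => hy₂1 (Subtype.ext h)
  have hx₁3 : (y₁ : X) ^ 3 = 1 := by
    have := congrArg Subtype.val hy₁3
    simpa using this
  have hx₂3 : (y₂ : X) ^ 3 = 1 := by
    have := congrArg Subtype.val hy₂3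
    simpa using this
  rcases h3u _ _ hx₁1 hx₂1 hx₁3 hx₂3 with h | h
  · have h' : y₁ = y₂ := Subtype.ext h
    apply hne
    have h2 : e.symm M₁ = e.symm M₂ := by rw [← hy₁, ← hy₂, h']
    exact e.symm.injective h2
  · have h' : y₁⁻¹ = y₂ := Subtype.ext (by simpa using h)
    apply hne'
    have h2 : (e.symm M₁)⁻¹ = e.symm M₂ := by rw [← hy₁, ← hy₂, ← h', map_inv]
    have h3 : e.symm (M₁ * M₂) = 1 := by rw [map_mul, ← h2, mul_inv_cancel]
    have := congrArg e h3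
    rwa [MulEquiv.apply_symm_apply, map_one] at this

end Cfsg.Agent.Lib.Helper21
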