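import Mathlib
import Cfsg.Agent.Lib.Helper21.Idx2
import Cfsg.Agent.Lib.Helper21.S3Sec
import Cfsg.Agent.S0016
import Cfsg.Agent.S0106
import Cfsg.Agent.S0688

/-!
Linear groups over the prime field that are regular on the nonzero vectors: existence of a
subgroup of index 2 under the "elements of order 3 unique up to inversion" hypothesis.
-/

namespace Cfsg.Agent.Lib.Helper21

open scoped commutatorElement

section lin

variable {p : ℕ} [Fact p.Prime] {V : Type*} [AddCommGroup V] [Module (ZMod p) V] [Finite V]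
  (H : Subgroup (V ≃ₗ[ZMod p] V))

/-- An element fixing a nonzero vector is trivial. -/
theorem lin_fix_eq_one
    (hreg : ∀ v w : V, v ≠ 0 → w ≠ 0 → ∃! h : H, (h : V ≃ₗ[ZMod p] V) v = w)
    (h : H) (v : V) (hv : v ≠ 0) (hfix : (h : V ≃ₗ[ZMod p] V) v = v) : h = 1 := by
  obtain ⟨h0, _, huniq⟩ := hreg v v hv hv
  rw [huniq h hfix, huniq 1 (by simp)]

/-- An involution acts as `-1`. -/
theorem lin_invol
    (hreg : ∀ v w : V, v ≠ 0 → w ≠ 0 → ∃! h : H, (h : V ≃ₗ[ZMod p] V) v = w)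
    (x : H) (hx1 : x ≠ 1) (hx2 : x ^ 2 = 1) (v : V) : (x : V ≃ₗ[ZMod p] V) v = -v := by
  by_contra hne
  have hw : v + (x : V ≃ₗ[ZMod p] V) v ≠ 0 := by
    intro h0
    apply hne
    exact (neg_eq_of_add_eq_zero_right h0).symm
  apply hx1
  apply lin_fix_eq_one H hreg x _ hw
  have h2 : (x : V ≃ₗ[ZMod p] V) ((x : V ≃ₗ[ZMod p] V) v) = v := by
    have := congrArg (fun y : H => (y : V ≃ₗ[ZMod p] V) v) hx2
    simpa [pow_two] using this
  rw [map_add, h2, add_comm]

/-- Involutions are unique. -/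
theorem lin_invol_unique
    (hreg : ∀ v w : V, v ≠ 0 → w ≠ 0 → ∃! h : H, (h : V ≃ₗ[ZMod p] V) v = w)
    (x y : H) (hx1 : x ≠ 1) (hx2 : x ^ 2 = 1) (hy1 : y ≠ 1) (hy2 : y ^ 2 = 1) : x = y := by
  apply Subtype.ext
  apply LinearEquiv.ext
  intro v
  rw [lin_invol H hreg x hx1 hx2, lin_invol H hreg y hy1 hy2]

/-- The order of a regular linear group. -/
theorem lin_card
    (hreg : ∀ v w : V, v ≠ 0 → w ≠ 0 → ∃! h : H, (h : V ≃ₗ[ZMod p] V) v = w)
    (hV : 2 ≤ Nat.card V) : Nat.card H + 1 = Nat.card V := by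
  classical
  haveI : Fintype V := Fintype.ofFinite V
  haveI : Nontrivial V := Finite.one_lt_card_iff_nontrivial.mp (by omega)
  obtain ⟨v₀, hv₀⟩ := exists_ne (0 : V)
  let f : H → {v : V // v ≠ 0} := fun h =>
    ⟨(h : V ≃ₗ[ZMod p] V) v₀, fun h0 => hv₀ ((LinearEquiv.map_eq_zero_iff _).mp h0)⟩
  have hf : Function.Bijective f := by
    constructor
    · intro h h' hh
      have h1 : (h : V ≃ₗ[ZMod p] V) v₀ = (h' : V ≃ₗ[ZMod p] V) v₀ := congrArg Subtype.val hh
      have hne : (h' : V ≃ₗ[ZMod p] V) v₀ ≠ 0 := (f h').2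
      obtain ⟨h0, _, huniq⟩ := hreg v₀ _ hv₀ hne
      rw [huniq h h1, huniq h' rfl]
    · rintro ⟨w, hw⟩
      obtain ⟨h0, hh0, _⟩ := hreg v₀ w hv₀ hw
      exact ⟨h0, Subtype.ext hh0⟩
  have h1 : Nat.card H = Nat.card {v : V // v ≠ 0} := Nat.card_congr (Equiv.ofBijective f hf)
  have h2 : Nat.card {v : V // v ≠ 0} = Nat.card V - 1 := by
    rw [Nat.card_eq_fintype_card, Nat.card_eq_fintype_card]
    rw [Fintype.card_subtype_compl (fun v : V => v = 0), Fintype.card_subtype_eq]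
  omega

/-- The centraliser of an irreducible cyclic subgroup is commutative. -/
theorem lin_centralizer_comm (g : H)
    (hirr : ∀ W : Submodule (ZMod p) V,
      (∀ v ∈ W, (g : V ≃ₗ[ZMod p] V) v ∈ W) → W = ⊥ ∨ W = ⊤)
    (hV : 2 ≤ Nat.card V)
    (x y : H) (hx : x * g = g * x) (hy : y * g = g * y) : x * y = y * x := by
  haveI : Nontrivial V := Finite.one_lt_card_iff_nontrivial.mp (by omega)
  obtain ⟨v₀, hv₀⟩ := exists_ne (0 : V)
  let γ : Module.End (ZMod p) V := ((g : V ≃ₗ[ZMod p] V) : V →ₗ[ZMod p] V)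
  let E : Subalgebra (ZMod p) (Module.End (ZMod p) V) := Algebra.adjoin (ZMod p) {γ}
  have hγE : γ ∈ E := Algebra.subset_adjoin rfl
  let W : Submodule (ZMod p) V :=
    { carrier := {v | ∃ f ∈ E, f v₀ = v}
      add_mem' := by
        rintro _ _ ⟨f, hf, rfl⟩ ⟨f', hf', rfl⟩
        exact ⟨f + f', E.add_mem hf hf', rfl⟩
      zero_mem' := ⟨0, E.zero_mem, rfl⟩
      smul_mem' := by
        rintro c _ ⟨f, hf, rfl⟩
        exact ⟨c • f, E.smul_mem hf c, rfl⟩ }
  have hWinv : ∀ v ∈ W, (g : V ≃ₗ[ZMod p] V) v ∈ W := by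
    rintro _ ⟨f, hf, rfl⟩
    exact ⟨γ * f, E.mul_mem hγE hf, rfl⟩
  have hv₀W : v₀ ∈ W := ⟨1, E.one_mem, rfl⟩
  have hWtop : W = ⊤ := by
    rcases hirr W hWinv with h | h
    · exfalso
      rw [h] at hv₀W
      exact hv₀ ((Submodule.mem_bot _).mp hv₀W)
    · exact h
  have hall : ∀ v : V, ∃ f ∈ E, f v₀ = v := by
    intro v
    have : v ∈ W := by rw [hWtop]; exact Submodule.mem_top
    exact this
  -- elements commuting with g commute with E
  have hcomm : ∀ z : H, z * g = g * z → ∀ f ∈ E, ∀ v : V,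
      (z : V ≃ₗ[ZMod p] V) (f v) = f ((z : V ≃ₗ[ZMod p] V) v) := by
    intro z hz
    let ζ : Module.End (ZMod p) V := ((z : V ≃ₗ[ZMod p] V) : V →ₗ[ZMod p] V)
    have hzg : ζ * γ = γ * ζ := by
      apply LinearMap.ext
      intro v
      have := congrArg (fun t : H => (t : V ≃ₗ[ZMod p] V) v) hz
      exact this
    have hle : E ≤ Subalgebra.centralizer (ZMod p) {ζ} := by
      apply Algebra.adjoin_le
      intro t ht
      rw [Set.mem_singleton_iff] at ht
      subst ht
      rw [SetLike.mem_coe, Subalgebra.mem_centralizer_iff]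
      intro s hs
      rw [Set.mem_singleton_iff] at hs
      subst hs
      exact hzg
    intro f hf v
    have h1 := (Subalgebra.mem_centralizer_iff (ZMod p)).mp (hle hf) ζ rfl
    exact LinearMap.congr_fun h1 v
  -- E is commutative
  have hEcomm : ∀ f ∈ E, ∀ f' ∈ E, f * f' = f' * f := by
    intro f hf f' hf'
    have hle1 : E ≤ Subalgebra.centralizer (ZMod p) {γ} := by
      apply Algebra.adjoin_le
      intro t ht
      rw [Set.mem_singleton_iff] at ht
      subst ht
      rw [SetLike.mem_coe, Subalgebra.mem_centralizer_iff]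
      intro s hs
      rw [Set.mem_singleton_iff] at hs
      subst hs
      rfl
    have h1 : γ * f = f * γ := (Subalgebra.mem_centralizer_iff (ZMod p)).mp (hle1 hf) γ rfl
    have hle2 : E ≤ Subalgebra.centralizer (ZMod p) {f} := by
      apply Algebra.adjoin_le
      intro t ht
      rw [Set.mem_singleton_iff] at ht
      subst ht
      rw [SetLike.mem_coe, Subalgebra.mem_centralizer_iff]
      intro s hs
      rw [Set.mem_singleton_iff] at hs
      subst hs
      exact h1.symm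
    exact (Subalgebra.mem_centralizer_iff (ZMod p)).mp (hle2 hf') f rfl
  obtain ⟨fx, hfx, hfxv⟩ := hall ((x : V ≃ₗ[ZMod p] V) v₀)
  obtain ⟨fy, hfy, hfyv⟩ := hall ((y : V ≃ₗ[ZMod p] V) v₀)
  apply Subtype.ext
  apply LinearEquiv.ext
  intro v
  obtain ⟨f, hf, rfl⟩ := hall v
  show (x : V ≃ₗ[ZMod p] V) ((y : V ≃ₗ[ZMod p] V) (f v₀)) =
    (y : V ≃ₗ[ZMod p] V) ((x : V ≃ₗ[ZMod p] V) (f v₀))
  rw [hcomm y hy f hf, hcomm x hx f hf, hcomm x hx f hf, hcomm y hy f hf, ← hfxv, ← hfyv,
    hcomm x hx fy hfy, hcomm y hy fx hfx, ← hfxv, ← hfyv]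
  have h2 := LinearMap.congr_fun (hEcomm fy hfy fx hfx) v₀
  exact congrArg f h2

end lin

/-- The commutator subgroup centralises a cyclic normal subgroup. -/
theorem commutator_le_centralizer_cyclic {X : Type*} [Group X] (g : X)
    (hconj : ∀ h : X, ∃ k : ℕ, h * g * h⁻¹ = g ^ k) (c : X) (hc : c ∈ commutator X) :
    c * g = g * c := by
  have key : ∀ h₁ h₂ : X, (h₁ * h₂) * g * (h₁ * h₂)⁻¹ = (h₂ * h₁) * g * (h₂ * h₁)⁻¹ := by
    intro h₁ h₂
    obtain ⟨k, hk⟩ := hconj h₁
    obtain ⟨l, hl⟩ := hconj h₂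
    have e1 : (h₁ * h₂) * g * (h₁ * h₂)⁻¹ = g ^ (k * l) := by
      have : (h₁ * h₂) * g * (h₁ * h₂)⁻¹ = h₁ * (h₂ * g * h₂⁻¹) * h₁⁻¹ := by group
      rw [this, hl, ← conj_pow, hk, pow_mul]
    have e2 : (h₂ * h₁) * g * (h₂ * h₁)⁻¹ = g ^ (l * k) := by
      have : (h₂ * h₁) * g * (h₂ * h₁)⁻¹ = h₂ * (h₁ * g * h₁⁻¹) * h₂⁻¹ := by group
      rw [this, hk, ← conj_pow, hl, pow_mul]
    rw [e1, e2, mul_comm]
  have hle : commutator X ≤ Subgroup.centralizer ({g} : Set X) := by
    rw [commutator_def, Subgroup.commutator_le]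
    intro h₁ _ h₂ _
    rw [Subgroup.mem_centralizer_iff]
    intro t ht
    rw [Set.mem_singleton_iff] at ht
    subst ht
    have hk := key h₁⁻¹ h₂⁻¹
    rw [commutatorElement_def]
    have e1 : t * (h₁ * h₂ * h₁⁻¹ * h₂⁻¹) =
        (h₂⁻¹ * h₁⁻¹)⁻¹ * ((h₂⁻¹ * h₁⁻¹) * t * (h₂⁻¹ * h₁⁻¹)⁻¹) * (h₁⁻¹ * h₂⁻¹) := by group
    have e2 : h₁ * h₂ * h₁⁻¹ * h₂⁻¹ * t =
        (h₂⁻¹ * h₁⁻¹)⁻¹ * ((h₁⁻¹ * h₂⁻¹) * t * (h₁⁻¹ * h₂⁻¹)⁻¹) * (h₁⁻¹ * h₂⁻¹) := by group
    rw [e1, e2, hk]
  have := Subgroup.mem_centralizer_iff.mp (hle hc) g rfl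
  exact this.symm

section main

variable {p : ℕ} [Fact p.Prime] {V : Type*} [AddCommGroup V] [Module (ZMod p) V] [Finite V]
  (H : Subgroup (V ≃ₗ[ZMod p] V))

/-- In a generalized quaternion group of order at least 8 the standard generators do not
commute. -/
theorem quaternion_noncomm (n : ℕ) (hn : 1 ≤ n) :
    (QuaternionGroup.a 1 : QuaternionGroup (2 ^ n)) * QuaternionGroup.xa 0 ≠
      QuaternionGroup.xa 0 * QuaternionGroup.a 1 := by
  have hm2 : 2 ≤ 2 ^ n := by
    calc 2 = 2 ^ 1 := rfl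
      _ ≤ 2 ^ n := Nat.pow_le_pow_right (by norm_num) hn
  rw [QuaternionGroup.a_mul_xa, QuaternionGroup.xa_mul_a]
  intro h
  have h' : (0 : ZMod (2 * 2 ^ n)) - 1 = 0 + 1 := QuaternionGroup.xa.inj h
  have h2' : ((2 : ℕ) : ZMod (2 * 2 ^ n)) = 0 := by
    push_cast
    linear_combination (-1 : ZMod (2 * 2 ^ n)) * h'
  have h3 := (ZMod.natCast_eq_zero_iff 2 (2 * 2 ^ n)).mp h2'
  have h4 := Nat.le_of_dvd (by norm_num) h3
  omega

/-- A solvable linear group over the prime field, regular on the nonzero vectors of a space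
of odd order, whose elements of order 3 are unique up to inversion, has a subgroup of
index 2. -/
theorem lin_idx2
    (hreg : ∀ v w : V, v ≠ 0 → w ≠ 0 → ∃! h : H, (h : V ≃ₗ[ZMod p] V) v = w)
    (hodd : Odd (Nat.card V)) (hV3 : 3 ≤ Nat.card V)
    (h3u : ∀ x y : H, x ≠ 1 → y ≠ 1 → x ^ 3 = 1 → y ^ 3 = 1 → x = y ∨ x⁻¹ = y)
    (hsolv : Group.IsSolvable H) : ∃ N : Subgroup H, N.index = 2 := by
  classical
  haveI : Finite (V ≃ₗ[ZMod p] V) :=
    Finite.of_injective (fun e => (e : V → V)) DFunLike.coe_injective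
  haveI : Fact (Nat.Prime 2) := ⟨Nat.prime_two⟩
  have hcard := lin_card H hreg (by omega)
  have h2 : 2 ∣ Nat.card H := by
    obtain ⟨k, hk⟩ := hodd
    omega
  obtain ⟨T⟩ : Nonempty (Sylow 2 H) := inferInstance
  have hTne : (T : Subgroup H) ≠ ⊥ := Sylow.ne_bot_of_dvd_card T h2
  -- unique subgroup of order 2 in T
  have huniq : ∀ A B : Subgroup (T : Subgroup H), Nat.card A = 2 → Nat.card B = 2 → A = B := by
    intro A B hA hB
    obtain ⟨x, hx1, hx2, rfl⟩ := subgroup_card_two A hA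
    obtain ⟨y, hy1, hy2, rfl⟩ := subgroup_card_two B hB
    have hxy : (x : H) = (y : H) := by
      apply lin_invol_unique H hreg
      · exact fun h => hx1 (Subtype.ext h)
      · have := congrArg Subtype.val hx2
        simpa using this
      · exact fun h => hy1 (Subtype.ext h)
      · have := congrArg Subtype.val hy2
        simpa using this
    rw [Subtype.ext hxy]
  have hcases : IsCyclic (T : Subgroup H) ∨
      ∃ n : ℕ, 1 ≤ n ∧ Nonempty ((T : Subgroup H) ≃* QuaternionGroup (2 ^ n)) := by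
    rcases Cfsg.Agent.S0016.result 2 T.isPGroup' huniq with h | ⟨_, n, ⟨e⟩⟩
    · exact Or.inl h
    · rcases Nat.eq_zero_or_pos n with h0 | hpos
      · left
        subst h0
        haveI := QuaternionGroup.quaternionGroup_one_isCyclic
        exact (MulEquiv.isCyclic e).mpr inferInstance
      · exact Or.inr ⟨n, hpos, ⟨e⟩⟩
  rcases hcases with hTc | ⟨n, hn, ⟨e⟩⟩
  · have hmin : (Nat.card H).minFac = 2 := (Nat.minFac_eq_two_iff _).mpr h2
    have hc := IsCyclic.isComplement' hmin hTc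
    exact idx2_of_complement T hTne _ (MonoidHom.normal_ker _) hc
  · rcases Cfsg.Agent.S0106.result T n hn ⟨e⟩ with ⟨P, N, hN, hc⟩ | ⟨H₁, K₁, hK₁, ⟨e₁⟩⟩
    · exact idx2_of_complement P (Sylow.ne_bot_of_dvd_card P h2) N hN hc
    · by_cases hA : ∃ A : Subgroup H, A.Normal ∧ IsCyclic A ∧ ∀ W : Submodule (ZMod p) V,
          (∀ a ∈ A, ∀ v ∈ W, ((a : H) : V ≃ₗ[ZMod p] V) v ∈ W) → W = ⊥ ∨ W = ⊤
      · obtain ⟨A, hAn, hAc, hAirr⟩ := hA
        haveI := hAc
        obtain ⟨⟨g, hgA⟩, hgen⟩ := IsCyclic.exists_monoid_generator (α := A)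
        have hgen' : ∀ a ∈ A, ∃ k : ℕ, g ^ k = a := by
          intro a ha
          obtain ⟨k, hk⟩ := (Submonoid.mem_powers_iff _ _).mp (hgen ⟨a, ha⟩)
          refine ⟨k, ?_⟩
          have := congrArg Subtype.val hk
          simpa using this
        have hpowinv : ∀ (W : Submodule (ZMod p) V),
            (∀ v ∈ W, (g : V ≃ₗ[ZMod p] V) v ∈ W) →
            ∀ k : ℕ, ∀ v ∈ W, ((g ^ k : H) : V ≃ₗ[ZMod p] V) v ∈ W := by
          intro W hW k
          induction k with
          | zero =>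
            intro v hv
            simpa using hv
          | succ k ih =>
            intro v hv
            have : ((g ^ (k + 1) : H) : V ≃ₗ[ZMod p] V) v =
                ((g ^ k : H) : V ≃ₗ[ZMod p] V) ((g : V ≃ₗ[ZMod p] V) v) := by
              rw [pow_succ]
              rfl
            rw [this]
            exact ih _ (hW v hv)
        have hirr : ∀ W : Submodule (ZMod p) V,
            (∀ v ∈ W, (g : V ≃ₗ[ZMod p] V) v ∈ W) → W = ⊥ ∨ W = ⊤ := by
          intro W hW
          apply hAirr W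
          intro a ha
          obtain ⟨k, rfl⟩ := hgen' a ha
          exact hpowinv W hW k
        have hconj : ∀ h : H, ∃ k : ℕ, h * g * h⁻¹ = g ^ k := by
          intro h
          obtain ⟨k, hk⟩ := hgen' _ (hAn.conj_mem g hgA h)
          exact ⟨k, hk.symm⟩
        have hnc := quaternion_noncomm n hn
        have hne12 : ((e.symm (QuaternionGroup.a 1) : (T : Subgroup H)) : H) *
            ((e.symm (QuaternionGroup.xa 0) : (T : Subgroup H)) : H) ≠
            ((e.symm (QuaternionGroup.xa 0) : (T : Subgroup H)) : H) *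
            ((e.symm (QuaternionGroup.a 1) : (T : Subgroup H)) : H) := by
          intro h
          apply hnc
          have h' : e.symm (QuaternionGroup.a 1) * e.symm (QuaternionGroup.xa 0) =
              e.symm (QuaternionGroup.xa 0) * e.symm (QuaternionGroup.a 1) := Subtype.ext h
          have := congrArg e h'
          simpa [map_mul] using this
        have hex : ∃ t : H, t ∈ (T : Subgroup H) ∧ t * g ≠ g * t := by
          by_contra hcon
          push Not at hcon
          apply hne12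
          apply lin_centralizer_comm H g hirr (by omega)
          · exact hcon _ (SetLike.coe_mem _)
          · exact hcon _ (SetLike.coe_mem _)
        obtain ⟨t, ht, htg⟩ := hex
        have htc : t ∉ commutator H := fun hc =>
          htg (commutator_le_centralizer_cyclic g hconj t hc)
        obtain ⟨k, hk⟩ := T.isPGroup' ⟨t, ht⟩
        have hk' : t ^ 2 ^ k = 1 := by
          have := congrArg Subtype.val hk
          simpa using this
        exact idx2_of_two_elt t k hk' htc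
      · have hI : ∀ A : Subgroup H, A.Normal → IsCyclic A →
            ∃ W : Submodule (ZMod p) V, W ≠ ⊥ ∧ W ≠ ⊤ ∧
              ∀ a ∈ A, ∀ v ∈ W, ((a : H) : V ≃ₗ[ZMod p] V) v ∈ W := by
          intro A hAn hAc
          by_contra hcon
          apply hA
          refine ⟨A, hAn, hAc, ?_⟩
          intro W hW
          by_contra hW2
          apply hcon
          exact ⟨W, fun h => hW2 (Or.inl h), fun h => hW2 (Or.inr h), hW⟩
        have hV := Cfsg.Agent.S0688.result H hreg hI hsolv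
        have h9 : ¬ 9 ∣ Nat.card H := by
          rcases hV with h | h | h | h <;> omega
        exact (no_sl23_section h3u h9 H₁ K₁ hK₁ e₁).elim

end main

end Cfsg.Agent.Lib.Helper21
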