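import Mathlib
import Cfsg.Agent.Lib.Helper21.Idx2
import Cfsg.Agent.Lib.Helper21.S3Sec
import Cfsg.Agent.Lib.Helper21.S3Lin
import Cfsg.Agent.Lib.Helper21.Zass7
import Cfsg.Agent.Lib.Helper16.ZFpf
import Cfsg.Agent.S0106

/-!
Solvability of groups with a fixed-point-free ring representation whose elements of order 3
are unique up to inversion; application to regular linear groups (for S0729).
-/

namespace Cfsg.Agent.Lib.Helper21

open Cfsg.Agent.Lib.Helper16.Zas

/-- If a non-identity element of a cyclic Sylow subgroup is central, the normalizer of the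
Sylow subgroup centralizes it. -/
theorem normalizer_le_centralizer_of_fix {G : Type*} [Group G] [Finite G] {q : ℕ}
    (hq : q.Prime) (PG : Subgroup G) (hPp : IsPGroup q PG) (hidx : ¬ q ∣ PG.index)
    [IsCyclic PG] (u : G) (huP : u ∈ PG) (hu1 : u ≠ 1) (hu : ∀ g : G, g * u = u * g) :
    Subgroup.normalizer (PG : Set G) ≤ Subgroup.centralizer (PG : Set G) := by
  intro x hxN
  rw [Subgroup.mem_centralizer_iff]
  intro w₀ hw₀
  have hxconj : ∀ w : G, w ∈ PG → x * w * x⁻¹ ∈ PG := fun w hw =>
    (Subgroup.mem_normalizer_iff.mp hxN w).mp hw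
  let α : ↥PG →* ↥PG :=
    { toFun := fun w => ⟨x * w * x⁻¹, hxconj w w.2⟩
      map_one' := Subtype.ext (by simp)
      map_mul' := fun w₁ w₂ => Subtype.ext (by simp [mul_assoc]) }
  have hα : ∀ w : ↥PG, ((α w : ↥PG) : G) = x * w * x⁻¹ := fun w => rfl
  have hcommPG : ∀ w₁ w₂ : ↥PG, w₁ * w₂ = w₂ * w₁ := fun w₁ w₂ =>
    (IsCyclic.commGroup (α := ↥PG)).mul_comm w₁ w₂
  have hiter : ∀ (j : ℕ) (w : ↥PG), (((α^[j]) w : ↥PG) : G) = x ^ j * w * (x ^ j)⁻¹ := by
    intro j
    induction j with
    | zero => intro w; simp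
    | succ j ih =>
      intro w
      rw [Function.iterate_succ_apply', hα, ih, pow_succ']
      group
  have hpow : x ^ (PG.subgroupOf (Subgroup.normalizer (PG : Set G))).index ∈ PG := by
    haveI : (PG.subgroupOf (Subgroup.normalizer (PG : Set G))).Normal :=
      Subgroup.normal_in_normalizer
    have h1 := Subgroup.pow_index_mem (PG.subgroupOf (Subgroup.normalizer (PG : Set G)))
      (⟨x, hxN⟩ : ↥(Subgroup.normalizer (PG : Set G)))
    rw [Subgroup.mem_subgroupOf] at h1
    simpa using h1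
  have hm : ¬ q ∣ (PG.subgroupOf (Subgroup.normalizer (PG : Set G))).index := by
    intro h
    exact hidx (dvd_trans h (Subgroup.relIndex_dvd_index_of_le Subgroup.le_normalizer))
  have hαm : ∀ w : ↥PG,
      (α^[(PG.subgroupOf (Subgroup.normalizer (PG : Set G))).index]) w = w := by
    intro w
    apply Subtype.ext
    rw [hiter]
    have h1 := hcommPG ⟨_, hpow⟩ w
    have h2 := congrArg Subtype.val h1
    simp only [Subgroup.coe_mul] at h2
    rw [h2, mul_inv_cancel_right]
  have hfix : α ⟨u, huP⟩ = ⟨u, huP⟩ := by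
    apply Subtype.ext
    rw [hα]
    show x * u * x⁻¹ = u
    rw [hu x, mul_inv_cancel_right]
  have h1 := cyclic_aut_fix hq hPp α _ hm hαm ⟨u, huP⟩ (fun h => hu1 (congrArg Subtype.val h))
    hfix ⟨w₀, hw₀⟩
  have h2 : x * w₀ * x⁻¹ = w₀ := congrArg Subtype.val h1
  calc w₀ * x = (x * w₀ * x⁻¹) * x := by rw [h2]
    _ = x * w₀ := by group

/-- A group with a subgroup of index 2 is not perfect. -/
theorem not_perfect_of_idx2 {G : Type*} [Group G] (K : Subgroup G) (hK : K.index = 2) :
    commutator G ≠ ⊤ := by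
  intro htop
  haveI : K.Normal := Subgroup.normal_of_index_eq_two hK
  haveI : Fact (Nat.Prime 2) := ⟨Nat.prime_two⟩
  have hcard : Nat.card (G ⧸ K) = 2 := by
    rw [← Subgroup.index_eq_card]
    exact hK
  haveI : IsCyclic (G ⧸ K) := isCyclic_of_prime_card hcard
  letI : CommGroup (G ⧸ K) := IsCyclic.commGroup
  have h1 := Abelianization.commutator_subset_ker (QuotientGroup.mk' K)
  rw [QuotientGroup.ker_mk', htop] at h1
  have h2 : K = ⊤ := top_le_iff.mp h1
  rw [h2, Subgroup.index_top] at hK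
  omega

/-- A nontrivial finite group with a fixed-point-free ring representation whose elements of
order 3 are unique up to inversion is not perfect. -/
theorem fpf_not_perfect {G : Type*} [Group G] [Finite G] {R : Type*} [Ring R] (ρ : G →* R)
    (h : Fpf ρ)
    (h3u : ∀ x y : G, x ≠ 1 → y ≠ 1 → x ^ 3 = 1 → y ^ 3 = 1 → x = y ∨ x⁻¹ = y)
    (hnt : Nontrivial G) : commutator G ≠ ⊤ := by
  classical
  intro hperf
  haveI : Fact (Nat.Prime 2) := ⟨Nat.prime_two⟩
  haveI : Fact (Nat.Prime 3) := ⟨Nat.prime_three⟩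
  have hsyl : ∀ (p : ℕ) [Fact p.Prime] (P : Sylow p G),
      IsCyclic P ∨ (p = 2 ∧ ∃ n, Nonempty (P ≃* QuaternionGroup (2 ^ n))) := by
    intro p _ P
    exact Fpf.pgroup_cyclic_or_quat (h.restrict (P : Subgroup G)) p P.2
  have hns : ¬ Group.IsSolvable G := by
    intro hs
    have := Group.IsSolvable.commutator_lt_top_of_nontrivial G
    rw [hperf] at this
    exact lt_irrefl _ this
  have h3 : 3 ∣ Nat.card G := by
    obtain ⟨S₀, n, hn, ⟨e₀⟩⟩ : ∃ (S₀ : Sylow 2 G) (n : ℕ), 1 ≤ n ∧
        Nonempty (S₀ ≃* QuaternionGroup (2 ^ n)) := by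
      by_contra hcon
      push Not at hcon
      apply hns
      haveI : IsZGroup G := by
        refine ⟨?_⟩
        intro p hp P
        haveI := Fact.mk hp
        rcases hsyl p P with hc | ⟨rfl, n, ⟨e⟩⟩
        · exact hc
        · rcases Nat.eq_zero_or_pos n with rfl | hpos
          · haveI : IsCyclic (QuaternionGroup (2 ^ 0)) := by
              rw [pow_zero]
              exact QuaternionGroup.quaternionGroup_one_isCyclic
            exact isCyclic_of_surjective e.symm e.symm.surjective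
          · exact ((hcon P n hpos).false e).elim
      infer_instance
    have hS₀card : Nat.card S₀ = 4 * 2 ^ n := by
      haveI : NeZero (2 ^ n) := ⟨by positivity⟩
      rw [Nat.card_congr e₀.toEquiv, Nat.card_eq_fintype_card, QuaternionGroup.card]
    have h2 : 2 ∣ Nat.card G := by
      have h1 : 2 ∣ Nat.card S₀ := by
        rw [hS₀card]
        exact ⟨2 * 2 ^ n, by ring⟩
      exact h1.trans (Subgroup.card_subgroup_dvd_card _)
    rcases Cfsg.Agent.S0106.result S₀ n hn ⟨e₀⟩ with ⟨P, N, hNn, hc⟩ | ⟨H, K, hK, ⟨e⟩⟩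
    · exfalso
      obtain ⟨K', hK'⟩ := idx2_of_complement P (Sylow.ne_bot_of_dvd_card P h2) N hNn hc
      exact not_perfect_of_idx2 K' hK' hperf
    · obtain ⟨M₁, M₂, hM₁1, hM₂1, hM₁3, hM₂3, hne, hne'⟩ := sl23_pair
      have hu1 : e.symm M₁ ≠ 1 := by
        intro h
        apply hM₁1
        have := congrArg e h
        rwa [MulEquiv.apply_symm_apply, map_one] at this
      have hu3 : e.symm M₁ ^ 3 = 1 := by rw [← map_pow, hM₁3, map_one]
      have ho : orderOf (e.symm M₁) = 3 := orderOf_eq_prime hu3 hu1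
      have h4 : 3 ∣ Nat.card (H ⧸ K.subgroupOf H) := by
        rw [← ho]
        exact orderOf_dvd_natCard _
      exact (h4.trans (Subgroup.card_quotient_dvd_card _)).trans
        (Subgroup.card_subgroup_dvd_card H)
  -- an element of order 3
  obtain ⟨x₃, hx₃⟩ := exists_prime_orderOf_dvd_card' 3 h3
  have hx1 : x₃ ≠ 1 := by
    intro h
    rw [h, orderOf_one] at hx₃
    omega
  have hx3 : x₃ ^ 3 = 1 := by
    rw [← hx₃]
    exact pow_orderOf_eq_one x₃
  have hconj : ∀ g : G, ∃ k : ℕ, g * x₃ * g⁻¹ = x₃ ^ k := by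
    intro g
    have h1 : g * x₃ * g⁻¹ ≠ 1 := by
      intro h
      apply hx1
      have : x₃ = g⁻¹ * (g * x₃ * g⁻¹) * g := by group
      rw [this, h]
      group
    have h2 : (g * x₃ * g⁻¹) ^ 3 = 1 := by
      rw [conj_pow, hx3]
      group
    rcases h3u x₃ _ hx1 h1 hx3 h2 with h | h
    · exact ⟨1, by rw [pow_one, ← h]⟩
    · refine ⟨2, ?_⟩
      rw [← h]
      symm
      apply eq_inv_of_mul_eq_one_left
      rw [← pow_succ]
      exact hx3
  have hcent : ∀ g : G, g * x₃ = x₃ * g := fun g =>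
    commutator_le_centralizer_cyclic x₃ hconj g (by rw [hperf]; exact Subgroup.mem_top g)
  have hpg : IsPGroup 3 (Subgroup.zpowers x₃) :=
    IsPGroup.of_card (n := 1) (by rw [Nat.card_zpowers, hx₃, pow_one])
  obtain ⟨P, hP⟩ := hpg.exists_le_sylow
  have hxP : x₃ ∈ (P : Subgroup G) := hP (Subgroup.mem_zpowers x₃)
  have hPc : IsCyclic (P : Subgroup G) := by
    rcases hsyl 3 P with hc | ⟨h32, _⟩
    · exact hc
    · omega
  haveI := hPc
  have hNC := normalizer_le_centralizer_of_fix Nat.prime_three (P : Subgroup G) P.isPGroup'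
    P.not_dvd_index x₃ hxP hx1 hcent
  have hcomp := MonoidHom.ker_transferSylow_isComplement' P hNC
  letI : CommGroup (P : Subgroup G) := IsCyclic.commGroup
  have hker := Abelianization.commutator_subset_ker (MonoidHom.transferSylow P hNC)
  rw [hperf] at hker
  have hkt : (MonoidHom.transferSylow P hNC).ker = ⊤ := top_le_iff.mp hker
  rw [hkt] at hcomp
  have hPbot : (P : Subgroup G) = ⊥ := Subgroup.isComplement'_top_left.mp hcomp
  rw [hPbot] at hxP
  exact hx1 (Subgroup.mem_bot.mp hxP)

/-- A finite group with a fixed-point-free ring representation whose elements of order 3 are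
unique up to inversion is solvable. -/
theorem fpf_solvable {G : Type*} [Group G] [Finite G] {R : Type*} [Ring R] (ρ : G →* R)
    (h : Fpf ρ)
    (h3u : ∀ x y : G, x ≠ 1 → y ≠ 1 → x ^ 3 = 1 → y ^ 3 = 1 → x = y ∨ x⁻¹ = y) :
    Group.IsSolvable G := by
  rw [Group.isSolvable_iff_commutator_lt]
  intro H hH
  rw [← Subgroup.nontrivial_iff_ne_bot] at hH
  have h3u' : ∀ x y : H, x ≠ 1 → y ≠ 1 → x ^ 3 = 1 → y ^ 3 = 1 → x = y ∨ x⁻¹ = y := by
    intro x y hx hy hx3 hy3
    have hx3' : (x : G) ^ 3 = 1 := by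
      have := congrArg Subtype.val hx3
      simpa using this
    have hy3' : (y : G) ^ 3 = 1 := by
      have := congrArg Subtype.val hy3
      simpa using this
    rcases h3u x y (fun h => hx (Subtype.ext h)) (fun h => hy (Subtype.ext h)) hx3' hy3' with
      h | h
    · exact Or.inl (Subtype.ext h)
    · exact Or.inr (Subtype.ext (by simpa using h))
  have hnp := fpf_not_perfect (ρ.comp H.subtype) (h.restrict H) h3u' hH
  rw [← H.range_subtype, MonoidHom.range_eq_map, ← Subgroup.map_commutator,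
    Subgroup.map_subtype_lt_map_subtype]
  rw [commutator_def] at hnp
  exact lt_top_iff_ne_top.mpr hnp

section lin

variable {p : ℕ} [Fact p.Prime] {V : Type*} [AddCommGroup V] [Module (ZMod p) V] [Finite V]
  (H : Subgroup (V ≃ₗ[ZMod p] V))

/-- A linear group regular on the nonzero vectors whose elements of order 3 are unique up to
inversion is solvable. -/
theorem lin_solvable
    (hreg : ∀ v w : V, v ≠ 0 → w ≠ 0 → ∃! h : H, (h : V ≃ₗ[ZMod p] V) v = w)
    (hV : 2 ≤ Nat.card V)
    (h3u : ∀ x y : H, x ≠ 1 → y ≠ 1 → x ^ 3 = 1 → y ^ 3 = 1 → x = y ∨ x⁻¹ = y) :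
    Group.IsSolvable H := by
  haveI : Finite (V ≃ₗ[ZMod p] V) :=
    Finite.of_injective (fun e => (e : V → V)) DFunLike.coe_injective
  haveI : Nontrivial V := Finite.one_lt_card_iff_nontrivial.mp (by omega)
  obtain ⟨v₀, hv₀⟩ := exists_ne (0 : V)
  let ρ : H →* Module.End (ZMod p) V :=
    { toFun := fun h => ((h : V ≃ₗ[ZMod p] V) : V →ₗ[ZMod p] V)
      map_one' := rfl
      map_mul' := fun _ _ => rfl }
  have hρ : Fpf ρ := by
    refine ⟨?_, ?_⟩
    · intro h10
      apply hv₀
      have := LinearMap.congr_fun h10 v₀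
      simpa using this
    · intro g hg
      rw [Module.End.isUnit_iff]
      have hinj : Function.Injective ((ρ g - 1 : Module.End (ZMod p) V) : V → V) := by
        rw [injective_iff_map_eq_zero]
        intro v hv
        by_contra hv0
        apply hg
        apply lin_fix_eq_one H hreg g v hv0
        have h1 : (g : V ≃ₗ[ZMod p] V) v - v = 0 := hv
        exact sub_eq_zero.mp h1
      exact ⟨hinj, Finite.surjective_of_injective hinj⟩
  exact fpf_solvable ρ hρ h3u

/-- A linear group over the prime field, regular on the nonzero vectors of a space of odd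
order, whose elements of order 3 are unique up to inversion, has a subgroup of index 2. -/
theorem lin_idx2'
    (hreg : ∀ v w : V, v ≠ 0 → w ≠ 0 → ∃! h : H, (h : V ≃ₗ[ZMod p] V) v = w)
    (hodd : Odd (Nat.card V)) (hV3 : 3 ≤ Nat.card V)
    (h3u : ∀ x y : H, x ≠ 1 → y ≠ 1 → x ^ 3 = 1 → y ^ 3 = 1 → x = y ∨ x⁻¹ = y) :
    ∃ N : Subgroup H, N.index = 2 :=
  lin_idx2 H hreg hodd hV3 h3u (lin_solvable H hreg (by omega) h3u)

end lin

end Cfsg.Agent.Lib.Helper21
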