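import Mathlib
import Cfsg.Agent.Lib.Helper21.S3Solv

/-!
From a group acting by automorphisms on an elementary abelian group, regularly on the
non-identity elements, to a linear group over the prime field (for S0729).
-/

namespace Cfsg.Agent.Lib.Helper21

/-- A finite group acting by automorphisms on an elementary abelian `p`-group of odd order,
regularly on the non-identity elements, with elements of order 3 unique up to inversion, has
a subgroup of index 2. -/
theorem idx2_of_regular_aut {H K : Type*} [Group H] [Finite H] [CommGroup K] [Finite K]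
    (p : ℕ) [Fact p.Prime] (hKp : ∀ x : K, x ^ p = 1) (φ : H →* MulAut K)
    (hreg : ∀ k k' : K, k ≠ 1 → k' ≠ 1 → ∃! h : H, φ h k = k')
    (hodd : Odd (Nat.card K)) (hK3 : 3 ≤ Nat.card K)
    (h3u : ∀ x y : H, x ≠ 1 → y ≠ 1 → x ^ 3 = 1 → y ^ 3 = 1 → x = y ∨ x⁻¹ = y) :
    ∃ N : Subgroup H, N.index = 2 := by
  have h0 : ∀ x : Additive K, p • x = 0 := fun x => by
    have h1 := hKp (Additive.toMul x)
    have h2 : p • x = Additive.ofMul ((Additive.toMul x) ^ p) := rfl
    rw [h2, h1]
    rfl
  obtain ⟨inst⟩ : Nonempty (Module (ZMod p) (Additive K)) := ⟨AddCommGroup.zmodModule h0⟩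
  let θ : H → (Additive K ≃ₗ[ZMod p] Additive K) := fun h =>
    AddEquiv.toLinearEquiv (MulEquiv.toAdditive (φ h)) (fun c x => ZMod.map_smul _ c x)
  have hθ : ∀ (h : H) (v : Additive K),
      θ h v = Additive.ofMul (φ h (Additive.toMul v)) := fun _ _ => rfl
  let Θ : H →* (Additive K ≃ₗ[ZMod p] Additive K) :=
    { toFun := θ
      map_one' := by
        apply LinearEquiv.ext
        intro v
        rw [hθ, map_one]
        rfl
      map_mul' := fun h h' => by
        apply LinearEquiv.ext
        intro v
        rw [hθ, map_mul]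
        rfl }
  have hΘ : ∀ (h : H) (v : Additive K),
      Θ h v = Additive.ofMul (φ h (Additive.toMul v)) := fun _ _ => rfl
  have hinj : Function.Injective Θ := by
    intro h h' hh
    haveI : Nontrivial K := Finite.one_lt_card_iff_nontrivial.mp (by omega)
    obtain ⟨k, hk⟩ := exists_ne (1 : K)
    have hk' : φ h k ≠ 1 := by
      intro h1
      apply hk
      have : φ h k = φ h 1 := by rw [h1, map_one]
      exact (φ h).injective this
    obtain ⟨h0, _, huniq⟩ := hreg k (φ h k) hk hk'
    have e1 : φ h' k = φ h k := by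
      have := congrArg (fun e : Additive K ≃ₗ[ZMod p] Additive K =>
        Additive.toMul (e (Additive.ofMul k))) hh
      exact this.symm
    rw [huniq h rfl, huniq h' e1]
  let e : H ≃* Θ.range := MonoidHom.ofInjective hinj
  have hreg' : ∀ v w : Additive K, v ≠ 0 → w ≠ 0 →
      ∃! h' : Θ.range, (h' : Additive K ≃ₗ[ZMod p] Additive K) v = w := by
    intro v w hv hw
    obtain ⟨h, hh, huniq⟩ := hreg (Additive.toMul v) (Additive.toMul w) hv hw
    refine ⟨e h, ?_, ?_⟩
    · show Θ h v = w
      rw [hΘ, hh]
      rfl
    · intro y hy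
      obtain ⟨h₂, rfl⟩ := e.surjective y
      have : φ h₂ (Additive.toMul v) = Additive.toMul w := by
        have h1 : Θ h₂ v = w := hy
        rw [hΘ] at h1
        exact congrArg Additive.toMul h1
      rw [huniq h₂ this]
  have h3u' : ∀ x y : Θ.range, x ≠ 1 → y ≠ 1 → x ^ 3 = 1 → y ^ 3 = 1 →
      x = y ∨ x⁻¹ = y := by
    intro x y hx hy hx3 hy3
    have := h3u (e.symm x) (e.symm y) (by simpa using hx) (by simpa using hy)
      (by rw [← map_pow, hx3, map_one]) (by rw [← map_pow, hy3, map_one])
    rcases this with h | h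
    · exact Or.inl (e.symm.injective h)
    · right
      apply e.symm.injective
      rw [map_inv]
      exact h
  have hcardV : Nat.card (Additive K) = Nat.card K := rfl
  obtain ⟨N', hN'⟩ := lin_idx2' Θ.range hreg' (by rw [hcardV]; exact hodd)
    (by rw [hcardV]; exact hK3) h3u'
  have hs : Function.Surjective e.toMonoidHom := e.surjective
  refine ⟨N'.comap e.toMonoidHom, ?_⟩
  rw [Subgroup.index_comap_of_surjective N' hs, hN']

end Cfsg.Agent.Lib.Helper21
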