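import Mathlib
import Cfsg.Agent.Lib.Helper21.S3Bridge
import Cfsg.Agent.S0680
import Cfsg.Agent.S0728

/-!
The two-point stabiliser of a sharply triply transitive group of even degree at least 6 has
a subgroup of index 2 (for S0729).
-/

namespace Cfsg.Agent.Lib.Helper21

open MulAction

set_option maxHeartbeats 1000000 in
/-- The two-point stabiliser of a sharply triply transitive group of even degree at least 6
has a subgroup of index 2. -/
theorem s3_stab_idx2 {α : Type*} [Fintype α] [DecidableEq α] (heven : Even (Fintype.card α))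
    (h6 : 6 ≤ Fintype.card α) (G : Subgroup (Equiv.Perm α))
    (h3 : MulAction.IsMultiplyPretransitive G α 3)
    (hsharp : ∀ x : Fin 3 ↪ α, MulAction.stabilizer G x = ⊥) {a b : α} (hab : a ≠ b) :
    ∃ N : Subgroup ↥(stabilizer G a ⊓ stabilizer G b), N.index = 2 := by
  classical
  haveI : Fintype ↥(stabilizer G a) := Fintype.ofFinite _
  haveI : Fintype ↥(SubMulAction.ofStabilizer G a) := Fintype.ofFinite _
  have hcardβ : Fintype.card ↥(SubMulAction.ofStabilizer G a) + 1 = Fintype.card α := by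
    have := SubMulAction.nat_card_ofStabilizer_add_one_eq (G := G) a
    rw [Nat.card_eq_fintype_card, Nat.card_eq_fintype_card] at this
    exact this
  have hval : ∀ (g : ↥(stabilizer G a)) (x : ↥(SubMulAction.ofStabilizer G a)),
      ((g • x : ↥(SubMulAction.ofStabilizer G a)) : α) = (g : G) • (x : α) := fun _ _ => rfl
  have hne : ∀ x : ↥(SubMulAction.ofStabilizer G a), (x : α) ≠ a := fun x =>
    (SubMulAction.mem_ofStabilizer_iff _ a).mp x.2
  have hT : ∀ x y x' y' : ↥(SubMulAction.ofStabilizer G a), x ≠ y → x' ≠ y' →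
      ∃ g : ↥(stabilizer G a), g • x = x' ∧ g • y = y' := by
    intro x y x' y' hxy hxy'
    have h1 : (x : α) ≠ y := fun h => hxy (Subtype.ext h)
    have h2 : (x' : α) ≠ y' := fun h => hxy' (Subtype.ext h)
    obtain ⟨g, hga, hgx, hgy⟩ := Cfsg.Agent.S0728.trans3 h3 (hne x).symm (hne y).symm h1
      (hne x').symm (hne y').symm h2
    exact ⟨⟨g, hga⟩, Subtype.ext hgx, Subtype.ext hgy⟩
  have hU : ∀ (g : ↥(stabilizer G a)) (x y : ↥(SubMulAction.ofStabilizer G a)), x ≠ y →
      g • x = x → g • y = y → g = 1 := by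
    intro g x y hxy hgx hgy
    have h1 : (x : α) ≠ y := fun h => hxy (Subtype.ext h)
    apply Subtype.ext
    exact Cfsg.Agent.S0728.fix3 hsharp (g : G) (hne x).symm (hne y).symm h1 g.2
      (congrArg Subtype.val hgx) (congrArg Subtype.val hgy)
  obtain ⟨N, p, j, hpp, hj1, hj, hNmem, hNnorm, hNcomm, hNp, hNtrans, hNsyl⟩ :=
    Cfsg.Agent.S0680.main hT hU (by omega)
  haveI : Fact p.Prime := ⟨hpp⟩
  haveI := hNnorm
  letI : CommGroup ↥N :=
    { (inferInstance : Group ↥N) with
      mul_comm := fun x y => Subtype.ext (hNcomm x y x.2 y.2) }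
  have hKp : ∀ x : ↥N, x ^ p = 1 := fun x => Subtype.ext (by simpa using hNp x x.2)
  let b' : ↥(SubMulAction.ofStabilizer G a) :=
    ⟨b, (SubMulAction.mem_ofStabilizer_iff _ a).mpr hab.symm⟩
  -- freeness of N
  have hfree : ∀ k k' : ↥N, (k : ↥(stabilizer G a)) • b' = (k' : ↥(stabilizer G a)) • b' →
      k = k' := by
    intro k k' hkk
    have h1 : ((k' : ↥(stabilizer G a))⁻¹ * k) • b' = b' := by
      rw [mul_smul, hkk, inv_smul_smul]
    have h2 : (k' : ↥(stabilizer G a))⁻¹ * k ∈ N := N.mul_mem (N.inv_mem k'.2) k.2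
    rcases (hNmem _).mp h2 with h | h
    · apply Subtype.ext
      have : (k : ↥(stabilizer G a)) = k' * ((k' : ↥(stabilizer G a))⁻¹ * k) := by group
      rw [this, h, mul_one]
    · exact absurd h1 (h b')
  have hfpf : ∀ k : ↥N, k ≠ 1 → (k : ↥(stabilizer G a)) • b' ≠ b' := by
    intro k hk hkb
    apply hk
    apply hfree
    rw [hkb]
    show b' = (1 : ↥(stabilizer G a)) • b'
    rw [one_smul]
  let ι : ↥(stabilizer G a ⊓ stabilizer G b) →* ↥(stabilizer G a) :=
    Subgroup.inclusion inf_le_left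
  have hι : ∀ h : ↥(stabilizer G a ⊓ stabilizer G b), ((ι h : ↥(stabilizer G a)) : G) = h :=
    fun _ => rfl
  have hιb : ∀ h : ↥(stabilizer G a ⊓ stabilizer G b), ι h • b' = b' := by
    intro h
    apply Subtype.ext
    rw [hval]
    exact (Subgroup.mem_inf.mp h.2).2
  let φ : ↥(stabilizer G a ⊓ stabilizer G b) →* MulAut ↥N := (MulAut.conjNormal).comp ι
  have hφ : ∀ (h : ↥(stabilizer G a ⊓ stabilizer G b)) (k : ↥N),
      ((φ h k : ↥N) : ↥(stabilizer G a)) = ι h * k * (ι h)⁻¹ := fun _ _ => rfl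
  have hφb : ∀ (h : ↥(stabilizer G a ⊓ stabilizer G b)) (k : ↥N),
      ((φ h k : ↥N) : ↥(stabilizer G a)) • b' = ι h • ((k : ↥(stabilizer G a)) • b') := by
    intro h k
    rw [hφ, mul_smul, mul_smul]
    congr 2
    rw [inv_smul_eq_iff, hιb]
  have hreg : ∀ k k' : ↥N, k ≠ 1 → k' ≠ 1 →
      ∃! h : ↥(stabilizer G a ⊓ stabilizer G b), φ h k = k' := by
    intro k k' hk hk'
    have hx : (((k : ↥(stabilizer G a)) • b' : ↥(SubMulAction.ofStabilizer G a)) : α) ≠ b :=
      fun h => hfpf k hk (Subtype.ext h)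
    have hx' : (((k' : ↥(stabilizer G a)) • b' : ↥(SubMulAction.ofStabilizer G a)) : α) ≠ b :=
      fun h => hfpf k' hk' (Subtype.ext h)
    obtain ⟨g, hga, hgb, hgx⟩ := Cfsg.Agent.S0728.trans3 h3 hab (hne _).symm hx.symm
      hab (hne _).symm hx'.symm
    refine ⟨⟨g, Subgroup.mem_inf.mpr ⟨hga, hgb⟩⟩, ?_, ?_⟩
    · apply hfree
      rw [hφb]
      apply Subtype.ext
      rw [hval]
      exact hgx
    · intro h₂ hh₂
      have h1 : ι h₂ • ((k : ↥(stabilizer G a)) • b') = (k' : ↥(stabilizer G a)) • b' := by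
        rw [← hφb, hh₂]
      have h2 : (h₂ : G) • (((k : ↥(stabilizer G a)) • b' :
          ↥(SubMulAction.ofStabilizer G a)) : α) =
          (((k' : ↥(stabilizer G a)) • b' : ↥(SubMulAction.ofStabilizer G a)) : α) :=
        congrArg Subtype.val h1
      apply Subtype.ext
      show (h₂ : G) = g
      have h3' : g⁻¹ * (h₂ : G) = 1 := by
        apply Cfsg.Agent.S0728.fix3 hsharp _ hab (hne _).symm hx.symm
        · rw [mul_smul, inv_smul_eq_iff, hga]
          exact (Subgroup.mem_inf.mp h₂.2).1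
        · rw [mul_smul, inv_smul_eq_iff, hgb]
          exact (Subgroup.mem_inf.mp h₂.2).2
        · rw [mul_smul, inv_smul_eq_iff, hgx]
          exact h2
      exact (inv_mul_eq_one.mp h3').symm
  -- a third point
  obtain ⟨c, hc⟩ : ∃ c : α, c ∉ ({a, b} : Finset α) := by
    by_contra hcon
    push Not at hcon
    have h1 : (Finset.univ : Finset α) ⊆ {a, b} := fun x _ => hcon x
    have h2 := Finset.card_le_card h1
    have h3' : ({a, b} : Finset α).card ≤ 2 := Finset.card_le_two
    rw [Finset.card_univ] at h2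
    omega
  have hac : a ≠ c := by
    intro h
    apply hc
    rw [← h]
    simp
  have hbc : b ≠ c := by
    intro h
    apply hc
    rw [← h]
    simp
  have h3u : ∀ x y : ↥(stabilizer G a ⊓ stabilizer G b), x ≠ 1 → y ≠ 1 → x ^ 3 = 1 →
      y ^ 3 = 1 → x = y ∨ x⁻¹ = y := by
    intro x y hx hy hx3 hy3
    have hx3' : (x : G) ^ 3 = 1 := by
      have := congrArg Subtype.val hx3
      simpa using this
    have hy3' : (y : G) ^ 3 = 1 := by
      have := congrArg Subtype.val hy3
      simpa using this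
    rcases Cfsg.Agent.S0728.eq_or_eq_inv h3 hsharp hab hac hbc (x : G) (y : G)
      (Subgroup.mem_inf.mp x.2).1 (Subgroup.mem_inf.mp x.2).2
      (Subgroup.mem_inf.mp y.2).1 (Subgroup.mem_inf.mp y.2).2
      (fun h => hx (Subtype.ext h)) (fun h => hy (Subtype.ext h)) hx3' hy3' with h | h
    · exact Or.inl (Subtype.ext h)
    · exact Or.inr (Subtype.ext (by simpa using h))
  -- the order of N
  have hcardN : Nat.card ↥N = Fintype.card ↥(SubMulAction.ofStabilizer G a) := by
    rw [← Nat.card_eq_fintype_card]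
    apply Nat.card_congr
    refine Equiv.ofBijective (fun k : ↥N => (k : ↥(stabilizer G a)) • b') ⟨?_, ?_⟩
    · intro k k' hkk
      exact hfree k k' hkk
    · intro y
      obtain ⟨k, hk, hky⟩ := hNtrans b' y
      exact ⟨⟨k, hk⟩, hky⟩
  have hodd : Odd (Nat.card ↥N) := by
    rw [hcardN]
    obtain ⟨m, hm⟩ := heven
    exact ⟨m - 1, by omega⟩
  have hK3 : 3 ≤ Nat.card ↥N := by
    rw [hcardN]
    omega
  exact idx2_of_regular_aut p hKp φ hreg hodd hK3 h3u

end Cfsg.Agent.Lib.Helper21
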