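import Mathlib
import Cfsg.Agent.Lib.Helper35.Ind
import Cfsg.Agent.Lib.Helper36.CharBasic
import Cfsg.Agent.Lib.Helper36.CharCoh

/-!
Feit's theorem on Zassenhaus groups: the "package" of exceptional characters attached to the
relevant characters of the normaliser of a T.I. Frobenius kernel, and its extraction from
coherence.
-/

set_option autoImplicit false

namespace Cfsg.Agent.Lib.Helper21

open Cfsg
open scoped ComplexConjugate

section Fz1

variable {G : Type*} [Group G] [Fintype G]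

/-- the irreducible characters of `N` not trivial on `H` -/
def relS (H N : Subgroup G) : Set (N → ℂ) :=
  {χ | IsIrrCharacter N χ ∧ ∃ k : N, (k : G) ∈ H ∧ χ k ≠ χ 1}

/-- exceptional characters: a sign `ε` and an injection `f` of the relevant characters of `N`
into the irreducible characters of `G` compatible with induction of degree-zero differences -/
structure FPkg (H N : Subgroup G) (ε : ℂ) (f : (N → ℂ) → (G → ℂ)) : Prop where
  eps : ε = 1 ∨ ε = -1
  irr : ∀ ψ ∈ relS H N, IsIrrCharacter G (f ψ)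
  inj : ∀ ψ ∈ relS H N, ∀ ψ' ∈ relS H N, f ψ = f ψ' → ψ = ψ'
  rel : ∀ ψ ∈ relS H N, ∀ ψ' ∈ relS H N,
    indFun N (ψ' 1 • ψ - ψ 1 • ψ') = ε • (ψ' 1 • f ψ - ψ 1 • f ψ')

theorem fpkg_of_coherent (H N : Subgroup G) [Fintype N]
    (hcoh : IsCoherent (relS H N) {1}ᶜ (fun α => indFun N α)) :
    ∃ (ε : ℂ) (f : (N → ℂ) → (G → ℂ)), FPkg H N ε f := by
  classical
  obtain ⟨⟨α, hα, hα0⟩, τ, hτ, hext⟩ := hcoh
  have hS : ∀ χ ∈ relS H N, IsIrrCharacter N χ := fun χ hχ => hχ.1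
  -- each `τ ψ` is `±` an irreducible character
  have hpm : ∀ ψ ∈ relS H N, ∃ ζ, IsIrrCharacter G ζ ∧ (τ ψ = ζ ∨ τ ψ = -ζ) := by
    intro ψ hψ
    have hz := Helper36.subset_zspan (relS H N) hψ
    apply Helper36.gen_norm_one (hτ.2.2.2 ψ hz)
    rw [hτ.2.2.1 ψ hz ψ hz]
    exact Helper36.classInner_irr_self (hS ψ hψ)
  -- the degree relation
  have hdeg : ∀ ψ ∈ relS H N, ∀ ψ' ∈ relS H N, ∀ d d' : ℕ, ψ 1 = d → ψ' 1 = d' →
      indFun N ((d' : ℂ) • ψ - (d : ℂ) • ψ') = (d' : ℂ) • τ ψ - (d : ℂ) • τ ψ' := by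
    intro ψ hψ ψ' hψ' d d' h1 h2
    have hz := Helper36.subset_zspan (relS H N) hψ
    have hz' := Helper36.subset_zspan (relS H N) hψ'
    have hmem := Helper36.degDiff_mem hψ hψ' d d' h1 h2
    have e1 := hext _ hmem
    rw [Helper36.isoOn_sub hτ (fun b hb => Helper36.zspan_neg hb) (Helper36.zspan_zsmul hz _)
      (Helper36.zspan_zsmul hz' _), hτ.2.1 ψ hz, hτ.2.1 ψ' hz'] at e1
    simp only [Helper36.zsmul_eq_smul_cast, Int.cast_natCast] at e1
    exact e1.symm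
  have hdeg1 : ∀ ψ ∈ relS H N, ∀ ψ' ∈ relS H N, ∀ d d' : ℕ, ψ 1 = d → ψ' 1 = d' →
      (d' : ℂ) * τ ψ 1 = (d : ℂ) * τ ψ' 1 := by
    intro ψ hψ ψ' hψ' d d' h1 h2
    have e1 := congrFun (hdeg ψ hψ ψ' hψ' d d' h1 h2) 1
    rw [Helper35.indFun_one_eq] at e1
    simp only [Pi.sub_apply, Pi.smul_apply, smul_eq_mul, h1, h2] at e1
    have e2 : (d' : ℂ) * (d : ℂ) - (d : ℂ) * (d' : ℂ) = 0 := by ring
    rw [e2, mul_zero] at e1
    exact (sub_eq_zero.mp e1.symm)
  -- a base character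
  have hne : (relS H N).Nonempty := by
    by_contra hemp
    rw [Set.not_nonempty_iff_eq_empty] at hemp
    apply hα0
    have h1 : α ∈ zspan (relS H N) := hα.1
    rw [hemp] at h1
    have h2 : α ∈ (Submodule.span ℤ (∅ : Set (N → ℂ))) := h1
    rw [Submodule.span_empty] at h2
    exact (Submodule.mem_bot ℤ).mp h2
  obtain ⟨ψ₀, hψ₀⟩ := hne
  obtain ⟨ζ₀, hζ₀, hζ₀'⟩ := hpm ψ₀ hψ₀
  obtain ⟨d₀, hd₀pos, hd₀⟩ := Helper36.irr_degree (hS ψ₀ hψ₀)
  obtain ⟨n₀, hn₀pos, hn₀⟩ := Helper36.irr_degree hζ₀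
  -- the common sign
  obtain ⟨ε, hε, hε0⟩ : ∃ ε : ℂ, (ε = 1 ∨ ε = -1) ∧ τ ψ₀ = ε • ζ₀ := by
    rcases hζ₀' with h | h
    · exact ⟨1, Or.inl rfl, by rw [h, one_smul]⟩
    · exact ⟨-1, Or.inr rfl, by rw [h, neg_smul, one_smul]⟩
  have hεε : ε * ε = 1 := by
    rcases hε with h | h <;> rw [h] <;> norm_num
  have hsign : ∀ ψ ∈ relS H N, IsIrrCharacter G (ε • τ ψ) := by
    intro ψ hψ
    obtain ⟨ζ, hζ, hζ'⟩ := hpm ψ hψ
    obtain ⟨d, hdpos, hd⟩ := Helper36.irr_degree (hS ψ hψ)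
    obtain ⟨n, hnpos, hn⟩ := Helper36.irr_degree hζ
    have e1 := hdeg1 ψ hψ ψ₀ hψ₀ d d₀ hd hd₀
    rw [hε0, Pi.smul_apply, smul_eq_mul, hn₀] at e1
    rcases hζ' with h | h
    · rw [h, hn] at e1
      rcases hε with h' | h'
      · rw [h, h', one_smul]
        exact hζ
      · exfalso
        rw [h'] at e1
        have e2 : ((d₀ * n + d * n₀ : ℕ) : ℂ) = 0 := by
          push_cast
          linear_combination e1
        have e3 : d₀ * n + d * n₀ = 0 := by exact_mod_cast e2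
        have : 0 < d₀ * n := Nat.mul_pos hd₀pos hnpos
        omega
    · rw [h, Pi.neg_apply, hn] at e1
      rcases hε with h' | h'
      · exfalso
        rw [h'] at e1
        have e2 : ((d₀ * n + d * n₀ : ℕ) : ℂ) = 0 := by
          push_cast
          linear_combination -e1
        have e3 : d₀ * n + d * n₀ = 0 := by exact_mod_cast e2
        have : 0 < d₀ * n := Nat.mul_pos hd₀pos hnpos
        omega
      · rw [h, h']
        have : (-1 : ℂ) • -ζ = ζ := by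
          funext g
          simp
        rw [this]
        exact hζ
  refine ⟨ε, fun ψ => ε • τ ψ, hε, hsign, ?_, ?_⟩
  · intro ψ hψ ψ' hψ' hff
    have hz := Helper36.subset_zspan (relS H N) hψ
    have hz' := Helper36.subset_zspan (relS H N) hψ'
    have h1 : τ ψ = τ ψ' := by
      have h2 := congrArg (fun F : G → ℂ => ε • F) hff
      simp only [smul_smul, hεε, one_smul] at h2
      exact h2
    have h3 := hτ.2.2.1 ψ hz ψ' hz'
    rw [← h1, hτ.2.2.1 ψ hz ψ hz, Helper36.classInner_irr_self (hS ψ hψ),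
      Helper36.classInner_irr (hS ψ hψ) (hS ψ' hψ')] at h3
    by_contra hne'
    rw [if_neg hne'] at h3
    exact one_ne_zero h3
  · intro ψ hψ ψ' hψ'
    obtain ⟨d, -, hd⟩ := Helper36.irr_degree (hS ψ hψ)
    obtain ⟨d', -, hd'⟩ := Helper36.irr_degree (hS ψ' hψ')
    rw [hd, hd', hdeg ψ hψ ψ' hψ' d d' hd hd']
    funext g
    simp only [Pi.sub_apply, Pi.smul_apply, smul_eq_mul]
    linear_combination ((d : ℂ) * τ ψ' g - (d' : ℂ) * τ ψ g) * hεε

end Fz1

end Cfsg.Agent.Lib.Helper21
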