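import Mathlib
import Cfsg.Agent.Lib.Helper21.Fz1
import Cfsg.Agent.Lib.Helper35.TiSetup
import Cfsg.Agent.Lib.Helper35.NilFrob
import Cfsg.Agent.Lib.Helper20.Tifn
import Cfsg.Agent.Lib.Helper4.IndFun

/-!
Feit's theorem on Zassenhaus groups: the abstract setting (T.I. Frobenius kernel `H` with
normaliser `N`, `|H| = h`, `|N : H| = e`, `|G : N| = h + 1`) and the basic inner products of
the characters induced from the relevant characters of `N`.
-/

set_option autoImplicit false

namespace Cfsg.Agent.Lib.Helper21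

open Cfsg
open scoped ComplexConjugate

section Fz2

variable {G : Type*} [Group G] [Fintype G]

/-- the abstract setting of Feit's theorem -/
structure FSetup (H N : Subgroup G) (h e : ℕ) : Prop where
  hN : Subgroup.normalizer (H : Set G) = N
  hTI : IsTISubset (H : Set G)
  hC : ∀ k ∈ H, k ≠ 1 → Subgroup.centralizer ({k} : Set G) ≤ H
  hH : Nat.card H = h
  hNc : Nat.card N = e * h
  hG : Nat.card G = e * h * (h + 1)
  he : 2 ≤ e
  hlt : 2 * e < h - 1

namespace FSetup

variable {H N : Subgroup G} {h e : ℕ} (F : FSetup H N h e)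

include F

theorem le : H ≤ N := by
  rw [← F.hN]
  exact Subgroup.le_normalizer

theorem normal : (H.subgroupOf N).Normal := by
  have h1 := F.hN
  subst h1
  exact Subgroup.normal_in_normalizer

theorem frob : ∀ y : N, y ∉ H.subgroupOf N → ∀ k ∈ H.subgroupOf N, k * y = y * k → k = 1 :=
  Helper35.ti_frob H N F.hC

theorem hpos : 0 < h := by
  rw [← F.hH]
  exact Nat.card_pos

theorem card_sub : Nat.card (H.subgroupOf N) = h := by
  rw [← F.hH]
  exact Nat.card_congr (Subgroup.subgroupOfEquivOfLe F.le).toEquiv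

theorem index_sub : (H.subgroupOf N).index = e := by
  have h1 := Subgroup.card_mul_index (H.subgroupOf N)
  rw [F.card_sub, F.hNc] at h1
  have h2 := F.hpos
  have h3 : h * (H.subgroupOf N).index = h * e := by rw [h1, mul_comm]
  exact Nat.eq_of_mul_eq_mul_left h2 h3

theorem index_N : N.index = h + 1 := by
  have h1 := Subgroup.card_mul_index N
  rw [F.hNc, F.hG] at h1
  have h2 : 0 < e * h := Nat.mul_pos (by have := F.he; omega) F.hpos
  exact Nat.eq_of_mul_eq_mul_left h2 h1

theorem relS_eq : relS H N = Helper35.ntSet (H.subgroupOf N) := by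
  ext χ
  exact Helper20.tifn_mem_iff H N χ

variable [Fintype N]

theorem vanish {ψ : N → ℂ} (hψ : ψ ∈ relS H N) (y : N) (hy : (y : G) ∉ H) : ψ y = 0 := by
  classical
  have := Helper4.irr_finite (G := N)
  let _ : Fintype (IrrCharacter N) := Fintype.ofFinite _
  have := F.normal
  rw [F.relS_eq] at hψ
  exact Helper20.irr_vanish_of_centralizer (H.subgroupOf N) y
    (F.frob y (fun h => hy (Subgroup.mem_subgroupOf.mp h))) ⟨ψ, hψ.1⟩ hψ.2

theorem irr {ψ : N → ℂ} (hψ : ψ ∈ relS H N) : IsIrrCharacter N ψ := hψ.1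

theorem cf {ψ : N → ℂ} (hψ : ψ ∈ relS H N) : IsClassFunction N ψ :=
  Helper4.isClassFunction_irr (⟨ψ, hψ.1⟩ : IrrCharacter N)

theorem ne_one {ψ : N → ℂ} (hψ : ψ ∈ relS H N) : ψ ≠ fun _ => 1 := by
  rintro rfl
  obtain ⟨-, k, -, hk⟩ := hψ
  exact hk rfl

theorem sum_zero {ψ : N → ℂ} (hψ : ψ ∈ relS H N) : ∑ x : N, ψ x = 0 := by
  have h1 := Helper36.classInner_irr hψ.1 (Helper83.isIrr_one (G := N))
  rw [if_neg (F.ne_one hψ)] at h1
  unfold classInner at h1
  have hN0 : (Nat.card N : ℂ) ≠ 0 := by exact_mod_cast (Nat.card_pos (α := N)).ne'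
  have h2 : ∑ x : N, ψ x * conj ((fun _ : N => (1 : ℂ)) x) = 0 := by
    rcases mul_eq_zero.mp h1 with h | h
    · exact absurd (inv_eq_zero.mp h) hN0
    · exact h
  simpa using h2

open Classical in
/-- restriction to `H` of the function induced from a class function of `N` vanishing
off `H` -/
theorem ind_res (α : N → ℂ) (hα : IsClassFunction N α)
    (hαH : ∀ x : N, (x : G) ∉ H → α x = 0) (x : N) (hx : (x : G) ∈ H) :
    indFun N α (x : G) = α x + (if x = 1 then (h : ℂ) * α 1 else 0) := by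
  by_cases hx1 : x = 1
  · subst hx1
    rw [if_pos rfl]
    have h1 := Helper35.indFun_one_eq N α
    rw [F.index_N] at h1
    show indFun N α 1 = _
    rw [h1]
    push_cast
    ring
  · rw [if_neg hx1, add_zero]
    have h1 := F.hN
    subst h1
    exact Helper4.indFun_ti (H : Set G) F.hTI α hα hαH x hx hx1

/-- Frobenius reciprocity, spelled out -/
theorem ind_inner (α : N → ℂ) (Θ : G → ℂ) (hΘ : IsClassFunction G Θ) :
    classInner (indFun N α) Θ = (Nat.card N : ℂ)⁻¹ * ∑ x : N, α x * conj (Θ (x : G)) := by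
  rw [Helper35.frobenius_reciprocity N α Θ hΘ]
  rfl

open Classical in
/-- the inner products of the induced characters -/
theorem stepT {ψ ψ' : N → ℂ} (hψ : ψ ∈ relS H N) (hψ' : ψ' ∈ relS H N) :
    classInner (indFun N ψ) (indFun N ψ') =
      (if ψ = ψ' then 1 else 0) + ψ 1 * ψ' 1 / (e : ℂ) := by
  classical
  rw [F.ind_inner ψ _ (Helper35.isClassFunction_indFun N ψ')]
  have hN0 : (Nat.card N : ℂ) ≠ 0 := by exact_mod_cast (Nat.card_pos (α := N)).ne'
  have hterm : ∀ x : N, ψ x * conj (indFun N ψ' (x : G)) =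
      ψ x * conj (ψ' x) + (if x = 1 then ψ 1 * ((h : ℂ) * ψ' 1) else 0) := by
    intro x
    by_cases hx : (x : G) ∈ H
    · rw [F.ind_res ψ' (F.cf hψ') (fun y hy => F.vanish hψ' y hy) x hx]
      by_cases hx1 : x = 1
      · subst hx1
        rw [if_pos rfl, if_pos rfl]
        obtain ⟨d, -, hd⟩ := Helper36.irr_degree hψ'.1
        rw [hd]
        simp only [map_add, map_mul, map_natCast]
        ring
      · rw [if_neg hx1, if_neg hx1, add_zero, add_zero]
    · rw [F.vanish hψ x hx, zero_mul, zero_mul, zero_add, if_neg]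
      rintro rfl
      exact hx H.one_mem
  rw [Finset.sum_congr rfl (fun x _ => hterm x), Finset.sum_add_distrib,
    Finset.sum_ite_eq' Finset.univ (1 : N), if_pos (Finset.mem_univ _)]
  have h1 := Helper36.classInner_irr hψ.1 hψ'.1
  unfold classInner at h1
  have h2 : ∑ x : N, ψ x * conj (ψ' x) = (Nat.card N : ℂ) * (if ψ = ψ' then 1 else 0) := by
    rw [← h1]
    field_simp
  rw [h2, F.hNc]
  have he0 : (e : ℂ) ≠ 0 := by
    have := F.he
    exact_mod_cast (by omega : e ≠ 0)
  have hh0 : (h : ℂ) ≠ 0 := by exact_mod_cast F.hpos.ne'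
  push_cast
  field_simp

/-- inner product with a class function of `G` with the values `h + 1` at `1` and `1` on
`H` minus `1` -/
theorem lemV {ψ : N → ℂ} (hψ : ψ ∈ relS H N) (Θ : G → ℂ) (hΘ : IsClassFunction G Θ)
    (hΘ1 : Θ 1 = (h : ℂ) + 1) (hΘH : ∀ u ∈ H, u ≠ 1 → Θ u = 1) :
    classInner (indFun N ψ) Θ = ψ 1 / (e : ℂ) := by
  classical
  rw [F.ind_inner ψ Θ hΘ]
  have hterm : ∀ x : N, ψ x * conj (Θ (x : G)) =
      ψ x + (if x = 1 then ψ 1 * (h : ℂ) else 0) := by
    intro x
    by_cases hx : (x : G) ∈ H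
    · by_cases hx1 : x = 1
      · subst hx1
        rw [if_pos rfl]
        show ψ 1 * conj (Θ 1) = _
        rw [hΘ1]
        simp only [map_add, map_natCast, map_one]
        ring
      · rw [if_neg hx1, add_zero, hΘH (x : G) hx (fun h => hx1 (Subtype.ext h))]
        simp
    · rw [F.vanish hψ x hx, zero_mul, zero_add, if_neg]
      rintro rfl
      exact hx H.one_mem
  rw [Finset.sum_congr rfl (fun x _ => hterm x), Finset.sum_add_distrib,
    Finset.sum_ite_eq' Finset.univ (1 : N), if_pos (Finset.mem_univ _), F.sum_zero hψ, zero_add,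
    F.hNc]
  have he0 : (e : ℂ) ≠ 0 := by
    have := F.he
    exact_mod_cast (by omega : e ≠ 0)
  have hh0 : (h : ℂ) ≠ 0 := by exact_mod_cast F.hpos.ne'
  push_cast
  field_simp

end FSetup

end Fz2

end Cfsg.Agent.Lib.Helper21
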