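import Mathlib
import Cfsg.Agent.Lib.Helper21.Fz2
import Cfsg.Agent.Lib.Helper4.CharExp
import Cfsg.Agent.Lib.Helper4.Contrib2
import Cfsg.Agent.Lib.Helper83.Codeg

/-!
Feit's theorem on Zassenhaus groups: the counting argument.  From the package of exceptional
characters and the bound `s + e + 1 ≤ |Irr G|` we find an irreducible character `χ` of `G`
with `(Ind ψ, χ) = δ_{ψ ψ₁}` for all relevant `ψ`, where `ψ₁` has degree `e`.
-/

set_option autoImplicit false

namespace Cfsg.Agent.Lib.Helper21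

open Cfsg
open scoped ComplexConjugate
open Classical

section Fz3

/-- a counting lemma -/
theorem fz_comb {X : Type*} (I T : Finset X) (t₀ : X) (b : X → ℕ) (e : ℕ)
    (hT : T ⊆ I) (hb : ∀ ζ ∈ I, ζ ∉ T → ζ ≠ t₀ → 1 ≤ b ζ)
    (hcard : T.card + e + 1 ≤ I.card) (hsum : ∑ ζ ∈ I, b ζ ^ 2 = 1 + e) :
    ∑ ζ ∈ T, b ζ ^ 2 ≤ 1 := by
  have h1 := Finset.sum_sdiff (f := fun ζ => b ζ ^ 2) hT
  have h2 : ((I \ T).erase t₀).card ≤ ∑ ζ ∈ I \ T, b ζ ^ 2 := by
    calc ((I \ T).erase t₀).card = ∑ ζ ∈ (I \ T).erase t₀, 1 := by simp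
      _ ≤ ∑ ζ ∈ (I \ T).erase t₀, b ζ ^ 2 := by
          apply Finset.sum_le_sum
          intro ζ hζ
          rw [Finset.mem_erase, Finset.mem_sdiff] at hζ
          have := hb ζ hζ.2.1 hζ.2.2 hζ.1
          exact Nat.one_le_pow _ _ this
      _ ≤ ∑ ζ ∈ I \ T, b ζ ^ 2 :=
          Finset.sum_le_sum_of_subset (Finset.erase_subset _ _)
  have h3 : (I \ T).card - 1 ≤ ((I \ T).erase t₀).card := Finset.pred_card_le_card_erase
  have h4 : (I \ T).card = I.card - T.card := Finset.card_sdiff_of_subset hT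
  omega

variable {G : Type*} [Group G] [Fintype G]

/-- the multiplicity of `ζ` in `Θ` as a natural number -/
noncomputable def cmult (Θ ζ : G → ℂ) : ℕ :=
  if h : ∃ k : ℕ, classInner Θ ζ = k then h.choose else 0

theorem cmult_spec {Θ ζ : G → ℂ} (hΘ : IsCharacter G Θ) (hζ : IsCharacter G ζ) :
    classInner Θ ζ = (cmult Θ ζ : ℂ) := by
  have h := Helper35.classInner_char_nat hΘ hζ
  unfold cmult
  rw [dif_pos h]
  exact h.choose_spec

/-- the finite set of irreducible characters -/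
noncomputable def irrFin (G : Type*) [Group G] [Fintype G] : Finset (G → ℂ) :=
  haveI := Helper4.irr_finite (G := G)
  haveI : Fintype (IrrCharacter G) := Fintype.ofFinite _
  Finset.image (Subtype.val : IrrCharacter G → G → ℂ) (Finset.univ : Finset (IrrCharacter G))

theorem mem_irrFin {ζ : G → ℂ} : ζ ∈ irrFin G ↔ IsIrrCharacter G ζ := by
  unfold irrFin
  simp only [Finset.mem_image, Finset.mem_univ, true_and]
  constructor
  · rintro ⟨χ, rfl⟩
    exact χ.2
  · intro h
    exact ⟨⟨ζ, h⟩, rfl⟩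

theorem sum_irrFin [Fintype (IrrCharacter G)] {R : Type*} [AddCommMonoid R]
    (g : (G → ℂ) → R) :
    ∑ ζ ∈ irrFin G, g ζ = ∑ χ : IrrCharacter G, g (χ : G → ℂ) := by
  unfold irrFin
  rw [Finset.sum_image (fun a _ b _ h => Subtype.ext h)]
  apply Finset.sum_congr
  · ext x
    simp
  · intro x _
    rfl

theorem card_irrFin : (irrFin G).card = Nat.card (IrrCharacter G) := by
  haveI := Helper4.irr_finite (G := G)
  haveI : Fintype (IrrCharacter G) := Fintype.ofFinite _
  have h := sum_irrFin (G := G) (fun _ => (1 : ℕ))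
  simp only [Finset.sum_const, smul_eq_mul, mul_one, Finset.card_univ] at h
  rw [h, Nat.card_eq_fintype_card]

/-- Parseval over `irrFin` -/
theorem parseval_irrFin (θ : G → ℂ) (hθ : IsClassFunction G θ) :
    ∑ ζ ∈ irrFin G, classInner θ ζ * conj (classInner θ ζ) = classInner θ θ := by
  haveI := Helper4.irr_finite (G := G)
  haveI : Fintype (IrrCharacter G) := Fintype.ofFinite _
  rw [sum_irrFin (fun ζ => classInner θ ζ * conj (classInner θ ζ))]
  exact Helper4.parseval_cf θ hθ

end Fz3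

end Cfsg.Agent.Lib.Helper21
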