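import Mathlib
import Cfsg.Agent.Lib.Helper21.Fz3

/-!
Feit's theorem on Zassenhaus groups: the counting argument, main step.
-/

set_option autoImplicit false

namespace Cfsg.Agent.Lib.Helper21

open Cfsg
open scoped ComplexConjugate
open Classical

section Fz4

variable {G : Type*} [Group G] [Fintype G] {H N : Subgroup G} {h e : ℕ}
  {ε : ℂ} {f : (N → ℂ) → (G → ℂ)}

/-- the basic relation of the package, paired with an arbitrary function -/
theorem FPkg.p1 (pk : FPkg H N ε f) {ψ ψ₁ : N → ℂ} (hψ : ψ ∈ relS H N)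
    (hψ₁ : ψ₁ ∈ relS H N) (Z : G → ℂ) :
    ψ₁ 1 * classInner (indFun N ψ) Z - ψ 1 * classInner (indFun N ψ₁) Z =
      ε * (ψ₁ 1 * classInner (f ψ) Z - ψ 1 * classInner (f ψ₁) Z) := by
  have h1 := pk.rel ψ hψ ψ₁ hψ₁
  rw [Helper35.indFun_sub, Helper35.indFun_smul, Helper35.indFun_smul] at h1
  have h2 := congrArg (fun X => classInner X Z) h1
  simp only [Helper35.classInner_sub_left, Helper35.classInner_smul_left] at h2
  exact h2

/-- an irreducible character of a simple group which is trivial on a nontrivial subgroup is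
the principal character -/
theorem irr_eq_one_of_simple [IsSimpleGroup G] (hH1 : H ≠ ⊥) {ζ : G → ℂ}
    (hζ : IsIrrCharacter G ζ) (hker : ∀ u ∈ H, ζ u = ζ 1) : ζ = fun _ => 1 := by
  obtain ⟨u, hu1⟩ := (Subgroup.ne_bot_iff_exists_ne_one).mp hH1
  have hu' : (u : G) ≠ 1 := fun h => hu1 (Subtype.ext h)
  have h1 : (u : G) ∈ Helper83.irrKer (⟨ζ, hζ⟩ : IrrCharacter G) :=
    (Helper83.mem_irrKer _ _).mpr (hker u u.2)
  rcases (Helper83.irrKer_normal (⟨ζ, hζ⟩ : IrrCharacter G)).eq_bot_or_eq_top with h2 | h2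
  · rw [h2, Subgroup.mem_bot] at h1
    exact absurd h1 hu'
  · have h3 := (Helper83.irrKer_eq_top_iff _).mp h2
    have h4 := congrArg Subtype.val h3
    exact h4

variable [Fintype N]

/-- a character of `G` orthogonal to all the characters induced from relevant characters of
`N` is constant on `H` -/
theorem FSetup.const_of_orth (F : FSetup H N h e) {ζ : G → ℂ} (hζ : IsCharacter G ζ)
    (horth : ∀ ψ ∈ relS H N, classInner (indFun N ψ) ζ = 0) (u : G) (hu : u ∈ H) :
    ζ u = ζ 1 := by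
  haveI := Helper4.irr_finite (G := N)
  haveI : Fintype (IrrCharacter N) := Fintype.ofFinite _
  have hcf : IsClassFunction G ζ := Helper35.isClassFunction_of_isCharacter hζ
  have hexp := Helper4.classFunction_expansion (Helper35.res N ζ)
    (Helper35.isClassFunction_res N hcf)
  have huN : u ∈ N := F.le hu
  have h1 : ζ u = Helper35.res N ζ ⟨u, huN⟩ := rfl
  have h2 : ζ 1 = Helper35.res N ζ 1 := rfl
  rw [h1, h2, hexp]
  simp only [Finset.sum_apply, Pi.smul_apply, smul_eq_mul]
  apply Finset.sum_congr rfl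
  intro ξ _
  by_cases hξ : (ξ : N → ℂ) ∈ relS H N
  · have h3 : classInner (Helper35.res N ζ) (ξ : N → ℂ) = 0 := by
      rw [Helper4.classInner_conj_symm, ← Helper35.frobenius_reciprocity N _ ζ hcf,
        horth _ hξ, map_zero]
    rw [h3, zero_mul, zero_mul]
  · have h3 : (ξ : N → ℂ) ⟨u, huN⟩ = (ξ : N → ℂ) 1 := by
      by_contra hne
      exact hξ ⟨ξ.2, ⟨u, huN⟩, hu, hne⟩
    rw [h3]

end Fz4

end Cfsg.Agent.Lib.Helper21
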