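import Mathlib
import Cfsg.Agent.Lib.Helper21.Fz4

/-!
Feit's theorem on Zassenhaus groups: existence of an irreducible character `χ` of `G` with
`(Ind ψ, χ) = δ_{ψ ψ₁}` for all relevant `ψ`.
-/

set_option autoImplicit false

namespace Cfsg.Agent.Lib.Helper21

open Cfsg
open scoped ComplexConjugate
open Classical

section Fz5

variable {G : Type*} [Group G] [Fintype G] {H N : Subgroup G} {h e : ℕ}
  {ε : ℂ} {f : (N → ℂ) → (G → ℂ)} [Fintype N]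

set_option maxHeartbeats 1000000 in
theorem FSetup.exists_chi (F : FSetup H N h e) (pk : FPkg H N ε f) [IsSimpleGroup G]
    (hH1 : H ≠ ⊥) {ψ₁ : N → ℂ} (hψ₁ : ψ₁ ∈ relS H N) (hd₁ : ψ₁ 1 = (e : ℂ))
    (hcount : Nat.card (relS H N) + e + 1 ≤ Nat.card (IrrCharacter G)) :
    ∃ χ : G → ℂ, IsIrrCharacter G χ ∧
      ∀ ψ ∈ relS H N, classInner (indFun N ψ) χ = if ψ = ψ₁ then 1 else 0 := by
  haveI := F.normal
  have hL₁ : IsCharacter G (indFun N ψ₁) :=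
    Helper35.isCharacter_indFun N (Helper35.isChar_of_irr hψ₁.1)
  have hL₁cf : IsClassFunction G (indFun N ψ₁) := Helper35.isClassFunction_indFun N ψ₁
  have hb : ∀ ζ, IsIrrCharacter G ζ →
      classInner (indFun N ψ₁) ζ = (cmult (indFun N ψ₁) ζ : ℂ) :=
    fun ζ hζ => cmult_spec hL₁ (Helper35.isChar_of_irr hζ)
  have he0 : (e : ℂ) ≠ 0 := by
    have := F.he
    exact_mod_cast (by omega : e ≠ 0)
  have hnorm : classInner (indFun N ψ₁) (indFun N ψ₁) = 1 + (e : ℂ) := by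
    rw [F.stepT hψ₁ hψ₁, if_pos rfl, hd₁]
    field_simp
  have hmem : ∀ ψ, ψ ∈ Helper35.ntFin (H.subgroupOf N) ↔ ψ ∈ relS H N := fun ψ => by
    rw [Helper35.mem_ntFin, F.relS_eq]
  have hinj : Set.InjOn f (Helper35.ntFin (H.subgroupOf N) : Set (N → ℂ)) :=
    fun ψ hψ ψ' hψ' hff => pk.inj ψ ((hmem ψ).mp hψ) ψ' ((hmem ψ').mp hψ') hff
  have hTsub : (Helper35.ntFin (H.subgroupOf N)).image f ⊆ irrFin G := by
    intro ζ hζ
    rw [Finset.mem_image] at hζ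
    obtain ⟨ψ, hψ, rfl⟩ := hζ
    exact mem_irrFin.mpr (pk.irr ψ ((hmem ψ).mp hψ))
  have hTcard : ((Helper35.ntFin (H.subgroupOf N)).image f).card =
      (Helper35.ntFin (H.subgroupOf N)).card := Finset.card_image_of_injOn hinj
  have hScard : (Helper35.ntFin (H.subgroupOf N)).card = Nat.card (relS H N) := by
    rw [F.relS_eq, Nat.card_coe_set_eq,
      Set.ncard_eq_toFinset_card _ (Helper35.ntSet_finite _)]
    rfl
  have hsum : ∑ ζ ∈ irrFin G, cmult (indFun N ψ₁) ζ ^ 2 = 1 + e := by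
    have h1 := parseval_irrFin (indFun N ψ₁) hL₁cf
    rw [hnorm] at h1
    have h2 : ∑ ζ ∈ irrFin G, classInner (indFun N ψ₁) ζ * conj (classInner (indFun N ψ₁) ζ) =
        ((∑ ζ ∈ irrFin G, cmult (indFun N ψ₁) ζ ^ 2 : ℕ) : ℂ) := by
      rw [Nat.cast_sum]
      apply Finset.sum_congr rfl
      intro ζ hζ
      rw [hb ζ (mem_irrFin.mp hζ), map_natCast]
      push_cast
      ring
    rw [h2] at h1
    exact_mod_cast h1
  have hb1 : ∀ ζ ∈ irrFin G, ζ ∉ (Helper35.ntFin (H.subgroupOf N)).image f →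
      ζ ≠ (fun _ => (1 : ℂ)) → 1 ≤ cmult (indFun N ψ₁) ζ := by
    intro ζ hζ hζT hζ1
    have hζi := mem_irrFin.mp hζ
    by_contra hlt
    have h0 : cmult (indFun N ψ₁) ζ = 0 := by omega
    have hz : classInner (indFun N ψ₁) ζ = 0 := by
      rw [hb ζ hζi, h0]
      simp
    apply hζ1
    apply irr_eq_one_of_simple hH1 hζi
    apply F.const_of_orth (Helper35.isChar_of_irr hζi)
    intro ψ hψ
    have h3 := pk.p1 hψ hψ₁ ζ
    have h4 : classInner (f ψ) ζ = 0 := by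
      rw [Helper36.classInner_irr (pk.irr ψ hψ) hζi, if_neg]
      rintro rfl
      exact hζT (Finset.mem_image.mpr ⟨ψ, (hmem ψ).mpr hψ, rfl⟩)
    have h5 : classInner (f ψ₁) ζ = 0 := by
      rw [Helper36.classInner_irr (pk.irr ψ₁ hψ₁) hζi, if_neg]
      rintro rfl
      exact hζT (Finset.mem_image.mpr ⟨ψ₁, (hmem ψ₁).mpr hψ₁, rfl⟩)
    rw [h4, h5, hz, hd₁] at h3
    have h6 : (e : ℂ) * classInner (indFun N ψ) ζ = 0 := by linear_combination h3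
    exact (mul_eq_zero.mp h6).resolve_left he0
  have hcomb := fz_comb (irrFin G) ((Helper35.ntFin (H.subgroupOf N)).image f) (fun _ => 1)
    (cmult (indFun N ψ₁)) e hTsub hb1 (by rw [hTcard, hScard, card_irrFin]; exact hcount) hsum
  rw [Finset.sum_image hinj] at hcomb
  have hψ₁S : ψ₁ ∈ Helper35.ntFin (H.subgroupOf N) := (hmem ψ₁).mpr hψ₁
  rw [← Finset.add_sum_erase _ _ hψ₁S] at hcomb
  obtain ⟨εz, hεz, hεz'⟩ : ∃ εz : ℤ, (εz = 1 ∨ εz = -1) ∧ ε = (εz : ℂ) := by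
    rcases pk.eps with h | h
    · exact ⟨1, Or.inl rfl, by simp [h]⟩
    · exact ⟨-1, Or.inr rfl, by simp [h]⟩
  have hεε : (εz : ℂ) * (εz : ℂ) = 1 := by
    rcases hεz with h | h <;> rw [h] <;> norm_num
  have hdeg : ∀ ψ ∈ relS H N, ψ 1 = (charDegree ψ : ℂ) :=
    fun ψ hψ => (Helper83.irr_degree hψ.1).2
  have hde : charDegree ψ₁ = e := by
    have := hdeg ψ₁ hψ₁
    rw [hd₁] at this
    exact_mod_cast this.symm
  have key : ∀ ψ ∈ (Helper35.ntFin (H.subgroupOf N)).erase ψ₁,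
      (e : ℤ) * (cmult (indFun N ψ₁) (f ψ) : ℤ) =
        (charDegree ψ : ℤ) * ((cmult (indFun N ψ₁) (f ψ₁) : ℤ) - εz) := by
    intro ψ hψ
    rw [Finset.mem_erase] at hψ
    have hψS := (hmem ψ).mp hψ.2
    have h3 := pk.p1 hψS hψ₁ (indFun N ψ₁)
    have h4 : classInner (f ψ) (indFun N ψ₁) = (cmult (indFun N ψ₁) (f ψ) : ℂ) := by
      rw [Helper4.classInner_conj_symm, hb _ (pk.irr ψ hψS), map_natCast]
    have h5 : classInner (f ψ₁) (indFun N ψ₁) = (cmult (indFun N ψ₁) (f ψ₁) : ℂ) := by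
      rw [Helper4.classInner_conj_symm, hb _ (pk.irr ψ₁ hψ₁), map_natCast]
    rw [F.stepT hψS hψ₁, if_neg hψ.1, hnorm, h4, h5, hd₁, hdeg ψ hψS, hεz',
      mul_div_cancel_right₀ _ he0] at h3
    have h6 : (((e : ℤ) * (cmult (indFun N ψ₁) (f ψ) : ℤ) : ℤ) : ℂ) =
        (((charDegree ψ : ℤ) * ((cmult (indFun N ψ₁) (f ψ₁) : ℤ) - εz) : ℤ) : ℂ) := by
      push_cast
      linear_combination (-(εz : ℂ)) * h3 -
        ((e : ℂ) * (cmult (indFun N ψ₁) (f ψ) : ℂ) -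
          (charDegree ψ : ℂ) * (cmult (indFun N ψ₁) (f ψ₁) : ℂ)) * hεε
    exact_mod_cast h6
  have hA4 := Helper35.sum_sq_ntFin (H.subgroupOf N)
  rw [F.index_sub, F.hNc, ← Finset.add_sum_erase _ _ hψ₁S, hde] at hA4
  have hsumZ : (e : ℤ) ^ 2 * ∑ ψ ∈ (Helper35.ntFin (H.subgroupOf N)).erase ψ₁,
        (cmult (indFun N ψ₁) (f ψ) : ℤ) ^ 2 =
      ((cmult (indFun N ψ₁) (f ψ₁) : ℤ) - εz) ^ 2 *
        ∑ ψ ∈ (Helper35.ntFin (H.subgroupOf N)).erase ψ₁, (charDegree ψ : ℤ) ^ 2 := by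
    rw [Finset.mul_sum, Finset.mul_sum]
    apply Finset.sum_congr rfl
    intro ψ hψ
    have h1 := key ψ hψ
    calc (e : ℤ) ^ 2 * (cmult (indFun N ψ₁) (f ψ) : ℤ) ^ 2
        = ((e : ℤ) * (cmult (indFun N ψ₁) (f ψ) : ℤ)) ^ 2 := by ring
      _ = ((charDegree ψ : ℤ) * ((cmult (indFun N ψ₁) (f ψ₁) : ℤ) - εz)) ^ 2 := by rw [h1]
      _ = _ := by ring
  have hle : ∑ ψ ∈ (Helper35.ntFin (H.subgroupOf N)).erase ψ₁,
      cmult (indFun N ψ₁) (f ψ) ^ 2 ≤ 1 := le_trans (Nat.le_add_left _ _) hcomb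
  have hleZ : ∑ ψ ∈ (Helper35.ntFin (H.subgroupOf N)).erase ψ₁,
      (cmult (indFun N ψ₁) (f ψ) : ℤ) ^ 2 ≤ 1 := by exact_mod_cast hle
  have hA4Z : ∑ ψ ∈ (Helper35.ntFin (H.subgroupOf N)).erase ψ₁, (charDegree ψ : ℤ) ^ 2 =
      (e : ℤ) * h - e - (e : ℤ) ^ 2 := by
    have h1 : ((e ^ 2 + ∑ ψ ∈ (Helper35.ntFin (H.subgroupOf N)).erase ψ₁, charDegree ψ ^ 2 + e
      : ℕ) : ℤ) = ((e * h : ℕ) : ℤ) := by rw [hA4]
    push_cast at h1
    linarith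
  have hh' : 2 * (e : ℤ) + 2 ≤ h := by
    have h1 : 2 * e + 2 ≤ h := by
      have := F.hlt
      omega
    exact_mod_cast h1
  have he2 : (2 : ℤ) ≤ e := by exact_mod_cast F.he
  have hX : (e : ℤ) ^ 2 + e ≤ (e : ℤ) * h - e - (e : ℤ) ^ 2 := by
    nlinarith [mul_nonneg (by linarith : (0 : ℤ) ≤ e) (by linarith : (0 : ℤ) ≤ h - 2 * e - 2)]
  have hA0 : (cmult (indFun N ψ₁) (f ψ₁) : ℤ) - εz = 0 := by
    by_contra hA
    have h1 : 1 ≤ ((cmult (indFun N ψ₁) (f ψ₁) : ℤ) - εz) ^ 2 := by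
      have : 0 < ((cmult (indFun N ψ₁) (f ψ₁) : ℤ) - εz) ^ 2 := by positivity
      linarith
    have h2 : ((cmult (indFun N ψ₁) (f ψ₁) : ℤ) - εz) ^ 2 *
        ((e : ℤ) * h - e - (e : ℤ) ^ 2) ≤ (e : ℤ) ^ 2 := by
      rw [← hA4Z, ← hsumZ]
      nlinarith [sq_nonneg (e : ℤ)]
    nlinarith [mul_le_mul_of_nonneg_right h1
      (by linarith [sq_nonneg (e : ℤ)] : (0 : ℤ) ≤ (e : ℤ) * h - e - (e : ℤ) ^ 2)]
  have hε1 : εz = 1 := by
    rcases hεz with h | h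
    · exact h
    · rw [h] at hA0
      have : (0 : ℤ) ≤ (cmult (indFun N ψ₁) (f ψ₁) : ℤ) := Int.natCast_nonneg _
      omega
  have hB1 : (cmult (indFun N ψ₁) (f ψ₁) : ℂ) = 1 := by
    have h1 : (cmult (indFun N ψ₁) (f ψ₁) : ℤ) = 1 := by
      rw [hε1] at hA0
      omega
    exact_mod_cast h1
  have hεc : ε = 1 := by
    rw [hεz', hε1]
    simp
  refine ⟨f ψ₁, pk.irr ψ₁ hψ₁, fun ψ hψ => ?_⟩
  by_cases hψe : ψ = ψ₁
  · subst hψe
    rw [if_pos rfl, hb _ (pk.irr ψ hψ₁), hB1]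
  · rw [if_neg hψe]
    have h3 := pk.p1 hψ hψ₁ (f ψ₁)
    rw [hb (f ψ₁) (pk.irr ψ₁ hψ₁), Helper36.classInner_irr (pk.irr ψ hψ) (pk.irr ψ₁ hψ₁),
      if_neg (fun hff => hψe (pk.inj ψ hψ ψ₁ hψ₁ hff)),
      Helper36.classInner_irr_self (pk.irr ψ₁ hψ₁), hd₁, hεc, hB1] at h3
    have h6 : (e : ℂ) * classInner (indFun N ψ) (f ψ₁) = 0 := by linear_combination h3
    exact (mul_eq_zero.mp h6).resolve_left he0

end Fz5

end Cfsg.Agent.Lib.Helper21
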