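import Mathlib
import Cfsg.Agent.Lib.Helper21.Fz5

/-!
Feit's theorem on Zassenhaus groups: the exceptional character `χ` restricts to `ψ₁` on `N`,
so it has degree `e`; the abstract core theorem.
-/

set_option autoImplicit false

namespace Cfsg.Agent.Lib.Helper21

open Cfsg
open scoped ComplexConjugate
open Classical

section Fz6

variable {G : Type*} [Group G] [Fintype G] {H N : Subgroup G} {h e : ℕ} [Fintype N]

/-- there is a second relevant character -/
theorem FSetup.exists_second (F : FSetup H N h e) {ψ₁ : N → ℂ} (hψ₁ : ψ₁ ∈ relS H N)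
    (hd₁ : ψ₁ 1 = (e : ℂ)) : ∃ ψ₂ ∈ relS H N, ψ₂ ≠ ψ₁ := by
  haveI := F.normal
  by_contra hcon
  push Not at hcon
  have hmem : ∀ ψ, ψ ∈ Helper35.ntFin (H.subgroupOf N) ↔ ψ ∈ relS H N := fun ψ => by
    rw [Helper35.mem_ntFin, F.relS_eq]
  have hψ₁S : ψ₁ ∈ Helper35.ntFin (H.subgroupOf N) := (hmem ψ₁).mpr hψ₁
  have hde : charDegree ψ₁ = e := by
    have := (Helper83.irr_degree hψ₁.1).2
    rw [hd₁] at this
    exact_mod_cast this.symm
  have hA4 := Helper35.sum_sq_ntFin (H.subgroupOf N)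
  rw [F.index_sub, F.hNc, ← Finset.add_sum_erase _ _ hψ₁S, hde] at hA4
  have hemp : (Helper35.ntFin (H.subgroupOf N)).erase ψ₁ = ∅ := by
    apply Finset.eq_empty_of_forall_notMem
    intro ψ hψ
    rw [Finset.mem_erase] at hψ
    exact hψ.1 (hcon ψ ((hmem ψ).mp hψ.2))
  rw [hemp, Finset.sum_empty, add_zero] at hA4
  have h1 : e * (e + 1) = e * h := by rw [← hA4]; ring
  have h2 : e + 1 = h := Nat.eq_of_mul_eq_mul_left (by have := F.he; omega) h1
  have := F.hlt
  omega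

set_option maxHeartbeats 1000000 in
/-- the exceptional character has degree `e` -/
theorem FSetup.chi_degree (F : FSetup H N h e) {ψ₁ : N → ℂ} (hψ₁ : ψ₁ ∈ relS H N)
    (hd₁ : ψ₁ 1 = (e : ℂ)) {χ : G → ℂ} (hχ : IsIrrCharacter G χ)
    (hχS : ∀ ψ ∈ relS H N, classInner (indFun N ψ) χ = if ψ = ψ₁ then 1 else 0)
    (hlin : ∀ ξ : N → ℂ, IsIrrCharacter N ξ → ξ ∉ relS H N → ξ 1 = 1)
    (hμ : ∀ μ : N → ℂ, IsIrrCharacter N μ → μ 1 = 1 → μ ∉ relS H N → μ ≠ (fun _ => 1) →
      IsIrrCharacter G (indFun N μ) ∧ ∀ u ∈ H, u ≠ 1 → indFun N μ u = 1)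
    (hπ : classInner (indFun N (fun _ : N => (1 : ℂ))) (indFun N (fun _ : N => (1 : ℂ))) = 2)
    (hπH : ∀ u ∈ H, u ≠ 1 → indFun N (fun _ : N => (1 : ℂ)) u = 1) :
    χ 1 = (e : ℂ) := by
  haveI := Helper4.irr_finite (G := N)
  haveI : Fintype (IrrCharacter N) := Fintype.ofFinite _
  have he0 : (e : ℂ) ≠ 0 := by
    have := F.he
    exact_mod_cast (by omega : e ≠ 0)
  obtain ⟨ψ₂, hψ₂, hψ₂ne⟩ := F.exists_second hψ₁ hd₁
  have hd₂ : ψ₂ 1 ≠ 0 := by
    obtain ⟨hpos, hd⟩ := Helper83.irr_degree hψ₂.1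
    rw [hd]
    exact_mod_cast hpos.ne'
  have hχ2 : classInner (indFun N ψ₂) χ = 0 := by rw [hχS ψ₂ hψ₂, if_neg hψ₂ne]
  have hχcf : IsClassFunction G χ := Helper4.isClassFunction_irr (⟨χ, hχ⟩ : IrrCharacter G)
  have h1G : IsIrrCharacter G (fun _ : G => (1 : ℂ)) := Helper83.isIrr_one
  have h1N : IsIrrCharacter N (fun _ : N => (1 : ℂ)) := Helper83.isIrr_one
  -- `χ` is not the principal character
  have hχ1 : χ ≠ fun _ => 1 := by
    intro hχe
    have h1 := hχS ψ₁ hψ₁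
    rw [if_pos rfl, hχe, Helper35.frobenius_reciprocity N ψ₁ _
      (Helper4.isClassFunction_irr (⟨_, h1G⟩ : IrrCharacter G))] at h1
    have h2 : Helper35.res N (fun _ : G => (1 : ℂ)) = fun _ : N => (1 : ℂ) := rfl
    rw [h2, Helper36.classInner_irr hψ₁.1 h1N, if_neg (F.ne_one hψ₁)] at h1
    exact zero_ne_one h1
  -- the permutation character
  have hπc : IsCharacter G (indFun N (fun _ : N => (1 : ℂ))) :=
    Helper35.isCharacter_indFun N (Helper35.isChar_of_irr h1N)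
  have hπcf : IsClassFunction G (indFun N (fun _ : N => (1 : ℂ))) :=
    Helper35.isClassFunction_indFun N _
  have hπ1 : indFun N (fun _ : N => (1 : ℂ)) 1 = (h : ℂ) + 1 := by
    rw [Helper35.indFun_one_eq, F.index_N]
    push_cast
    ring
  have hπtriv : classInner (indFun N (fun _ : N => (1 : ℂ))) (fun _ : G => (1 : ℂ)) = 1 := by
    rw [Helper35.frobenius_reciprocity N _ _
      (Helper4.isClassFunction_irr (⟨_, h1G⟩ : IrrCharacter G))]
    have h2 : Helper35.res N (fun _ : G => (1 : ℂ)) = fun _ : N => (1 : ℂ) := rfl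
    rw [h2, Helper36.classInner_irr_self h1N]
  have hπχ : classInner (indFun N (fun _ : N => (1 : ℂ))) χ = 0 := by
    have hθg : IsGeneralizedCharacter G
        (indFun N (fun _ : N => (1 : ℂ)) - fun _ : G => (1 : ℂ)) :=
      Helper35.isGenChar_sub (Helper35.isGenChar_of_char hπc)
        (Helper35.isGenChar_of_char (Helper35.isChar_of_irr h1G))
    have hθn : classInner (indFun N (fun _ : N => (1 : ℂ)) - fun _ : G => (1 : ℂ))
        (indFun N (fun _ : N => (1 : ℂ)) - fun _ : G => (1 : ℂ)) = 1 := by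
      rw [Helper35.classInner_sub_left, Helper35.classInner_sub_right,
        Helper35.classInner_sub_right, hπ, hπtriv, Helper36.classInner_irr_self h1G,
        Helper4.classInner_conj_symm (fun _ : G => (1 : ℂ)), hπtriv]
      simp
      norm_num
    obtain ⟨ζ, hζ, hζ'⟩ := Helper36.gen_norm_one hθg hθn
    obtain ⟨n, hnpos, hn⟩ := Helper36.irr_degree hζ
    have hθ1 : (indFun N (fun _ : N => (1 : ℂ)) - fun _ : G => (1 : ℂ)) 1 = (h : ℂ) := by
      rw [Pi.sub_apply, hπ1]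
      ring
    have hθirr : indFun N (fun _ : N => (1 : ℂ)) - (fun _ : G => (1 : ℂ)) = ζ := by
      rcases hζ' with h' | h'
      · exact h'
      · exfalso
        rw [h', Pi.neg_apply, hn] at hθ1
        have h3 : ((n + h : ℕ) : ℂ) = 0 := by
          push_cast
          linear_combination -hθ1
        have h4 : n + h = 0 := by exact_mod_cast h3
        omega
    have hπdec : indFun N (fun _ : N => (1 : ℂ)) = ζ + fun _ : G => (1 : ℂ) := by
      rw [← hθirr]
      funext g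
      simp
    have hζχ : ζ ≠ χ := by
      intro hζe
      have h3 := F.lemV hψ₂ _ hπcf hπ1 hπH
      rw [hπdec, Helper35.classInner_add_right, hζe, hχ2, zero_add,
        Helper35.frobenius_reciprocity N ψ₂ _
          (Helper4.isClassFunction_irr (⟨_, h1G⟩ : IrrCharacter G))] at h3
      have h2 : Helper35.res N (fun _ : G => (1 : ℂ)) = fun _ : N => (1 : ℂ) := rfl
      rw [h2, Helper36.classInner_irr hψ₂.1 h1N, if_neg (F.ne_one hψ₂)] at h3
      exact (div_ne_zero hd₂ he0) h3.symm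
    rw [hπdec, Helper35.classInner_add_left, Helper36.classInner_irr hζ hχ, if_neg hζχ,
      Helper36.classInner_irr h1G hχ, if_neg (fun h' => hχ1 h'.symm), add_zero]
  -- the induced characters from the other characters of `N`
  have hother : ∀ ξ : N → ℂ, IsIrrCharacter N ξ → ξ ∉ relS H N →
      classInner (indFun N ξ) χ = 0 := by
    intro ξ hξ hξS
    by_cases hξ1 : ξ = fun _ => 1
    · rw [hξ1]
      exact hπχ
    · obtain ⟨hνirr, hνH⟩ := hμ ξ hξ (hlin ξ hξ hξS) hξS hξ1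
      rw [Helper36.classInner_irr hνirr hχ, if_neg]
      intro hνe
      have hν1 : indFun N ξ 1 = (h : ℂ) + 1 := by
        rw [Helper35.indFun_one_eq, F.index_N, hlin ξ hξ hξS]
        push_cast
        ring
      have h3 := F.lemV hψ₂ _ (Helper35.isClassFunction_indFun N ξ) hν1 hνH
      rw [hνe, hχ2] at h3
      exact (div_ne_zero hd₂ he0) h3.symm
  -- expansion of the restriction
  have hexp := Helper4.classFunction_expansion (Helper35.res N χ)
    (Helper35.isClassFunction_res N hχcf)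
  have h1 : χ 1 = Helper35.res N χ 1 := rfl
  rw [h1, hexp]
  simp only [Finset.sum_apply, Pi.smul_apply, smul_eq_mul]
  rw [Finset.sum_eq_single (⟨ψ₁, hψ₁.1⟩ : IrrCharacter N)]
  · have h3 : classInner (Helper35.res N χ) ψ₁ = 1 := by
      rw [Helper4.classInner_conj_symm, ← Helper35.frobenius_reciprocity N _ χ hχcf,
        hχS ψ₁ hψ₁, if_pos rfl, map_one]
    show classInner (Helper35.res N χ) ψ₁ * ψ₁ 1 = _
    rw [h3, one_mul, hd₁]
  · intro ξ _ hξne
    have h3 : classInner (Helper35.res N χ) (ξ : N → ℂ) = 0 := by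
      rw [Helper4.classInner_conj_symm, ← Helper35.frobenius_reciprocity N _ χ hχcf]
      by_cases hξS : (ξ : N → ℂ) ∈ relS H N
      · rw [hχS _ hξS, if_neg (fun h' => hξne (Subtype.ext h')), map_zero]
      · rw [hother _ ξ.2 hξS, map_zero]
    rw [h3, zero_mul]
  · intro hcon
    exact absurd (Finset.mem_univ _) hcon

/-- **the abstract core of Feit's theorem**: no package of exceptional characters exists -/
theorem FSetup.core (F : FSetup H N h e) {ε : ℂ} {f : (N → ℂ) → (G → ℂ)} (pk : FPkg H N ε f)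
    [IsSimpleGroup G] (hH1 : H ≠ ⊥) {ψ₁ : N → ℂ} (hψ₁ : ψ₁ ∈ relS H N) (hd₁ : ψ₁ 1 = (e : ℂ))
    (hcount : Nat.card (relS H N) + e + 1 ≤ Nat.card (IrrCharacter G))
    (hlin : ∀ ξ : N → ℂ, IsIrrCharacter N ξ → ξ ∉ relS H N → ξ 1 = 1)
    (hμ : ∀ μ : N → ℂ, IsIrrCharacter N μ → μ 1 = 1 → μ ∉ relS H N → μ ≠ (fun _ => 1) →
      IsIrrCharacter G (indFun N μ) ∧ ∀ u ∈ H, u ≠ 1 → indFun N μ u = 1)
    (hπ : classInner (indFun N (fun _ : N => (1 : ℂ))) (indFun N (fun _ : N => (1 : ℂ))) = 2)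
    (hπH : ∀ u ∈ H, u ≠ 1 → indFun N (fun _ : N => (1 : ℂ)) u = 1)
    (hdeg : ∀ Λ : G → ℂ, IsIrrCharacter G Λ → Λ ≠ (fun _ => 1) → ∀ d : ℕ, Λ 1 = (d : ℂ) →
      (e - 1) * (h + 1) + 2 ≤ 2 * d ^ 2) : False := by
  obtain ⟨χ, hχ, hχS⟩ := F.exists_chi pk hH1 hψ₁ hd₁ hcount
  have hχe := F.chi_degree hψ₁ hd₁ hχ hχS hlin hμ hπ hπH
  have hχ1 : χ ≠ fun _ => 1 := by
    intro hχe'
    rw [hχe'] at hχe
    have h0 : (1 : ℂ) = (e : ℂ) := hχe
    have h1 : (1 : ℕ) = e := by exact_mod_cast h0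
    have := F.he
    omega
  have h1 := hdeg χ hχ hχ1 e hχe
  have h2 := F.hlt
  have h3 := F.he
  obtain ⟨k, rfl⟩ : ∃ k, e = k + 2 := ⟨e - 2, by omega⟩
  have h4 : (k + 2 - 1) * (2 * (k + 2) + 3) ≤ (k + 2 - 1) * (h + 1) :=
    Nat.mul_le_mul_left _ (by omega)
  have h5 : k + 2 - 1 = k + 1 := by omega
  rw [h5] at h4 h1
  nlinarith

end Fz6

end Cfsg.Agent.Lib.Helper21
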