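import Mathlib
import Cfsg.Agent.Lib.Helper21.Fz6
import Cfsg.Agent.Lib.Helper21.Zass3
import Cfsg.Agent.S0878

/-!
Feit's theorem on Zassenhaus groups: the permutation-group side of the setting.
-/

set_option autoImplicit false

namespace Cfsg.Agent.Lib.Helper21

open Cfsg MulAction
open scoped ComplexConjugate

section Fz7

variable {G Ω : Type*} [Group G] [MulAction G Ω]

/-- an element of the point stabilizer outside `H` fixes a second point -/
theorem zass_stab_fix [Finite G] [Fintype Ω] (hZ : IsZassenhausGroup G Ω) (a : Ω)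
    (H : Subgroup G) (hHa : H ≤ stabilizer G a) (hHcard : Nat.card H + 1 = Fintype.card Ω)
    (hHfix : ∀ u ∈ H, u ≠ 1 → ∀ c : Ω, u • c = c → c = a) (x : G) (hxa : x • a = a)
    (hxH : x ∉ H) : ∃ c : Ω, c ≠ a ∧ x • c = c := by
  classical
  have hcardΩ' : Nat.card {c : Ω // c ≠ a} = Nat.card H := by
    have h1 : Nat.card {c : Ω // c ≠ a} = Fintype.card Ω - 1 := by
      rw [Nat.card_eq_fintype_card]
      exact Set.card_ne_eq a
    rw [h1]
    omega
  have hne : ∀ c : Ω, c ≠ a → x • c ≠ a := by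
    intro c hc hh
    exact hc (MulAction.injective x (hh.trans hxa.symm))
  have hex : ∀ c : {c : Ω // c ≠ a}, ∃ u : H, (u : G) • (x • (c : Ω)) = c := by
    intro c
    obtain ⟨u, hu, hc⟩ := zass_H_trans a H hHa hHcard hHfix (hne c c.2) c.2
    exact ⟨⟨u, hu⟩, hc⟩
  choose ψ hψ using hex
  have hinj : Function.Injective ψ := by
    intro c c' hcc
    by_contra hne'
    have hne'' : (c : Ω) ≠ c' := fun h => hne' (Subtype.ext h)
    have h1 : ((ψ c : G) * x) • (c : Ω) = c := by rw [mul_smul, hψ c]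
    have h2 : ((ψ c : G) * x) • (c' : Ω) = c' := by rw [hcc, mul_smul, hψ c']
    have h3 : ((ψ c : G) * x) • a = a := by
      rw [mul_smul, hxa]
      exact hHa (ψ c).2
    have h4 : (ψ c : G) * x = 1 :=
      zass_three hZ (Ne.symm c.2) hne'' (Ne.symm c'.2) h3 h1 h2
    apply hxH
    have h5 : x = (ψ c : G)⁻¹ := by
      rw [eq_inv_iff_mul_eq_one, ← h4]
      have := mul_eq_one_iff_eq_inv.mp h4
      rw [this]
      group
    rw [h5]
    exact H.inv_mem (ψ c).2
  have hbij := hinj.bijective_of_nat_card_le (le_of_eq hcardΩ'.symm)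
  obtain ⟨c, hc⟩ := hbij.2 1
  refine ⟨c, c.2, ?_⟩
  have := hψ c
  rw [hc] at this
  simpa using this

/-- the centralizer of a non-identity element of `H` lies in `H` -/
theorem zass_centralizer_le [Finite G] [Fintype Ω] (hZ : IsZassenhausGroup G Ω) (a : Ω)
    (H : Subgroup G) (hHa : H ≤ stabilizer G a) (hHcard : Nat.card H + 1 = Fintype.card Ω)
    (hHfix : ∀ u ∈ H, u ≠ 1 → ∀ c : Ω, u • c = c → c = a) (k : G) (hk : k ∈ H) (hk1 : k ≠ 1) :
    Subgroup.centralizer ({k} : Set G) ≤ H := by
  intro x hx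
  rw [Subgroup.mem_centralizer_singleton_iff] at hx
  have hka : k • a = a := hHa hk
  have hxa : x • a = a := by
    apply hHfix k hk hk1
    rw [← mul_smul, ← hx, mul_smul, hka]
  by_contra hxH
  obtain ⟨c, hca, hxc⟩ := zass_stab_fix hZ a H hHa hHcard hHfix x hxa hxH
  have hkc : x • (k • c) = k • c := by
    rw [← mul_smul, hx, mul_smul, hxc]
  have hkc1 : k • c ≠ c := fun h => hca (hHfix k hk hk1 c h)
  have hkc2 : k • c ≠ a := by
    intro h
    rw [← hka] at h
    exact hca (MulAction.injective k h)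
  have := zass_three hZ (Ne.symm hca) (Ne.symm hkc1) (Ne.symm hkc2) hxa hxc hkc
  exact hxH (this ▸ H.one_mem)

/-- the order of the point stabilizer -/
theorem zass_card_stab [Finite G] [Fintype Ω] (hZ : IsZassenhausGroup G Ω) {a b : Ω}
    (hab : a ≠ b) :
    Nat.card (stabilizer G a) = (Fintype.card Ω - 1) *
      Nat.card ↥(stabilizer G a ⊓ stabilizer G b : Subgroup G) := by
  have h1 := (zass_count hZ hab).1
  have h3 : MulAction.orbit G a = Set.univ := by
    ext ω
    simp only [Set.mem_univ, iff_true]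
    by_cases hω : ω = a
    · rw [hω]
      exact MulAction.mem_orbit_self a
    · obtain ⟨g, hg, -⟩ := zass_two_trans hZ hab (c := ω) (d := a) hω
      exact ⟨g, hg⟩
  have hidx : (stabilizer G a).index = Fintype.card Ω := by
    rw [MulAction.index_stabilizer, h3, Set.ncard_univ, Nat.card_eq_fintype_card]
  have h2 := Subgroup.card_mul_index (stabilizer G a)
  rw [hidx, h1] at h2
  have h3' : 3 ≤ Fintype.card Ω := zass_three_le_card hZ
  have h5 : Fintype.card Ω * Nat.card (stabilizer G a) = Fintype.card Ω *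
      ((Fintype.card Ω - 1) * Nat.card ↥(stabilizer G a ⊓ stabilizer G b : Subgroup G)) := by
    rw [mul_comm, h2, mul_assoc]
  exact Nat.eq_of_mul_eq_mul_left (by omega) h5

end Fz7

end Cfsg.Agent.Lib.Helper21
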