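import Mathlib
import Cfsg.Agent.Lib.Helper21.Fz7
import Cfsg.Agent.Lib.Helper4.GalP1
import Cfsg.Agent.Lib.Helper20.PermChar
import Cfsg.Agent.S0033

/-!
Feit's theorem on Zassenhaus groups: the setting holds in a Zassenhaus group; nilpotency of the
Frobenius kernel; a relevant character of degree `e`; the permutation character.
-/

set_option autoImplicit false

namespace Cfsg.Agent.Lib.Helper21

open Cfsg MulAction
open scoped ComplexConjugate

section Fz8

variable {G Ω : Type*} [Group G] [MulAction G Ω]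

/-- the abstract setting holds in a Zassenhaus group -/
theorem zass_fsetup [Fintype G] [Fintype Ω] (hZ : IsZassenhausGroup G Ω) {a b : Ω}
    (hab : a ≠ b) (h e : ℕ) (hh : Fintype.card Ω = h + 1)
    (he : Nat.card ↥(stabilizer G a ⊓ stabilizer G b : Subgroup G) = e)
    (hlt : 2 * e < h - 1)
    (H : Subgroup G) (hHa : H ≤ stabilizer G a) (hHcard : Nat.card H + 1 = Fintype.card Ω)
    (hHfix : ∀ u ∈ H, u ≠ 1 → ∀ c : Ω, u • c = c → c = a) :
    FSetup H (stabilizer G a) h e := by
  have hS := Cfsg.Agent.S0878.result hZ a H hHa hHcard hHfix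
  refine ⟨hS.2, ?_, zass_centralizer_le hZ a H hHa hHcard hHfix, by omega, ?_, ?_, ?_, hlt⟩
  · intro g hg x hx hgx
    rw [hS.2] at hg
    exact hS.1 g hg x hx hgx
  · rw [zass_card_stab hZ hab, hh, he]
    simp
    ring
  · have h1 := (zass_count hZ hab).1
    rw [hh, he] at h1
    rw [h1]
    simp
    ring
  · by_contra hcon
    obtain ⟨x, hx1, hxa, hxb⟩ := zass_exists_ne_one hZ hab
    have h1 : (stabilizer G a ⊓ stabilizer G b : Subgroup G) = ⊥ :=
      Subgroup.eq_bot_of_card_le _ (by rw [he]; omega)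
    have h2 : x ∈ (stabilizer G a ⊓ stabilizer G b : Subgroup G) := ⟨hxa, hxb⟩
    rw [h1, Subgroup.mem_bot] at h2
    exact hx1 h2

/-- the Frobenius kernel of the point stabilizer of a Zassenhaus group is nilpotent
(Thompson) -/
theorem zass_H_nilpotent [Finite G] [Fintype Ω] (hZ : IsZassenhausGroup G Ω) {a b : Ω}
    (hab : a ≠ b)
    (H : Subgroup G) (hHa : H ≤ stabilizer G a) (hHcard : Nat.card H + 1 = Fintype.card Ω)
    (hHfix : ∀ u ∈ H, u ≠ 1 → ∀ c : Ω, u • c = c → c = a) : Group.IsNilpotent H := by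
  classical
  have hS := Cfsg.Agent.S0878.result hZ a H hHa hHcard hHfix
  obtain ⟨x, hx1, hxa, hxb⟩ := zass_exists_ne_one hZ hab
  have hE1 : Nat.card ↥(stabilizer G a ⊓ stabilizer G b : Subgroup G) ≠ 1 := by
    intro hcon
    have h1 : (stabilizer G a ⊓ stabilizer G b : Subgroup G) = ⊥ :=
      Subgroup.eq_bot_of_card_le _ (by omega)
    have h2 : x ∈ (stabilizer G a ⊓ stabilizer G b : Subgroup G) := ⟨hxa, hxb⟩
    rw [h1, Subgroup.mem_bot] at h2
    exact hx1 h2
  set p := (Nat.card ↥(stabilizer G a ⊓ stabilizer G b : Subgroup G)).minFac with hp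
  have hpp : p.Prime := Nat.minFac_prime hE1
  haveI : Fact p.Prime := ⟨hpp⟩
  obtain ⟨y, hy⟩ := exists_prime_orderOf_dvd_card' p (Nat.minFac_dvd _)
  have hyG : orderOf (y : G) = p := by rw [Subgroup.orderOf_coe, hy]
  have hy1 : (y : G) ≠ 1 := by
    intro h
    rw [h, orderOf_one] at hyG
    exact hpp.one_lt.ne hyG
  have hya : (y : G) • a = a := y.2.1
  have hyb : (y : G) • b = b := y.2.2
  have hyN : (y : G) ∈ Subgroup.normalizer (H : Set G) := by
    rw [hS.2]
    exact hya
  have hnorm : ∀ u : G, u ∈ H ↔ (y : G) * u * (y : G)⁻¹ ∈ H := fun u =>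
    Subgroup.mem_set_normalizer_iff.mp hyN u
  let φ : H ≃* H :=
    { toFun := fun u => ⟨(y : G) * u * (y : G)⁻¹, (hnorm u).mp u.2⟩
      invFun := fun u => ⟨(y : G)⁻¹ * u * (y : G), (hnorm _).mpr (by
        have : (y : G) * ((y : G)⁻¹ * u * (y : G)) * (y : G)⁻¹ = u := by group
        rw [this]
        exact u.2)⟩
      left_inv := fun u => Subtype.ext (by simp [mul_assoc])
      right_inv := fun u => Subtype.ext (by simp [mul_assoc])
      map_mul' := fun u v => Subtype.ext (by simp [mul_assoc]) }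
  have hφ : ∀ u : H, ((φ u : H) : G) = (y : G) * u * (y : G)⁻¹ := fun u => rfl
  have hpow : ∀ (k : ℕ) (u : H), (((φ ^ k) u : H) : G) = (y : G) ^ k * u * ((y : G) ^ k)⁻¹ := by
    intro k
    induction k with
    | zero => intro u; simp
    | succ k ih =>
      intro u
      rw [pow_succ, MulAut.mul_apply, ih, hφ, pow_succ]
      group
  have hfpf : MonoidHom.FixedPointFree ((φ : H ≃* H) : H →* H) := by
    intro u hu
    by_contra hu1
    have hu1' : (u : G) ≠ 1 := fun h => hu1 (Subtype.ext h)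
    have h1 : (y : G) * u * (y : G)⁻¹ = u := congrArg Subtype.val hu
    have h2 : (y : G) ∈ Subgroup.centralizer ({(u : G)} : Set G) := by
      rw [Subgroup.mem_centralizer_singleton_iff]
      calc (y : G) * u = (y : G) * u * (y : G)⁻¹ * (y : G) := by group
        _ = u * (y : G) := by rw [h1]
    have h3 := zass_centralizer_le hZ a H hHa hHcard hHfix (u : G) u.2 hu1' h2
    exact hab (hHfix (y : G) h3 hy1 b hyb).symm
  have h3 : 3 ≤ Fintype.card Ω := zass_three_le_card hZ
  have hord : orderOf φ = p := by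
    apply orderOf_eq_prime
    · apply MulEquiv.ext
      intro u
      apply Subtype.ext
      rw [hpow, ← hyG, pow_orderOf_eq_one]
      simp
    · intro hφ1
      haveI : Finite H := Nat.finite_of_card_ne_zero (by omega)
      have hnt : Nontrivial H := (Finite.one_lt_card_iff_nontrivial).mp (by omega)
      obtain ⟨u, hu⟩ := exists_ne (1 : H)
      apply hu
      apply hfpf
      show φ u = u
      rw [hφ1]
      rfl
  exact Cfsg.Agent.S0033.result φ hfpf p hpp hord

/-- a relevant character of degree `e` -/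
theorem FSetup.exists_deg_e [Fintype G] {H N : Subgroup G} {h e : ℕ} (F : FSetup H N h e)
    [Fintype N] (hnil : Group.IsNilpotent H) : ∃ ψ₁ ∈ relS H N, ψ₁ 1 = (e : ℂ) := by
  classical
  haveI := F.normal
  haveI : Group.IsNilpotent (H.subgroupOf N) :=
    Group.nilpotent_of_mulEquiv (Subgroup.subgroupOfEquivOfLe F.le).symm
  have hcard := F.card_sub
  have hh5 : 5 ≤ h := by
    have := F.hlt
    have := F.he
    omega
  haveI : Nontrivial (H.subgroupOf N) := (Finite.one_lt_card_iff_nontrivial).mp (by omega)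
  have hlt := Group.IsSolvable.commutator_lt_top_of_nontrivial (H.subgroupOf N)
  obtain ⟨m, -, hm⟩ := SetLike.exists_of_lt hlt
  obtain ⟨l, hl1, hlm⟩ := Helper4.GalP.exists_linear_ne_one m hm
  have hlne : (l : H.subgroupOf N → ℂ) ≠ fun _ => 1 := by
    intro hcon
    apply hlm
    rw [hcon]
  refine ⟨indFun (H.subgroupOf N) (l : H.subgroupOf N → ℂ), ?_, ?_⟩
  · rw [F.relS_eq, ← Helper35.induced_eq_ntSet (H.subgroupOf N) F.frob]
    refine ⟨l, l.2, hlne, fun a ha => ?_, rfl⟩
    rw [Subgroup.mem_bot] at ha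
    have : a = 1 := Subtype.ext ha
    rw [this]
  · rw [Helper35.indFun_one_eq, F.index_sub, hl1, mul_one]

end Fz8

end Cfsg.Agent.Lib.Helper21
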