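import Mathlib
import Cfsg.Agent.Lib.Helper21.Fz8
import Cfsg.Agent.Lib.Helper20.Coh
import Cfsg.Agent.S1534

/-!
Feit's theorem on Zassenhaus groups: the permutation character, the package in the abelian
case, and the main dichotomy in the abstract setting.
-/

set_option autoImplicit false

namespace Cfsg.Agent.Lib.Helper21

open Cfsg MulAction
open scoped ComplexConjugate

section Fz9

variable {G Ω : Type*} [Group G] [MulAction G Ω]

set_option maxHeartbeats 1000000 in
/-- the permutation character of a Zassenhaus group has norm `2` and is `1` on `H` minus `1` -/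
theorem zass_perm_char [Fintype G] [Fintype Ω] (hZ : IsZassenhausGroup G Ω) {a b : Ω}
    (hab : a ≠ b)
    (H : Subgroup G) (hHa : H ≤ stabilizer G a)
    (hHfix : ∀ u ∈ H, u ≠ 1 → ∀ c : Ω, u • c = c → c = a) :
    classInner (indFun (stabilizer G a) (fun _ : stabilizer G a => (1 : ℂ)))
        (indFun (stabilizer G a) (fun _ : stabilizer G a => (1 : ℂ))) = 2 ∧
      ∀ u ∈ H, u ≠ 1 → indFun (stabilizer G a) (fun _ : stabilizer G a => (1 : ℂ)) u = 1 := by
  classical
  have horb : ∀ ω : Ω, ω ∈ MulAction.orbit G a := by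
    intro ω
    by_cases hω : ω = a
    · rw [hω]
      exact MulAction.mem_orbit_self a
    · obtain ⟨g, hg, -⟩ := zass_two_trans hZ hab (c := ω) (d := a) hω
      exact ⟨g, hg⟩
  have hπ : ∀ x : G, indFun (stabilizer G a) (fun _ : stabilizer G a => (1 : ℂ)) x =
      ((Finset.univ.filter (fun ω : Ω => x • ω = ω)).card : ℂ) := by
    intro x
    rw [← Helper20.card_fixed_in_orbit a x]
    congr 1
    rw [Nat.card_eq_fintype_card, Fintype.card_subtype]
    congr 1
    ext ω
    simp [horb ω]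
  constructor
  · rw [Helper35.frobenius_reciprocity (stabilizer G a) _ _
      (Helper35.isClassFunction_indFun _ _)]
    unfold classInner
    have hN0 : (Nat.card (stabilizer G a) : ℂ) ≠ 0 := by
      exact_mod_cast (Nat.card_pos (α := stabilizer G a)).ne'
    have hnat : ∑ x : stabilizer G a, (Finset.univ.filter (fun ω : Ω => (x : G) • ω = ω)).card =
        2 * Nat.card (stabilizer G a) := by
      simp only [Finset.card_filter]
      rw [Finset.sum_comm]
      have hg : ∀ ω : Ω, ω ≠ a →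
          ∑ x : stabilizer G a, (if (x : G) • ω = ω then 1 else 0) =
            Nat.card ↥(stabilizer G a ⊓ stabilizer G b : Subgroup G) := by
        intro ω hω
        rw [← Finset.card_filter, ← zass_twoStab_card hZ hab (Ne.symm hω),
          ← Fintype.card_subtype, ← Nat.card_eq_fintype_card]
        apply Nat.card_congr
        exact
          { toFun := fun x => ⟨x.1.1, ⟨x.1.2, x.2⟩⟩
            invFun := fun y => ⟨⟨y.1, y.2.1⟩, y.2.2⟩
            left_inv := fun x => rfl
            right_inv := fun y => rfl }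
      have ha : ∑ x : stabilizer G a, (if (x : G) • a = a then 1 else 0) =
          Nat.card (stabilizer G a) := by
        rw [Finset.sum_congr rfl (fun x _ => if_pos x.2)]
        simp [Nat.card_eq_fintype_card]
      rw [← Finset.add_sum_erase _ _ (Finset.mem_univ a), ha,
        Finset.sum_congr rfl (fun ω hω => hg ω (Finset.ne_of_mem_erase hω)), Finset.sum_const,
        Finset.card_erase_of_mem (Finset.mem_univ a), Finset.card_univ, smul_eq_mul,
        zass_card_stab hZ hab]
      ring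
    have hsum : ∑ x : stabilizer G a, (fun _ : stabilizer G a => (1 : ℂ)) x *
        conj (Helper35.res (stabilizer G a)
          (indFun (stabilizer G a) (fun _ : stabilizer G a => (1 : ℂ))) x) =
        ((∑ x : stabilizer G a,
          (Finset.univ.filter (fun ω : Ω => (x : G) • ω = ω)).card : ℕ) : ℂ) := by
      rw [Nat.cast_sum]
      apply Finset.sum_congr rfl
      intro x _
      rw [Helper35.res_apply, hπ, map_natCast, one_mul]
    rw [hsum, hnat]
    push_cast
    field_simp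
  · intro u hu hu1
    rw [hπ]
    have h1 : Finset.univ.filter (fun ω : Ω => u • ω = ω) = {a} := by
      ext ω
      simp only [Finset.mem_filter, Finset.mem_univ, true_and, Finset.mem_singleton]
      constructor
      · exact hHfix u hu hu1 ω
      · rintro rfl
        exact hHa hu
    rw [h1]
    simp

end Fz9

section Fz9b

variable {G : Type*} [Group G] [Fintype G] {H N : Subgroup G} {h e : ℕ} [Fintype N]

/-- the package in the abelian case -/
theorem FSetup.fpkg_of_abelian (F : FSetup H N h e)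
    (hab : ∀ a ∈ H, ∀ b ∈ H, a * b = b * a) :
    ∃ (ε : ℂ) (f : (N → ℂ) → (G → ℂ)), FPkg H N ε f := by
  classical
  haveI := F.normal
  have hiso : ∀ (ψ θ : N → ℂ), IsClassFunction N θ → (∀ x : N, (x : G) ∉ H → ψ x = 0) →
      (∀ x : N, (x : G) ∉ H → θ x = 0) → ψ 1 = 0 →
      classInner (indFun N ψ) (indFun N θ) = classInner ψ θ := by
    have h1 := F.hN
    subst h1
    exact fun ψ θ hθ h1 h2 h3 =>
      Helper4.indFun_ti_isometry (H : Set G) F.hTI ψ θ hθ h1 h2 h3
  obtain ⟨ε, f, hε, hinj, hrel⟩ :=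
    Helper20.tifn_abelian_coherent H N F.normal F.hC hab hiso
  have hdeg : ∀ ψ ∈ relS H N, ψ 1 = (e : ℂ) := by
    intro ψ hψ
    have h1 := Helper20.frob_degree (H.subgroupOf N)
      (fun a ha b hb => Subtype.ext (hab a (Subgroup.mem_subgroupOf.mp ha) b
        (Subgroup.mem_subgroupOf.mp hb))) F.frob hψ.1
      (((Helper20.tifn_mem_iff H N ψ).mp hψ).2)
    rw [h1, F.index_sub]
  refine ⟨ε, fun ψ => if hψ : ψ ∈ relS H N then (f ⟨⟨ψ, hψ.1⟩, hψ.2⟩ : G → ℂ) else 0,
    hε, ?_, ?_, ?_⟩
  · intro ψ hψ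
    rw [dif_pos hψ]
    exact (f ⟨⟨ψ, hψ.1⟩, hψ.2⟩).2
  · intro ψ hψ ψ' hψ' hff
    rw [dif_pos hψ, dif_pos hψ'] at hff
    have h1 := hinj (Subtype.ext hff)
    have h2 := congrArg (fun z => (z.1 : N → ℂ)) h1
    exact h2
  · intro ψ hψ ψ' hψ'
    have h1 := hrel ⟨⟨ψ, hψ.1⟩, hψ.2⟩ ⟨⟨ψ', hψ'.1⟩, hψ'.2⟩
    have key : ∀ (X X' : G → ℂ), indFun N (ψ - ψ') = ε • (X - X') →
        indFun N (ψ' 1 • ψ - ψ 1 • ψ') = ε • (ψ' 1 • X - ψ 1 • X') := by
      intro X X' h3
      rw [hdeg ψ hψ, hdeg ψ' hψ', ← smul_sub, Helper35.indFun_smul, h3]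
      funext g
      simp only [Pi.smul_apply, Pi.sub_apply, smul_eq_mul]
      ring
    rw [dif_pos hψ, dif_pos hψ']
    exact key _ _ h1

/-- **Feit's theorem in the abstract setting** -/
theorem FSetup.main (F : FSetup H N h e) [IsSimpleGroup G] (hnil : Group.IsNilpotent H)
    (hcount : Nat.card (relS H N) + e + 1 ≤ Nat.card (IrrCharacter G))
    (hlin : ∀ ξ : N → ℂ, IsIrrCharacter N ξ → ξ ∉ relS H N → ξ 1 = 1)
    (hμ : ∀ μ : N → ℂ, IsIrrCharacter N μ → μ 1 = 1 → μ ∉ relS H N → μ ≠ (fun _ => 1) →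
      IsIrrCharacter G (indFun N μ) ∧ ∀ u ∈ H, u ≠ 1 → indFun N μ u = 1)
    (hπ : classInner (indFun N (fun _ : N => (1 : ℂ))) (indFun N (fun _ : N => (1 : ℂ))) = 2)
    (hπH : ∀ u ∈ H, u ≠ 1 → indFun N (fun _ : N => (1 : ℂ)) u = 1)
    (hdeg : ∀ Λ : G → ℂ, IsIrrCharacter G Λ → Λ ≠ (fun _ => 1) → ∀ d : ℕ, Λ 1 = (d : ℂ) →
      (e - 1) * (h + 1) + 2 ≤ 2 * d ^ 2) :
    IsPGroup 2 H ∧ (∃ u v : H, u * v ≠ v * u) ∧ (commutator H).index ≤ 4 * e ^ 2 + 1 := by
  classical
  have hH1 : H ≠ ⊥ := by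
    intro hcon
    have h1 := F.hH
    rw [hcon, Subgroup.card_bot] at h1
    have := F.hlt
    have := F.he
    omega
  obtain ⟨ψ₁, hψ₁, hd₁⟩ := F.exists_deg_e hnil
  have hfalse : ∀ (ε : ℂ) (f : (N → ℂ) → (G → ℂ)), FPkg H N ε f → False :=
    fun ε f pk => F.core pk hH1 hψ₁ hd₁ hcount hlin hμ hπ hπH hdeg
  have hidx := F.index_sub
  have hN := F.hN
  subst hN
  have hlt : H < Subgroup.normalizer (H : Set G) := by
    refine lt_of_le_of_ne F.le ?_
    intro hcon
    have h1 := F.hNc
    rw [← hcon, F.hH] at h1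
    have := F.hpos
    have := F.he
    nlinarith
  rcases Cfsg.Agent.S1534.result H hH1 hnil F.hTI hlt F.hC with h1 | h1 | h1
  · exfalso
    obtain ⟨-, h2, -⟩ := h1
    rw [hidx, F.hH] at h2
    have := F.hlt
    have := F.he
    omega
  · obtain ⟨h2, h3⟩ := h1
    rw [hidx, Cfsg.Agent.S1534.subgroupOf_commutator] at h3
    refine ⟨IsPGroup.of_card h2, ?_, by omega⟩
    by_contra hcon
    push Not at hcon
    obtain ⟨ε, f, pk⟩ := F.fpkg_of_abelian (fun a ha b hb => by
      have := hcon ⟨a, ha⟩ ⟨b, hb⟩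
      exact congrArg Subtype.val this)
    exact hfalse ε f pk
  · exfalso
    obtain ⟨ε, f, pk⟩ := fpkg_of_coherent H (Subgroup.normalizer (H : Set G)) h1
    exact hfalse ε f pk

end Fz9b

end Cfsg.Agent.Lib.Helper21
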