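import Mathlib
import Cfsg.Agent.Lib.Helper21.Zass4
import Cfsg.Agent.S0035
import Cfsg.Agent.S0040

/-!
Zassenhaus groups with two-point stabilizer of odd order: the two-point stabilizer is a Z-group
and an element swapping the two points centralizes no non-identity element of it.
-/

set_option autoImplicit false

namespace Cfsg.Agent.Lib.Helper21

open Cfsg MulAction

section Z5

variable {G Ω : Type*} [Group G] [MulAction G Ω]

/-- The two-point stabilizer (of odd order) of a Zassenhaus group is a Z-group. -/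
theorem zass_twoStab_isZGroup [Finite G] [Fintype Ω] (hZ : IsZassenhausGroup G Ω) {c d : Ω}
    (hcd : c ≠ d) (hodd : Odd (Nat.card ↥(stabilizer G c ⊓ stabilizer G d : Subgroup G))) :
    IsZGroup ↥(stabilizer G c ⊓ stabilizer G d : Subgroup G) := by
  set E' : Subgroup ↥(stabilizer G c) :=
    (stabilizer G c ⊓ stabilizer G d : Subgroup G).subgroupOf (stabilizer G c) with hE'
  have hmemE' : ∀ s : ↥(stabilizer G c), s ∈ E' ↔ (s : G) • d = d := by
    intro s
    rw [hE', Subgroup.mem_subgroupOf, Subgroup.mem_inf]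
    constructor
    · intro h
      exact h.2
    · intro h
      exact ⟨s.2, h⟩
  have hne_bot : E' ≠ ⊥ := by
    obtain ⟨x, hx1, hxc, hxd⟩ := zass_exists_ne_one hZ hcd
    intro h
    have h1 : (⟨x, hxc⟩ : ↥(stabilizer G c)) ∈ E' := (hmemE' _).mpr hxd
    rw [h, Subgroup.mem_bot] at h1
    exact hx1 (congrArg Subtype.val h1)
  have hne_top : E' ≠ ⊤ := by
    obtain ⟨f, hfc, hfd⟩ := zass_exists_third hZ hcd
    obtain ⟨g, hgc, hgd⟩ := zass_two_trans hZ hcd (Ne.symm hfc)
    intro h
    have h1 : (⟨g, hgc⟩ : ↥(stabilizer G c)) ∈ E' := by rw [h]; trivial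
    rw [hmemE'] at h1
    exact hfd (hgd.symm.trans h1)
  have hfrob : IsFrobeniusComplement E' := by
    refine ⟨hne_bot, hne_top, ?_⟩
    intro g hg
    rw [eq_bot_iff]
    rintro z ⟨hz1, hz2⟩
    rw [Subgroup.mem_bot]
    have hz1' : (z : G) • d = d := (hmemE' z).mp hz1
    have hz2' : ((g⁻¹ * z * g : ↥(stabilizer G c)) : G) • d = d := by
      have h1 := Subgroup.mem_pointwise_smul_iff_inv_smul_mem.mp hz2
      have h2 : (MulAut.conj g)⁻¹ • z = g⁻¹ * z * g := by
        rw [← map_inv, MulAut.smul_def, MulAut.conj_apply, inv_inv]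
      rw [h2] at h1
      exact (hmemE' _).mp h1
    have hgd : (g : G) • d ≠ d := fun h => hg ((hmemE' g).mpr h)
    have hgc : (g : G) • c = c := g.2
    have hzc : (z : G) • c = c := z.2
    have h3 : (z : G) • ((g : G) • d) = (g : G) • d := by
      have h4 : ((g : G)⁻¹ * (z : G) * (g : G)) • d = d := hz2'
      rw [mul_smul, mul_smul, inv_smul_eq_iff] at h4
      exact h4
    have hgdc : (g : G) • d ≠ c := by
      intro h
      exact hcd (MulAction.injective (g : G) (hgc.trans h.symm))
    apply Subtype.ext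
    exact zass_three hZ hcd (Ne.symm hgd) (Ne.symm hgdc) hzc hz1' h3
  obtain ⟨N, -, hNn, hNc⟩ := Cfsg.Agent.S0035.result E' hfrob
  haveI := hNn
  have hNbot : N ≠ ⊥ := by
    intro h
    rw [h, Subgroup.isComplement'_bot_left] at hNc
    exact hne_top hNc
  have hfpf : ∀ h ∈ E', h ≠ 1 → N ⊓ Subgroup.centralizer {h} = ⊥ := by
    intro h hh hh1
    rw [eq_bot_iff]
    rintro k ⟨hk1, hk2⟩
    rw [Subgroup.mem_bot]
    have hcomm : h * k = k * h := (Subgroup.mem_centralizer_iff.mp hk2) h (Set.mem_singleton h)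
    have hcomm' : (h : G) * (k : G) = (k : G) * (h : G) := congrArg Subtype.val hcomm
    have hhd : (h : G) • d = d := (hmemE' h).mp hh
    have hhc : (h : G) • c = c := h.2
    have hkc : (k : G) • c = c := k.2
    have hh1' : (h : G) ≠ 1 := fun h0 => hh1 (Subtype.ext h0)
    have h1 : (h : G) • ((k : G) • d) = (k : G) • d := by
      rw [← mul_smul, hcomm', mul_smul, hhd]
    have h2 : (k : G) • d ≠ c := by
      intro h3
      exact hcd (MulAction.injective (k : G) (hkc.trans h3.symm))
    have h3 : (k : G) • d = d := by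
      rcases zass_fixed_of_two hZ hh1' hcd hhc hhd h1 with h4 | h4
      · exact absurd h4 h2
      · exact h4
    have hkE : k ∈ E' := (hmemE' k).mpr h3
    exact (Subgroup.disjoint_def.mp hNc.disjoint) hk1 hkE
  have hcardE' : Nat.card E' = Nat.card ↥(stabilizer G c ⊓ stabilizer G d : Subgroup G) :=
    Nat.card_congr (Subgroup.subgroupOfEquivOfLe inf_le_left).toEquiv
  haveI hZE' : IsZGroup ↥E' := by
    rw [isZGroup_iff]
    intro p hp P
    haveI : Fact p.Prime := ⟨hp⟩
    rcases Cfsg.Agent.S0040.result N E' hNc hNbot hfpf p P with h | ⟨n, ⟨φ⟩⟩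
    · exact h
    · exfalso
      have h1 : Nat.card ↥(P : Subgroup ↥E') = 4 * 2 ^ n := by
        rw [Nat.card_congr φ.toEquiv, Nat.card_eq_fintype_card, QuaternionGroup.card]
      have h2 : Nat.card ↥(P : Subgroup ↥E') ∣ Nat.card ↥E' := Subgroup.card_subgroup_dvd_card _
      rw [h1, hcardE'] at h2
      have h3 : 2 ∣ Nat.card ↥(stabilizer G c ⊓ stabilizer G d : Subgroup G) :=
        Dvd.dvd.trans (Dvd.intro (2 * 2 ^ n) (by ring)) h2
      exact (Nat.not_even_iff_odd.mpr hodd) (even_iff_two_dvd.mpr h3)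
  exact IsZGroup.of_injective
    (f := (Subgroup.subgroupOfEquivOfLe
      (inf_le_left : (stabilizer G c ⊓ stabilizer G d : Subgroup G) ≤ stabilizer G c)).symm.toMonoidHom)
    (Subgroup.subgroupOfEquivOfLe inf_le_left).symm.injective

/-- In a simple Zassenhaus group whose two-point stabilizer `E` has odd order, an element
swapping the two points commutes with no non-identity element of `E`. -/
theorem zass_cent_swap_of_zgroup [Finite G] [Fintype Ω] (hZ : IsZassenhausGroup G Ω)
    [IsSimpleGroup G] {c d : Ω} (hcd : c ≠ d)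
    (hodd : Odd (Nat.card ↥(stabilizer G c ⊓ stabilizer G d : Subgroup G)))
    {τ : G} (hτc : τ • c = d) (hτd : τ • d = c) {y : G} (hyc : y • c = c) (hyd : y • d = d)
    (hcomm : τ * y = y * τ) : y = 1 := by
  haveI := zass_twoStab_isZGroup hZ hcd hodd
  have hcop2 : (Nat.card ↥(stabilizer G c ⊓ stabilizer G d : Subgroup G)).Coprime 2 :=
    Nat.Coprime.symm (Nat.coprime_two_left.mpr hodd)
  set y' : (stabilizer G c ⊓ stabilizer G d : Subgroup G) := ⟨y, hyc, hyd⟩ with hy'
  set sc := swapConj τ hτc hτd with hsc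
  have hK := zass_swap_inv hZ hcd hodd
    (Abelianization.of : (stabilizer G c ⊓ stabilizer G d : Subgroup G) →* _) τ hτc hτd
  have hscy : sc y' = y' := by
    apply Subtype.ext
    show τ * y * τ⁻¹ = y
    rw [hcomm, mul_inv_cancel_right]
  have hmemA : ∀ g : (stabilizer G c ⊓ stabilizer G d : Subgroup G),
      Abelianization.of g = 1 → g ∈ commutator ↥(stabilizer G c ⊓ stabilizer G d : Subgroup G) := by
    intro g hg
    rw [← Abelianization.ker_of]
    exact hg
  -- (a) `y'` lies in the commutator subgroup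
  have hyA : y' ∈ commutator ↥(stabilizer G c ⊓ stabilizer G d : Subgroup G) := by
    apply hmemA
    have h1 := hK y'
    rw [hscy, ← pow_two] at h1
    have h2 : (Abelianization.of y') ^
        Nat.card ↥(stabilizer G c ⊓ stabilizer G d : Subgroup G) = 1 := by
      rw [← map_pow, pow_card_eq_one', map_one]
    have h3 : orderOf (Abelianization.of y') ∣ 2 := orderOf_dvd_of_pow_eq_one h1
    have h4 : orderOf (Abelianization.of y') ∣
        Nat.card ↥(stabilizer G c ⊓ stabilizer G d : Subgroup G) := orderOf_dvd_of_pow_eq_one h2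
    exact orderOf_eq_one_iff.mp (Nat.Coprime.eq_one_of_dvd
      (Nat.Coprime.coprime_dvd_left h4 hcop2) h3)
  -- the commutator subgroup is cyclic
  haveI hcyc : IsCyclic ↥(commutator ↥(stabilizer G c ⊓ stabilizer G d : Subgroup G)) :=
    IsZGroup.isCyclic_commutator _
  obtain ⟨a₀, ha₀⟩ := IsCyclic.exists_generator
    (α := ↥(commutator ↥(stabilizer G c ⊓ stabilizer G d : Subgroup G)))
  have hAcomm : ∀ u v : (stabilizer G c ⊓ stabilizer G d : Subgroup G),
      u ∈ commutator ↥(stabilizer G c ⊓ stabilizer G d : Subgroup G) →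
      v ∈ commutator ↥(stabilizer G c ⊓ stabilizer G d : Subgroup G) → u * v = v * u := by
    intro u v hu hv
    obtain ⟨i, hi⟩ := Subgroup.mem_zpowers_iff.mp (ha₀ ⟨u, hu⟩)
    obtain ⟨j, hj⟩ := Subgroup.mem_zpowers_iff.mp (ha₀ ⟨v, hv⟩)
    have hi' : ((a₀ : (stabilizer G c ⊓ stabilizer G d : Subgroup G))) ^ i = u := by
      have := congrArg Subtype.val hi
      simpa using this
    have hj' : ((a₀ : (stabilizer G c ⊓ stabilizer G d : Subgroup G))) ^ j = v := by
      have := congrArg Subtype.val hj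
      simpa using this
    rw [← hi', ← hj']
    exact (Commute.zpow_zpow_self _ i j).eq
  -- (b) `y'` is central
  have hsq : ∀ g : (stabilizer G c ⊓ stabilizer G d : Subgroup G),
      (g * g) * y' = y' * (g * g) := by
    intro g
    -- `g y' g⁻¹` is a power of `y'`
    obtain ⟨i, hi⟩ := Subgroup.mem_zpowers_iff.mp (ha₀ ⟨y', hyA⟩)
    have hi' : ((a₀ : (stabilizer G c ⊓ stabilizer G d : Subgroup G))) ^ i = y' := by
      have := congrArg Subtype.val hi
      simpa using this
    have hconjA : g * (a₀ : (stabilizer G c ⊓ stabilizer G d : Subgroup G)) * g⁻¹ ∈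
        commutator ↥(stabilizer G c ⊓ stabilizer G d : Subgroup G) :=
      (inferInstance : (commutator ↥(stabilizer G c ⊓ stabilizer G d : Subgroup G)).Normal).conj_mem
        _ a₀.2 g
    obtain ⟨j, hj⟩ := Subgroup.mem_zpowers_iff.mp (ha₀ ⟨_, hconjA⟩)
    have hj' : ((a₀ : (stabilizer G c ⊓ stabilizer G d : Subgroup G))) ^ j =
        g * (a₀ : (stabilizer G c ⊓ stabilizer G d : Subgroup G)) * g⁻¹ := by
      have := congrArg Subtype.val hj
      simpa using this
    have h1 : g * y' * g⁻¹ = y' ^ j := by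
      rw [← hi']
      have h2 : g * (a₀ : (stabilizer G c ⊓ stabilizer G d : Subgroup G)) ^ i * g⁻¹ =
          (g * (a₀ : (stabilizer G c ⊓ stabilizer G d : Subgroup G)) * g⁻¹) ^ i := by
        rw [conj_zpow]
      rw [h2, ← hj', ← zpow_mul, ← zpow_mul, mul_comm]
    have h3 : sc (g * y' * g⁻¹) = g * y' * g⁻¹ := by
      rw [h1, map_zpow, hscy]
    have h4 : sc (g * y' * g⁻¹) = sc g * y' * (sc g)⁻¹ := by
      rw [map_mul, map_mul, map_inv, hscy]
    have h5 : g * sc g ∈ commutator ↥(stabilizer G c ⊓ stabilizer G d : Subgroup G) := by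
      apply hmemA
      rw [map_mul]
      exact hK g
    have h6 : (g * sc g) * y' = y' * (g * sc g) := hAcomm _ _ h5 hyA
    have h7 : sc g * y' * (sc g)⁻¹ = g⁻¹ * y' * g := by
      have h8 : sc g = g⁻¹ * (g * sc g) := by group
      calc sc g * y' * (sc g)⁻¹ = g⁻¹ * ((g * sc g) * y') * (g * sc g)⁻¹ * g := by
            rw [h8]; group
        _ = g⁻¹ * (y' * (g * sc g)) * (g * sc g)⁻¹ * g := by rw [h6]
        _ = g⁻¹ * y' * g := by group
    have h9 : g * y' * g⁻¹ = g⁻¹ * y' * g := by rw [← h3, h4, h7]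
    calc (g * g) * y' = g * (g * y' * g⁻¹) * g := by group
      _ = g * (g⁻¹ * y' * g) * g := by rw [h9]
      _ = y' * (g * g) := by group
  have hcentral : ∀ g : (stabilizer G c ⊓ stabilizer G d : Subgroup G), g * y' = y' * g := by
    intro g
    obtain ⟨w, hw⟩ := (powCoprime hcop2).surjective g
    have hw' : w ^ 2 = g := hw
    rw [← hw', pow_two]
    exact hsq w
  -- (c) transfer into the commutator subgroup
  have hkey : ∀ (k : ℕ) (g₀ : (stabilizer G c ⊓ stabilizer G d : Subgroup G)),
      g₀⁻¹ * y' ^ k * g₀ ∈ commutator ↥(stabilizer G c ⊓ stabilizer G d : Subgroup G) →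
      g₀⁻¹ * y' ^ k * g₀ = y' ^ k := by
    intro k g₀ _
    have h1 : Commute g₀ (y' ^ k) := (show Commute g₀ y' from hcentral g₀).pow_right k
    rw [mul_assoc, ← h1.eq, inv_mul_cancel_left]
  have htr := MonoidHom.transfer_eq_pow
    (Abelianization.of : ↥(commutator ↥(stabilizer G c ⊓ stabilizer G d : Subgroup G)) →* _) y' hkey
  have htr1 : MonoidHom.transfer
      (Abelianization.of : ↥(commutator ↥(stabilizer G c ⊓ stabilizer G d : Subgroup G)) →* _) y' = 1 := by
    have h1 := Abelianization.commutator_subset_ker (MonoidHom.transfer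
      (Abelianization.of : ↥(commutator ↥(stabilizer G c ⊓ stabilizer G d : Subgroup G)) →* _)) hyA
    exact h1
  rw [htr1] at htr
  have hcommA : commutator ↥(commutator ↥(stabilizer G c ⊓ stabilizer G d : Subgroup G)) = ⊥ := by
    have h1 : (⁅(⊤ : Subgroup ↥(commutator ↥(stabilizer G c ⊓ stabilizer G d : Subgroup G))),
        (⊤ : Subgroup ↥(commutator ↥(stabilizer G c ⊓ stabilizer G d : Subgroup G)))⁆ :
        Subgroup ↥(commutator ↥(stabilizer G c ⊓ stabilizer G d : Subgroup G))) = ⊥ := by
      rw [Subgroup.commutator_eq_bot_iff_le_centralizer]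
      intro u _
      rw [Subgroup.mem_centralizer_iff]
      intro v _
      apply Subtype.ext
      exact hAcomm _ _ v.2 u.2
    exact h1
  have hpow1 : y' ^ (commutator ↥(stabilizer G c ⊓ stabilizer G d : Subgroup G)).index = 1 := by
    have h1 : (⟨y' ^ (commutator ↥(stabilizer G c ⊓ stabilizer G d : Subgroup G)).index,
        MonoidHom.transfer_eq_pow_aux y' hkey⟩ :
        ↥(commutator ↥(stabilizer G c ⊓ stabilizer G d : Subgroup G))) ∈
        (Abelianization.of :
          ↥(commutator ↥(stabilizer G c ⊓ stabilizer G d : Subgroup G)) →* _).ker := htr.symm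
    rw [Abelianization.ker_of, hcommA, Subgroup.mem_bot] at h1
    exact congrArg Subtype.val h1
  have hpow2 : y' ^ Nat.card ↥(commutator ↥(stabilizer G c ⊓ stabilizer G d : Subgroup G)) = 1 := by
    have h1 := pow_card_eq_one'
      (x := (⟨y', hyA⟩ : ↥(commutator ↥(stabilizer G c ⊓ stabilizer G d : Subgroup G))))
    exact congrArg Subtype.val h1
  have hcopA := IsZGroup.coprime_commutator_index ↥(stabilizer G c ⊓ stabilizer G d : Subgroup G)
  have h1 : orderOf y' = 1 := Nat.Coprime.eq_one_of_dvd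
    (Nat.Coprime.coprime_dvd_left (orderOf_dvd_of_pow_eq_one hpow2) hcopA)
    (orderOf_dvd_of_pow_eq_one hpow1)
  have h2 : y' = 1 := orderOf_eq_one_iff.mp h1
  exact congrArg Subtype.val h2

/-- **Feit**: in a simple Zassenhaus group on `h + 1` points with two-point stabilizer of odd
order `e`, all involutions are conjugate and there are `e (h + 1)` or `e h` of them. -/
theorem zass_involutions [Finite G] [Fintype Ω] (hZ : IsZassenhausGroup G Ω) {a b : Ω}
    (hab : a ≠ b) [IsSimpleGroup G] (h e : ℕ) (hh : Fintype.card Ω = h + 1)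
    (he : Nat.card ↥(stabilizer G a ⊓ stabilizer G b : Subgroup G) = e) (hodd : Odd e) :
    (∀ x y : G, orderOf x = 2 → orderOf y = 2 → IsConj x y) ∧
    Nat.card {x : G // orderOf x = 2} = (if Even h then e * (h + 1) else e * h) := by
  have hodd' : Odd (Nat.card ↥(stabilizer G a ⊓ stabilizer G b : Subgroup G)) := by
    rw [he]; exact hodd
  have h3 : 3 ≤ Fintype.card Ω := zass_three_le_card hZ
  have hcent : ∀ (c d : Ω), c ≠ d → ∀ τ : G, orderOf τ = 2 → τ • c = d → τ • d = c →
      ∀ y : G, y • c = c → y • d = d → τ * y = y * τ → y = 1 := by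
    intro c d hcd τ hτ hτc hτd y hyc hyd hcomm
    have hoddcd : Odd (Nat.card ↥(stabilizer G c ⊓ stabilizer G d : Subgroup G)) := by
      rw [zass_twoStab_card hZ hab hcd]
      exact hodd'
    by_cases hn : Even (Fintype.card Ω)
    · exact zass_cent_swap_of_zgroup hZ hcd hoddcd hτc hτd hyc hyd hcomm
    · exact zass_cent_invol_of_odd hZ hcd hoddcd (Nat.not_even_iff_odd.mp hn) hτ hτc hyc hyd hcomm
  obtain ⟨hconj, hcount⟩ := zass_invol_count hZ hab hodd' hcent
  refine ⟨hconj, ?_⟩
  rw [hh, he] at hcount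
  have hpos : 0 < h := by omega
  by_cases hpar : Even h
  · have hne : ¬ Even (h + 1) := by
      rw [Nat.even_add_one]
      exact not_not.mpr hpar
    rw [if_neg hne] at hcount
    rw [if_pos hpar]
    have h4 : Nat.card {x : G // orderOf x = 2} * h = (e * (h + 1)) * h := by
      rw [show h + 1 - 1 = h by omega] at hcount
      rw [hcount]; ring
    exact Nat.eq_of_mul_eq_mul_right hpos h4
  · have hev : Even (h + 1) := by
      rw [Nat.even_add_one]
      exact hpar
    rw [if_pos hev] at hcount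
    rw [if_neg hpar]
    have h4 : Nat.card {x : G // orderOf x = 2} * (h + 1) = (e * h) * (h + 1) := by
      rw [show h + 1 - 1 = h by omega] at hcount
      rw [hcount]; ring
    exact Nat.eq_of_mul_eq_mul_right (Nat.succ_pos h) h4

end Z5

end Cfsg.Agent.Lib.Helper21
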