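import Mathlib
import Cfsg.Agent.Lib.Helper21.Zass5
import Cfsg.Agent.S0878

/-!
Zassenhaus groups with two-point stabilizer of odd order: products of two involutions in the
Frobenius kernel of a point stabilizer (Feit).
-/

set_option autoImplicit false

namespace Cfsg.Agent.Lib.Helper21

open Cfsg MulAction

section Z6

/-- The order of a subgroup that factorizes as a product of two subgroups meeting trivially. -/
theorem card_eq_mul_of_factor {K : Type*} [Group K] (A B S : Subgroup K) (hA : A ≤ S)
    (hB : B ≤ S) (hdisj : ∀ x, x ∈ A → x ∈ B → x = 1)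
    (hgen : ∀ k ∈ S, ∃ a ∈ A, ∃ b ∈ B, k = a * b) :
    Nat.card S = Nat.card A * Nat.card B := by
  rw [← Nat.card_prod]
  symm
  apply Nat.card_congr
  refine Equiv.ofBijective (fun p : A × B =>
    (⟨(p.1 : K) * (p.2 : K), S.mul_mem (hA p.1.2) (hB p.2.2)⟩ : S)) ⟨?_, ?_⟩
  · rintro ⟨a, b⟩ ⟨a', b'⟩ h
    have h1 : (a : K) * b = a' * b' := congrArg Subtype.val h
    have h2 : (a' : K)⁻¹ * a = b' * (b : K)⁻¹ := by
      rw [inv_mul_eq_iff_eq_mul, ← mul_assoc, ← h1, mul_inv_cancel_right]
    have h3 : (a' : K)⁻¹ * a = 1 :=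
      hdisj _ (A.mul_mem (A.inv_mem a'.2) a.2) (h2 ▸ B.mul_mem b'.2 (B.inv_mem b.2))
    have h4 : (a : K) = a' := (inv_mul_eq_one.mp h3).symm
    have h5 : (b : K) = b' := by
      rw [h4] at h1
      exact mul_left_cancel h1
    exact Prod.ext (Subtype.ext h4) (Subtype.ext h5)
  · rintro ⟨k, hk⟩
    obtain ⟨a, ha, b, hb, rfl⟩ := hgen k hk
    exact ⟨(⟨a, ha⟩, ⟨b, hb⟩), rfl⟩

variable {G Ω : Type*} [Group G] [MulAction G Ω]

/-- Conjugation transports the involutions fixing `a` to those fixing `g • a`. -/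
theorem zass_invol_fix_card_eq {a c : Ω} (g : G) (hg : g • a = c) :
    Nat.card {t : G // orderOf t = 2 ∧ t • c = c} =
      Nat.card {t : G // orderOf t = 2 ∧ t • a = a} := by
  have h1 : g⁻¹ • c = a := by rw [inv_smul_eq_iff, hg]
  apply Nat.card_congr
  exact {
    toFun := fun t => ⟨g⁻¹ * t * g, by
      constructor
      · have := (MulAut.conj g⁻¹).orderOf_eq (t : G)
        rw [MulAut.conj_apply, inv_inv] at this
        rw [this, t.2.1]
      · rw [mul_smul, mul_smul, hg, t.2.2, h1]⟩
    invFun := fun t => ⟨g * t * g⁻¹, by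
      constructor
      · have := (MulAut.conj g).orderOf_eq (t : G)
        rw [MulAut.conj_apply] at this
        rw [this, t.2.1]
      · rw [mul_smul, mul_smul, h1, t.2.2, hg]⟩
    left_inv := fun t => Subtype.ext (by simp [mul_assoc])
    right_inv := fun t => Subtype.ext (by simp [mul_assoc]) }

/-- With an odd number of points, exactly `e` involutions fix a given point. -/
theorem zass_invol_fix_card [Finite G] [Fintype Ω] (hZ : IsZassenhausGroup G Ω) {a b : Ω}
    (hab : a ≠ b) [IsSimpleGroup G]
    (hodd : Odd (Nat.card ↥(stabilizer G a ⊓ stabilizer G b : Subgroup G)))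
    (hn : Odd (Fintype.card Ω)) :
    Nat.card {t : G // orderOf t = 2 ∧ t • a = a} =
      Nat.card ↥(stabilizer G a ⊓ stabilizer G b : Subgroup G) := by
  classical
  letI := Fintype.ofFinite G
  haveI : Fact (Nat.Prime 2) := ⟨Nat.prime_two⟩
  have h3 : 3 ≤ Fintype.card Ω := zass_three_le_card hZ
  obtain ⟨h, hh⟩ : ∃ h, Fintype.card Ω = h + 1 := ⟨Fintype.card Ω - 1, by omega⟩
  have hheven : Even h := by
    rw [hh] at hn
    by_contra hc
    rw [Nat.not_even_iff_odd] at hc
    exact (Nat.not_even_iff_odd.mpr hn) hc.add_one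
  have hcount := (zass_involutions hZ hab h _ hh rfl hodd).2
  rw [if_pos hheven] at hcount
  set I : Finset G := Finset.univ.filter (fun t : G => orderOf t = 2) with hI
  have hIcard : Nat.card {x : G // orderOf x = 2} = I.card := by
    rw [Nat.card_eq_fintype_card, Fintype.card_subtype]
  have hrow : ∀ t ∈ I, (Finset.univ.filter (fun c : Ω => t • c = c)).card = 1 := by
    intro t htI
    have ht : orderOf t = 2 := by simpa [hI] using htI
    have hle : (Finset.univ.filter (fun c : Ω => t • c = c)).card ≤ 1 := by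
      apply Finset.card_le_one.mpr
      intro c hc d hd
      simp only [Finset.mem_filter, Finset.mem_univ, true_and] at hc hd
      exact zass_invol_fix_le_one hZ hab hodd ht hc hd
    have hσ : (MulAction.toPerm t : Equiv.Perm Ω) ^ 2 ^ 1 = 1 := by
      rw [pow_one]
      ext c
      simp only [Equiv.Perm.coe_pow, Equiv.Perm.coe_one, id_eq]
      show t • t • c = c
      rw [← mul_smul, ← pow_two, ← ht, pow_orderOf_eq_one, one_smul]
    have h1 : 0 < (Finset.univ.filter (fun c : Ω => t • c = c)).card := by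
      obtain ⟨f, hf⟩ := Equiv.Perm.exists_fixed_point_of_prime (n := 1)
        (fun h => (Nat.not_even_iff_odd.mpr hn) (even_iff_two_dvd.mpr h)) hσ
      exact Finset.card_pos.mpr ⟨f, by simpa using hf⟩
    omega
  have hcol : ∀ c : Ω, (I.filter (fun t => t • c = c)).card =
      Nat.card {t : G // orderOf t = 2 ∧ t • a = a} := by
    intro c
    have hg : ∃ g : G, g • a = c := by
      by_cases hca : c = a
      · exact ⟨1, by rw [one_smul, hca]⟩
      · obtain ⟨g, hg, -⟩ := zass_two_trans hZ (Ne.symm hca) hca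
        exact ⟨g, hg⟩
    obtain ⟨g, hg⟩ := hg
    rw [← zass_invol_fix_card_eq g hg, Nat.card_eq_fintype_card, Fintype.card_subtype]
    congr 1
    ext t
    simp [hI]
  have hdc := Finset.sum_card_bipartiteAbove_eq_sum_card_bipartiteBelow (s := I)
    (t := (Finset.univ : Finset Ω)) (r := fun t c => t • c = c)
  simp only [Finset.bipartiteAbove, Finset.bipartiteBelow] at hdc
  rw [Finset.sum_congr rfl hrow, Finset.sum_congr rfl (fun c _ => hcol c), Finset.sum_const,
    Finset.sum_const, Finset.card_univ, smul_eq_mul, smul_eq_mul, mul_one, ← hIcard, hcount,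
    hh] at hdc
  have h4 : (h + 1) * Nat.card ↥(stabilizer G a ⊓ stabilizer G b : Subgroup G) =
      (h + 1) * Nat.card {t : G // orderOf t = 2 ∧ t • a = a} := by
    rw [← hdc]; ring
  exact (Nat.eq_of_mul_eq_mul_left (Nat.succ_pos h) h4).symm

/-- **Feit**: a non-identity element of `H` that is a product of two involutions is an
involution. -/
theorem zass_prod_invol [Finite G] [Fintype Ω] (hZ : IsZassenhausGroup G Ω) {a b : Ω}
    (hab : a ≠ b) [IsSimpleGroup G]
    (hodd : Odd (Nat.card ↥(stabilizer G a ⊓ stabilizer G b : Subgroup G)))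
    (H : Subgroup G) (hHa : H ≤ stabilizer G a) (hHcard : Nat.card H + 1 = Fintype.card Ω)
    (hHfix : ∀ u ∈ H, u ≠ 1 → ∀ c : Ω, u • c = c → c = a) (u : G) (hu : u ∈ H) (hu1 : u ≠ 1)
    (x y : G) (hx : orderOf x = 2) (hy : orderOf y = 2) (hxy : x * y = u) : orderOf u = 2 := by
  classical
  haveI : Fact (Nat.Prime 2) := ⟨Nat.prime_two⟩
  have h3 : 3 ≤ Fintype.card Ω := zass_three_le_card hZ
  have hx2 : x * x = 1 := by rw [← pow_two, ← hx, pow_orderOf_eq_one]
  have hy2 : y * y = 1 := by rw [← pow_two, ← hy, pow_orderOf_eq_one]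
  have hxinv : x⁻¹ = x := inv_eq_of_mul_eq_one_right hx2
  have hyinv : y⁻¹ = y := inv_eq_of_mul_eq_one_right hy2
  have hinvu : x * u * x⁻¹ = u⁻¹ := by
    rw [← hxy, mul_inv_rev, hxinv, hyinv, ← mul_assoc, hx2, one_mul]
  have hua : u • a = a := hHa hu
  have hxa : x • a = a := by
    apply hHfix u⁻¹ (H.inv_mem hu) (inv_ne_one.mpr hu1)
    rw [← hinvu, mul_smul, mul_smul, inv_smul_smul, hua]
  have hya : y • a = a := by
    have h1 : y = x * u := by rw [← hxy, ← mul_assoc, hx2, one_mul]
    rw [h1, mul_smul, hua, hxa]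
  have hσ : (MulAction.toPerm x : Equiv.Perm Ω) ^ 2 ^ 1 = 1 := by
    rw [pow_one]
    ext c
    simp only [Equiv.Perm.coe_pow, Equiv.Perm.coe_one, id_eq]
    show x • x • c = c
    rw [← mul_smul, hx2, one_smul]
  by_cases hn : Even (Fintype.card Ω)
  · exfalso
    obtain ⟨d, hd, hda⟩ := Equiv.Perm.exists_fixed_point_of_prime' (n := 1)
      (even_iff_two_dvd.mp hn) hσ (a := a) hxa
    exact hda (zass_invol_fix_le_one hZ hab hodd hx hd hxa)
  · have hnodd : Odd (Fintype.card Ω) := Nat.not_even_iff_odd.mp hn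
    -- `H` is normalized by the stabilizer of `a`
    have hnormal : ∀ g ∈ stabilizer G a, ∀ w ∈ H, g * w * g⁻¹ ∈ H := by
      intro g hg w hw
      have h1 := (Cfsg.Agent.S0878.result hZ a H hHa hHcard hHfix).2
      have h2 : g ∈ Subgroup.normalizer (H : Set G) := by rw [h1]; exact hg
      exact (Subgroup.mem_normalizer_iff.mp h2 w).mp hw
    -- `H ∩ E = 1`
    have hHE : ∀ w, w ∈ H → w ∈ (stabilizer G a ⊓ stabilizer G b : Subgroup G) → w = 1 := by
      intro w hw hwE
      by_contra hw1
      exact hab (hHfix w hw hw1 b hwE.2).symm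
    -- `G_a = H E`
    have hfac : ∀ g ∈ stabilizer G a, ∃ v ∈ H,
        ∃ ε ∈ (stabilizer G a ⊓ stabilizer G b : Subgroup G), g = v * ε := by
      intro g hg
      have hgb : g • b ≠ a := by
        intro h
        have hga : g • a = a := hg
        exact hab (MulAction.injective g (hga.trans h.symm))
      obtain ⟨v, hv, hvb⟩ := zass_H_trans a H hHa hHcard hHfix hgb (Ne.symm hab)
      refine ⟨v⁻¹, H.inv_mem hv, v * g, ⟨(stabilizer G a).mul_mem (hHa hv) hg, ?_⟩, by group⟩
      show (v * g) • b = b
      rw [mul_smul, hvb]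
    -- elements of `E` have odd order
    have hEodd : ∀ ε ∈ (stabilizer G a ⊓ stabilizer G b : Subgroup G), ε * ε = 1 → ε = 1 := by
      intro ε hε h2
      have h4 : (⟨ε, hε⟩ : (stabilizer G a ⊓ stabilizer G b : Subgroup G)) ^ 2 = 1 := by
        apply Subtype.ext
        show ε ^ 2 = 1
        rw [pow_two, h2]
      have h5 : orderOf (⟨ε, hε⟩ : (stabilizer G a ⊓ stabilizer G b : Subgroup G)) ∣ 2 :=
        orderOf_dvd_of_pow_eq_one h4
      have h6 : orderOf (⟨ε, hε⟩ : (stabilizer G a ⊓ stabilizer G b : Subgroup G)) ∣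
          Nat.card ↥(stabilizer G a ⊓ stabilizer G b : Subgroup G) := orderOf_dvd_natCard _
      have h7 := Nat.Coprime.eq_one_of_dvd
        (Nat.Coprime.coprime_dvd_left h6 (Nat.Coprime.symm (Nat.coprime_two_left.mpr hodd))) h5
      exact congrArg Subtype.val (orderOf_eq_one_iff.mp h7)
    -- involutions fixing `a` lie in `H`
    have hinvH : ∀ t : G, orderOf t = 2 → t • a = a → t ∈ H := by
      intro t ht hta
      have ht2 : t * t = 1 := by rw [← pow_two, ← ht, pow_orderOf_eq_one]
      have htinv : t⁻¹ = t := inv_eq_of_mul_eq_one_right ht2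
      have htb : t • b ≠ a := by
        intro h
        exact hab (MulAction.injective t (hta.trans h.symm))
      obtain ⟨v, hv, hvb⟩ := zass_H_trans a H hHa hHcard hHfix htb (Ne.symm hab)
      have hε : v * t ∈ (stabilizer G a ⊓ stabilizer G b : Subgroup G) :=
        ⟨(stabilizer G a).mul_mem (hHa hv) hta, by
          show (v * t) • b = b
          rw [mul_smul, hvb]⟩
      have hsq : (v * t) * (v * t) = v * (t * v * t⁻¹) := by
        rw [htinv]
        group
      have hsqH : (v * t) * (v * t) ∈ H := by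
        rw [hsq]
        exact H.mul_mem hv (hnormal t hta v hv)
      have h1 : (v * t) * (v * t) = 1 :=
        hHE _ hsqH ((stabilizer G a ⊓ stabilizer G b : Subgroup G).mul_mem hε hε)
      have h2 : v * t = 1 := hEodd _ hε h1
      have h4 : t = v⁻¹ := by
        rw [eq_inv_iff_mul_eq_one, ← h2]
        have h5 : t * v = t * (v * t) * t⁻¹ := by group
        rw [h5, h2, mul_one, mul_inv_cancel]
      rw [h4]
      exact H.inv_mem hv
    have hyH : y ∈ H := hinvH y hy hya
    -- no element of `E` commutes with `x`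
    have hEx : ∀ δ, δ ∈ (stabilizer G a ⊓ stabilizer G b : Subgroup G) → δ * x = x * δ → δ = 1 := by
      intro δ hδ hcomm
      by_contra hδ1
      have h1 : δ • (x • b) = x • b := by
        rw [← mul_smul, hcomm, mul_smul]
        congr 1
        exact hδ.2
      have h2 : x • b ≠ a := by
        intro h
        exact hab (MulAction.injective x (hxa.trans h.symm))
      rcases zass_fixed_of_two hZ hδ1 hab hδ.1 hδ.2 h1 with h4 | h4
      · exact h2 h4
      · exact hab (zass_invol_fix_le_one hZ hab hodd hx hxa h4)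
    -- `E` acts regularly on the involutions fixing `a`
    have hk := zass_invol_fix_card hZ hab hodd hnodd
    let f : (stabilizer G a ⊓ stabilizer G b : Subgroup G) → {t : G // orderOf t = 2 ∧ t • a = a} :=
      fun ε => ⟨(ε : G) * x * (ε : G)⁻¹, by
        constructor
        · have := (MulAut.conj (ε : G)).orderOf_eq x
          rw [MulAut.conj_apply] at this
          rw [this, hx]
        · have h1 : (ε : G)⁻¹ • a = a := inv_smul_eq_iff.mpr ε.2.1.symm
          have h2 : (ε : G) • a = a := ε.2.1
          rw [mul_smul, mul_smul, h1, hxa, h2]⟩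
    have hfinj : Function.Injective f := by
      intro ε ε' h
      have h0 : (ε : G) * x * (ε : G)⁻¹ = (ε' : G) * x * (ε' : G)⁻¹ := congrArg Subtype.val h
      have h1 : ((ε' : G)⁻¹ * (ε : G)) * x = x * ((ε' : G)⁻¹ * (ε : G)) := by
        calc ((ε' : G)⁻¹ * (ε : G)) * x = (ε' : G)⁻¹ * ((ε : G) * x * (ε : G)⁻¹) * (ε : G) := by
              group
          _ = (ε' : G)⁻¹ * ((ε' : G) * x * (ε' : G)⁻¹) * (ε : G) := by rw [h0]
          _ = x * ((ε' : G)⁻¹ * (ε : G)) := by group
      have hm := (stabilizer G a ⊓ stabilizer G b : Subgroup G).mul_mem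
        ((stabilizer G a ⊓ stabilizer G b : Subgroup G).inv_mem ε'.2) ε.2
      have h2 := hEx _ hm h1
      exact Subtype.ext (inv_mul_eq_one.mp h2).symm
    have hbij := hfinj.bijective_of_nat_card_le (le_of_eq hk)
    -- the centralizer of `x` in the stabilizer
    set C : Subgroup G := stabilizer G a ⊓ Subgroup.centralizer {x} with hC
    have hCmem : ∀ g, g ∈ C ↔ g • a = a ∧ g * x = x * g := by
      intro g
      rw [hC, Subgroup.mem_inf, Subgroup.mem_centralizer_iff]
      constructor
      · rintro ⟨h1, h2⟩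
        exact ⟨h1, (h2 x (Set.mem_singleton x)).symm⟩
      · rintro ⟨h1, h2⟩
        refine ⟨h1, ?_⟩
        intro z hz
        rw [Set.mem_singleton_iff] at hz
        rw [hz]
        exact h2.symm
    have hcard1 : Nat.card (stabilizer G a) =
        Nat.card ↥(stabilizer G a ⊓ stabilizer G b : Subgroup G) * Nat.card C := by
      apply card_eq_mul_of_factor _ _ _ inf_le_left inf_le_left
      · intro δ hδ hδC
        exact hEx δ hδ ((hCmem δ).mp hδC).2
      · intro g hg
        have hga : g • a = a := hg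
        have hga' : g⁻¹ • a = a := inv_smul_eq_iff.mpr hga.symm
        have hmem : orderOf (g * x * g⁻¹) = 2 ∧ (g * x * g⁻¹) • a = a := by
          constructor
          · have := (MulAut.conj g).orderOf_eq x
            rw [MulAut.conj_apply] at this
            rw [this, hx]
          · rw [mul_smul, mul_smul, hga', hxa, hga]
        obtain ⟨ε, hε⟩ := hbij.2 ⟨g * x * g⁻¹, hmem⟩
        have hε' : (ε : G) * x * (ε : G)⁻¹ = g * x * g⁻¹ := congrArg Subtype.val hε
        refine ⟨ε, ε.2, (ε : G)⁻¹ * g, ?_, by group⟩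
        rw [hCmem]
        refine ⟨?_, ?_⟩
        · have h1 : (ε : G)⁻¹ • a = a := inv_smul_eq_iff.mpr ε.2.1.symm
          rw [mul_smul, hga, h1]
        · calc (ε : G)⁻¹ * g * x = (ε : G)⁻¹ * (g * x * g⁻¹) * g := by group
            _ = (ε : G)⁻¹ * ((ε : G) * x * (ε : G)⁻¹) * g := by rw [hε']
            _ = x * ((ε : G)⁻¹ * g) := by group
    have hcard2 : Nat.card (stabilizer G a) =
        Nat.card H * Nat.card ↥(stabilizer G a ⊓ stabilizer G b : Subgroup G) :=
      card_eq_mul_of_factor _ _ _ hHa inf_le_left hHE hfac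
    have hcardC : Nat.card C = Nat.card H := by
      rw [hcard2, mul_comm] at hcard1
      exact (Nat.eq_of_mul_eq_mul_left Nat.card_pos hcard1).symm
    -- `C ≤ H`
    have hcopr : Nat.Coprime (Nat.card H)
        (Nat.card ↥(stabilizer G a ⊓ stabilizer G b : Subgroup G)) := by
      have h1 := zass_coprime hZ hab hodd
      have h2 : Nat.card H = Fintype.card Ω - 1 := by omega
      rw [h2]
      exact (Nat.Coprime.coprime_dvd_right (Dvd.intro_left _ rfl) h1).symm
    have hCH : C ≤ H := by
      intro c hc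
      have hca : c ∈ stabilizer G a := ((hCmem c).mp hc).1
      obtain ⟨v, hv, ε, hε, hcv⟩ := hfac c hca
      have hpow : ∀ k : ℕ, ∃ w ∈ H, c ^ k = w * ε ^ k := by
        intro k
        induction k with
        | zero => exact ⟨1, H.one_mem, by simp⟩
        | succ k ih =>
          obtain ⟨w, hw, hwk⟩ := ih
          refine ⟨w * (ε ^ k * v * (ε ^ k)⁻¹), H.mul_mem hw (hnormal _
            ((stabilizer G a).pow_mem hε.1 k) v hv), ?_⟩
          rw [pow_succ, hwk, pow_succ]
          conv_lhs => rw [hcv]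
          group
      obtain ⟨w, hw, hwk⟩ := hpow (Nat.card C)
      have h1 : c ^ Nat.card C = 1 := by
        have := pow_card_eq_one' (x := (⟨c, hc⟩ : C))
        exact congrArg Subtype.val this
      rw [h1] at hwk
      have h2 : ε ^ Nat.card C = w⁻¹ := eq_inv_of_mul_eq_one_right hwk.symm
      have h4 : ε ^ Nat.card C = 1 :=
        hHE _ (h2 ▸ H.inv_mem hw) ((stabilizer G a ⊓ stabilizer G b : Subgroup G).pow_mem hε _)
      have h5 : (⟨ε, hε⟩ : (stabilizer G a ⊓ stabilizer G b : Subgroup G)) ^ Nat.card C = 1 :=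
        Subtype.ext h4
      have h6 : orderOf (⟨ε, hε⟩ : (stabilizer G a ⊓ stabilizer G b : Subgroup G)) ∣ Nat.card H := by
        rw [← hcardC]
        exact orderOf_dvd_of_pow_eq_one h5
      have h7 : orderOf (⟨ε, hε⟩ : (stabilizer G a ⊓ stabilizer G b : Subgroup G)) ∣
          Nat.card ↥(stabilizer G a ⊓ stabilizer G b : Subgroup G) := orderOf_dvd_natCard _
      have h8 := Nat.Coprime.eq_one_of_dvd (Nat.Coprime.coprime_dvd_left h6 hcopr) h7
      have h9 : ε = 1 := congrArg Subtype.val (orderOf_eq_one_iff.mp h8)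
      rw [hcv, h9, mul_one]
      exact hv
    have hCeq : C = H := Subgroup.eq_of_le_of_card_ge hCH (le_of_eq hcardC.symm)
    have hyx : y * x = x * y := by
      have h1 : y ∈ C := by rw [hCeq]; exact hyH
      exact ((hCmem y).mp h1).2
    apply orderOf_eq_prime
    · rw [pow_two, ← hxy]
      calc x * y * (x * y) = x * (y * x) * y := by group
        _ = x * (x * y) * y := by rw [hyx]
        _ = (x * x) * (y * y) := by group
        _ = 1 := by rw [hx2, hy2, one_mul]
    · exact hu1

end Z6

end Cfsg.Agent.Lib.Helper21
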