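import Mathlib
import Cfsg.Agent.Lib.Helper21.Zass6

/-!
Zassenhaus groups with two-point stabilizer of odd order: at least `e` conjugacy classes avoid
the Frobenius kernel of a point stabilizer (Feit).  Counting pairs of involutions.
-/

set_option autoImplicit false

namespace Cfsg.Agent.Lib.Helper21

open Cfsg MulAction

section Z8

/-- An element has order two iff it is a non-identity element squaring to the identity. -/
theorem orderOf_two_iff' {K : Type*} [Group K] (s : K) : orderOf s = 2 ↔ s ≠ 1 ∧ s * s = 1 := by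
  haveI : Fact (Nat.Prime 2) := ⟨Nat.prime_two⟩
  constructor
  · intro h
    refine ⟨?_, ?_⟩
    · intro h1
      rw [h1, orderOf_one] at h
      omega
    · rw [← pow_two, ← h, pow_orderOf_eq_one]
  · rintro ⟨h1, h2⟩
    exact orderOf_eq_prime (by rw [pow_two, h2]) h1

/-- Conjugates of involutions are involutions. -/
theorem orderOf_two_conj {K : Type*} [Group K] {s : K} (hs : orderOf s = 2) (x : K) :
    orderOf (x * s * x⁻¹) = 2 := by
  rw [orderOf_two_iff'] at hs ⊢
  refine ⟨conj_ne_one hs.1, ?_⟩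
  calc x * s * x⁻¹ * (x * s * x⁻¹) = x * (s * s) * x⁻¹ := by group
    _ = 1 := by rw [hs.2]; group

/-- The key conjugation identity for products of two involutions. -/
theorem invol_conj_key {K : Type*} [Group K] {s t s₀ t₀ x : K} (hs : s * s = 1) (ht : t * t = 1)
    (hs₀ : s₀ * s₀ = 1) (ht₀ : t₀ * t₀ = 1) (hx : x * (s₀ * t₀) * x⁻¹ = s * t) :
    (x * s₀⁻¹ * x⁻¹ * s * x) * (s₀ * t₀) * (x * s₀⁻¹ * x⁻¹ * s * x)⁻¹ = s * t := by
  have e1 : s⁻¹ = s := inv_eq_of_mul_eq_one_right hs
  have e2 : t⁻¹ = t := inv_eq_of_mul_eq_one_right ht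
  have e3 : s₀⁻¹ = s₀ := inv_eq_of_mul_eq_one_right hs₀
  have e4 : t₀⁻¹ = t₀ := inv_eq_of_mul_eq_one_right ht₀
  have e5 : x * t₀ * s₀ * x⁻¹ = t * s := by
    have h1 := congrArg (fun z => z⁻¹) hx
    simp only [mul_inv_rev, inv_inv, e1, e2, e3, e4] at h1
    rw [← h1]
    group
  calc (x * s₀⁻¹ * x⁻¹ * s * x) * (s₀ * t₀) * (x * s₀⁻¹ * x⁻¹ * s * x)⁻¹
      = x * s₀⁻¹ * x⁻¹ * s * (x * (s₀ * t₀) * x⁻¹) * s⁻¹ * x * s₀ * x⁻¹ := by group
    _ = x * s₀⁻¹ * x⁻¹ * s * (s * t) * s⁻¹ * x * s₀ * x⁻¹ := by rw [hx]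
    _ = x * s₀⁻¹ * x⁻¹ * ((s * s) * (t * s⁻¹)) * x * s₀ * x⁻¹ := by group
    _ = x * s₀⁻¹ * x⁻¹ * (t * s) * x * s₀ * x⁻¹ := by rw [hs, one_mul, e1]
    _ = x * s₀⁻¹ * x⁻¹ * (x * t₀ * s₀ * x⁻¹) * x * s₀ * x⁻¹ := by rw [e5]
    _ = x * (s₀⁻¹ * t₀ * (s₀ * s₀)) * x⁻¹ := by group
    _ = x * (s₀ * t₀) * x⁻¹ := by rw [hs₀, mul_one, e3]
    _ = s * t := hx

/-- The number of pairs of involutions whose product lies in a given set of conjugacy classes
is at most the number of these classes times the group order. -/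
theorem invol_pairs_le {K : Type*} [Group K] [Finite K] (𝒞 : Set (ConjClasses K)) :
    Nat.card {p : K × K // orderOf p.1 = 2 ∧ orderOf p.2 = 2 ∧
      ConjClasses.mk (p.1 * p.2) ∈ 𝒞} ≤ Nat.card 𝒞 * Nat.card K := by
  classical
  have hrep : ∀ C : ConjClasses K, ∃ q : K × K,
      (∃ p : K × K, orderOf p.1 = 2 ∧ orderOf p.2 = 2 ∧ ConjClasses.mk (p.1 * p.2) = C) →
      (orderOf q.1 = 2 ∧ orderOf q.2 = 2 ∧ ConjClasses.mk (q.1 * q.2) = C) := by
    intro C
    by_cases h : ∃ p : K × K, orderOf p.1 = 2 ∧ orderOf p.2 = 2 ∧ ConjClasses.mk (p.1 * p.2) = C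
    · exact ⟨h.choose, fun _ => h.choose_spec⟩
    · exact ⟨(1, 1), fun h' => absurd h' h⟩
  choose rep hrep using hrep
  have hwit : ∀ g₀ g : K, ∃ x : K, IsConj g₀ g → x * g₀ * x⁻¹ = g := by
    intro g₀ g
    by_cases h : IsConj g₀ g
    · obtain ⟨x, hx⟩ := isConj_iff.mp h
      exact ⟨x, fun _ => hx⟩
    · exact ⟨1, fun h' => absurd h' h⟩
  choose wit hwit using hwit
  let F : ConjClasses K → K × K → K := fun C p =>
    wit ((rep C).1 * (rep C).2) (p.1 * p.2) * ((rep C).1)⁻¹ *
      (wit ((rep C).1 * (rep C).2) (p.1 * p.2))⁻¹ * p.1 * wit ((rep C).1 * (rep C).2) (p.1 * p.2)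
  have hkey : ∀ (C : ConjClasses K) (p : K × K), orderOf p.1 = 2 → orderOf p.2 = 2 →
      ConjClasses.mk (p.1 * p.2) = C →
      F C p * ((rep C).1 * (rep C).2) * (F C p)⁻¹ = p.1 * p.2 := by
    intro C p hp1 hp2 hpC
    obtain ⟨hq1, hq2, hqC⟩ := hrep C ⟨p, hp1, hp2, hpC⟩
    have hconj : IsConj ((rep C).1 * (rep C).2) (p.1 * p.2) := by
      rw [← ConjClasses.mk_eq_mk_iff_isConj, hqC, hpC]
    have hx := hwit _ _ hconj
    exact invol_conj_key ((orderOf_two_iff' _).mp hp1).2 ((orderOf_two_iff' _).mp hp2).2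
      ((orderOf_two_iff' _).mp hq1).2 ((orderOf_two_iff' _).mp hq2).2 hx
  let Φ : {p : K × K // orderOf p.1 = 2 ∧ orderOf p.2 = 2 ∧ ConjClasses.mk (p.1 * p.2) ∈ 𝒞} →
      𝒞 × K := fun p => (⟨ConjClasses.mk (p.1.1 * p.1.2), p.2.2.2⟩,
        F (ConjClasses.mk (p.1.1 * p.1.2)) p.1)
  have hΦ : Function.Injective Φ := by
    rintro ⟨p, hp1, hp2, hpC⟩ ⟨p', hp1', hp2', hpC'⟩ hpp
    have h1 : ConjClasses.mk (p.1 * p.2) = ConjClasses.mk (p'.1 * p'.2) := by
      have := congrArg (fun z : 𝒞 × K => (z.1 : ConjClasses K)) hpp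
      exact this
    have h2 : F (ConjClasses.mk (p.1 * p.2)) p = F (ConjClasses.mk (p'.1 * p'.2)) p' := by
      have := congrArg (fun z : 𝒞 × K => z.2) hpp
      exact this
    rw [← h1] at h2
    have k1 := hkey _ p hp1 hp2 rfl
    have k2 := hkey _ p' hp1' hp2' h1.symm
    rw [h2] at k1
    have h3 : p.1 * p.2 = p'.1 * p'.2 := k1.symm.trans k2
    have h4 : p.1 = p'.1 := by
      have h5 : F (ConjClasses.mk (p.1 * p.2)) p = F (ConjClasses.mk (p.1 * p.2)) p' := h2
      simp only [F] at h5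
      rw [← h3] at h5
      exact mul_left_cancel (mul_right_cancel h5)
    have h6 : p.2 = p'.2 := by
      rw [h4] at h3
      exact mul_left_cancel h3
    apply Subtype.ext
    exact Prod.ext h4 h6
  calc Nat.card {p : K × K // orderOf p.1 = 2 ∧ orderOf p.2 = 2 ∧
        ConjClasses.mk (p.1 * p.2) ∈ 𝒞} ≤ Nat.card (𝒞 × K) :=
        Nat.card_le_card_of_injective Φ hΦ
    _ = Nat.card 𝒞 * Nat.card K := Nat.card_prod _ _

variable {G Ω : Type*} [Group G] [MulAction G Ω]

set_option maxHeartbeats 1000000 in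
/-- **Feit**: in a simple Zassenhaus group with two-point stabilizer of odd order `e`,
`2e < h - 1`, at least `e` conjugacy classes contain no element of the Frobenius kernel `H` of
a point stabilizer. -/
theorem zass_classes_avoid [Finite G] [Fintype Ω] (hZ : IsZassenhausGroup G Ω) {a b : Ω}
    (hab : a ≠ b) [IsSimpleGroup G] (h e : ℕ) (hh : Fintype.card Ω = h + 1)
    (he : Nat.card ↥(stabilizer G a ⊓ stabilizer G b : Subgroup G) = e) (hodd : Odd e)
    (hlt : 2 * e < h - 1)
    (H : Subgroup G) (hHa : H ≤ stabilizer G a) (hHcard : Nat.card H + 1 = Fintype.card Ω)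
    (hHfix : ∀ u ∈ H, u ≠ 1 → ∀ c : Ω, u • c = c → c = a) :
    e ≤ Nat.card {C : ConjClasses G // ∀ g : G, ConjClasses.mk g = C → g ∉ H} := by
  classical
  letI := Fintype.ofFinite G
  have hodd' : Odd (Nat.card ↥(stabilizer G a ⊓ stabilizer G b : Subgroup G)) := by
    rw [he]
    exact hodd
  have hinv := (zass_involutions hZ hab h e hh he hodd).2
  have hG : Nat.card G = (h + 1) * h * e := by
    have := (zass_count hZ hab).1
    rw [hh, he] at this
    simpa using this
  have hA := invol_pairs_le {C : ConjClasses G | ∀ g : G, ConjClasses.mk g = C → g ∉ H}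
  have hall : Nat.card {p : G × G // orderOf p.1 = 2 ∧ orderOf p.2 = 2} =
      Nat.card {x : G // orderOf x = 2} * Nat.card {x : G // orderOf x = 2} := by
    exact (Nat.card_congr (Equiv.subtypeProdEquivProd (p := fun x : G => orderOf x = 2)
      (q := fun x : G => orderOf x = 2))).trans (Nat.card_prod _ _)
  have hsplit : Nat.card {p : G × G // orderOf p.1 = 2 ∧ orderOf p.2 = 2} =
      Nat.card {p : G × G // orderOf p.1 = 2 ∧ orderOf p.2 = 2 ∧
        ConjClasses.mk (p.1 * p.2) ∈ {C : ConjClasses G | ∀ g : G, ConjClasses.mk g = C → g ∉ H}} +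
      Nat.card {p : G × G // orderOf p.1 = 2 ∧ orderOf p.2 = 2 ∧
        ConjClasses.mk (p.1 * p.2) ∉ {C : ConjClasses G | ∀ g : G, ConjClasses.mk g = C → g ∉ H}} := by
    rw [Nat.card_eq_fintype_card, Nat.card_eq_fintype_card, Nat.card_eq_fintype_card,
      Fintype.card_subtype, Fintype.card_subtype, Fintype.card_subtype]
    rw [← Finset.card_filter_add_card_filter_not
      (s := Finset.univ.filter (fun p : G × G => orderOf p.1 = 2 ∧ orderOf p.2 = 2))
      (fun p : G × G => ConjClasses.mk (p.1 * p.2) ∈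
        {C : ConjClasses G | ∀ g : G, ConjClasses.mk g = C → g ∉ H})]
    rw [Finset.filter_filter, Finset.filter_filter]
    congr 2 <;>
    · ext p
      simp only [Finset.mem_filter, Finset.mem_univ, true_and, and_assoc]
  have hmeet : ∀ p : G × G, orderOf p.1 = 2 → orderOf p.2 = 2 →
      ConjClasses.mk (p.1 * p.2) ∉ {C : ConjClasses G | ∀ g : G, ConjClasses.mk g = C → g ∉ H} →
      p.1 = p.2 ∨ (orderOf (p.1 * p.2) = 2 ∧ Even h) := by
    intro p hp1 hp2 hnA
    by_cases hpp : p.1 = p.2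
    · exact Or.inl hpp
    · right
      rw [Set.mem_setOf_eq] at hnA
      push Not at hnA
      obtain ⟨g, hgC, hgH⟩ := hnA
      have hconj : IsConj g (p.1 * p.2) := ConjClasses.mk_eq_mk_iff_isConj.mp hgC
      obtain ⟨x, hx⟩ := isConj_iff.mp hconj
      have hp12 : p.1 * p.2 ≠ 1 := by
        intro h1
        apply hpp
        have := ((orderOf_two_iff' _).mp hp2).2
        exact mul_right_cancel (h1.trans this.symm)
      have hg1 : g ≠ 1 := by
        rintro rfl
        apply hp12
        rw [← hx]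
        group
      have hg : x⁻¹ * p.1 * x * (x⁻¹ * p.2 * x) = g := by
        have : g = x⁻¹ * (x * g * x⁻¹) * x := by group
        rw [this, hx]
        group
      have ho1 : orderOf (x⁻¹ * p.1 * x) = 2 := by
        simpa using orderOf_two_conj hp1 x⁻¹
      have ho2 : orderOf (x⁻¹ * p.2 * x) = 2 := by
        simpa using orderOf_two_conj hp2 x⁻¹
      have hgo : orderOf g = 2 := zass_prod_invol hZ hab hodd' H hHa hHcard hHfix g hgH hg1
        (x⁻¹ * p.1 * x) (x⁻¹ * p.2 * x) ho1 ho2 hg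
      refine ⟨?_, ?_⟩
      · rw [← hx]
        exact orderOf_two_conj hgo x
      · have h2 : 2 ∣ Nat.card H := by
          have := orderOf_dvd_natCard (⟨g, hgH⟩ : H)
          rwa [Subgroup.orderOf_mk g hgH, hgo] at this
        have h3 : Nat.card H = h := by omega
        rw [h3] at h2
        exact even_iff_two_dvd.mpr h2
  have he1 : 1 ≤ e := by
    obtain ⟨k, hk⟩ := hodd
    omega
  by_cases hev : Even h
  · -- `h` even
    have hn : Odd (Fintype.card Ω) := by
      rw [hh]
      exact hev.add_one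
    rw [if_pos hev] at hinv
    have hfixcard := zass_invol_fix_card hZ hab hodd' hn
    rw [he] at hfixcard
    have hfix : ∀ s : G, ∃ c : Ω, orderOf s = 2 → s • c = c := by
      intro s
      by_cases hs : orderOf s = 2
      · haveI : Fact (Nat.Prime 2) := ⟨Nat.prime_two⟩
        have hσ : (MulAction.toPerm s : Equiv.Perm Ω) ^ 2 ^ 1 = 1 := by
          rw [pow_one]
          ext c
          simp only [Equiv.Perm.coe_pow, Equiv.Perm.coe_one, id_eq]
          show s • s • c = c
          rw [← mul_smul, ← pow_two, ← hs, pow_orderOf_eq_one, one_smul]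
        have hnd : ¬ 2 ∣ Fintype.card Ω := fun h =>
          (Nat.not_even_iff_odd.mpr hn) (even_iff_two_dvd.mpr h)
        obtain ⟨f, hf⟩ := Equiv.Perm.exists_fixed_point_of_prime (n := 1) hnd hσ
        exact ⟨f, fun _ => hf⟩
      · exact ⟨a, fun h' => absurd h' hs⟩
    choose fx hfx using hfix
    have hmover : ∀ c : Ω, ∃ g : G, g • a = c := by
      intro c
      by_cases hca : c = a
      · exact ⟨1, by rw [one_smul, hca]⟩
      · obtain ⟨g, hg, -⟩ := zass_two_trans hZ (Ne.symm hca) hca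
        exact ⟨g, hg⟩
    choose mv hmv using hmover
    have hΨwd : ∀ p : {p : G × G // orderOf p.1 = 2 ∧ orderOf p.2 = 2 ∧
        ConjClasses.mk (p.1 * p.2) ∉ {C : ConjClasses G | ∀ g : G, ConjClasses.mk g = C → g ∉ H}},
        orderOf ((mv (fx p.1.1))⁻¹ * p.1.2 * mv (fx p.1.1)) = 2 ∧
        ((mv (fx p.1.1))⁻¹ * p.1.2 * mv (fx p.1.1)) • a = a := by
      rintro ⟨p, hp1, hp2, hpC⟩
      refine ⟨by simpa using orderOf_two_conj hp2 (mv (fx p.1))⁻¹, ?_⟩
      have hsc : p.1 • fx p.1 = fx p.1 := hfx p.1 hp1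
      have htc : p.2 • fx p.1 = fx p.1 := by
        rcases hmeet p hp1 hp2 hpC with h1 | ⟨h1, -⟩
        · rw [← h1]
          exact hsc
        · have hcomm : p.1 * p.2 = p.2 * p.1 := by
            have e1 := ((orderOf_two_iff' _).mp h1).2
            have e2 := ((orderOf_two_iff' _).mp hp1).2
            have e3 := ((orderOf_two_iff' _).mp hp2).2
            have e4 : (p.1 * p.2)⁻¹ = p.1 * p.2 := inv_eq_of_mul_eq_one_right e1
            have e5 : p.1⁻¹ = p.1 := inv_eq_of_mul_eq_one_right e2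
            have e6 : p.2⁻¹ = p.2 := inv_eq_of_mul_eq_one_right e3
            rw [← e4, mul_inv_rev, e5, e6]
          have h2 : p.1 • (p.2 • fx p.1) = p.2 • fx p.1 := by
            rw [← mul_smul, hcomm, mul_smul, hsc]
          exact zass_invol_fix_le_one hZ hab hodd' hp1 h2 hsc
      show ((mv (fx p.1))⁻¹ * p.2 * mv (fx p.1)) • a = a
      rw [mul_smul, mul_smul, hmv, htc, inv_smul_eq_iff, hmv]
    let Ψ : {p : G × G // orderOf p.1 = 2 ∧ orderOf p.2 = 2 ∧
        ConjClasses.mk (p.1 * p.2) ∉ {C : ConjClasses G | ∀ g : G, ConjClasses.mk g = C → g ∉ H}} →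
        {x : G // orderOf x = 2} × {t : G // orderOf t = 2 ∧ t • a = a} := fun p =>
      (⟨p.1.1, p.2.1⟩, ⟨(mv (fx p.1.1))⁻¹ * p.1.2 * mv (fx p.1.1), hΨwd p⟩)
    have hΨ : Function.Injective Ψ := by
      rintro ⟨p, hp1, hp2, hpC⟩ ⟨p', hp1', hp2', hpC'⟩ hpp
      have h1 : p.1 = p'.1 := by
        have := congrArg (fun z : {x : G // orderOf x = 2} × {t : G // orderOf t = 2 ∧ t • a = a} =>
          (z.1 : G)) hpp
        exact this
      have h2 : (mv (fx p.1))⁻¹ * p.2 * mv (fx p.1) = (mv (fx p'.1))⁻¹ * p'.2 * mv (fx p'.1) := by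
        have := congrArg (fun z : {x : G // orderOf x = 2} × {t : G // orderOf t = 2 ∧ t • a = a} =>
          (z.2 : G)) hpp
        exact this
      rw [← h1] at h2
      have h3 : p.2 = p'.2 := mul_left_cancel (mul_right_cancel h2)
      apply Subtype.ext
      exact Prod.ext h1 h3
    have hB : Nat.card {p : G × G // orderOf p.1 = 2 ∧ orderOf p.2 = 2 ∧
        ConjClasses.mk (p.1 * p.2) ∉ {C : ConjClasses G | ∀ g : G, ConjClasses.mk g = C → g ∉ H}} ≤
        Nat.card {x : G // orderOf x = 2} * e := by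
      calc _ ≤ Nat.card ({x : G // orderOf x = 2} × {t : G // orderOf t = 2 ∧ t • a = a}) :=
            Nat.card_le_card_of_injective Ψ hΨ
        _ = Nat.card {x : G // orderOf x = 2} * e := by rw [Nat.card_prod, hfixcard]
    rw [hall, hinv] at hsplit
    rw [hinv] at hB
    rw [hG] at hA
    by_contra hcon
    push Not at hcon
    have hr : Nat.card {C : ConjClasses G // ∀ g : G, ConjClasses.mk g = C → g ∉ H} + 1 ≤ e := hcon
    have key : e * (h + 1) * (e * (h + 1)) ≤
        (Nat.card {C : ConjClasses G // ∀ g : G, ConjClasses.mk g = C → g ∉ H} * h + e) *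
          (e * (h + 1)) := by
      calc e * (h + 1) * (e * (h + 1)) ≤
            Nat.card {C : ConjClasses G // ∀ g : G, ConjClasses.mk g = C → g ∉ H} *
              ((h + 1) * h * e) + e * (h + 1) * e := by
            rw [hsplit]
            exact Nat.add_le_add hA hB
        _ = _ := by ring
    have key2 : e * (h + 1) ≤
        Nat.card {C : ConjClasses G // ∀ g : G, ConjClasses.mk g = C → g ∉ H} * h + e :=
      Nat.le_of_mul_le_mul_right key (by positivity)
    have key3 : (Nat.card {C : ConjClasses G // ∀ g : G, ConjClasses.mk g = C → g ∉ H} + 1) * h ≤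
        e * h := Nat.mul_le_mul_right h hr
    have hhpos : 0 < h := by omega
    have key4 : e * (h + 1) = e * h + e := by ring
    have key5 : (Nat.card {C : ConjClasses G // ∀ g : G, ConjClasses.mk g = C → g ∉ H} + 1) * h =
        Nat.card {C : ConjClasses G // ∀ g : G, ConjClasses.mk g = C → g ∉ H} * h + h := by ring
    rw [key4] at key2
    rw [key5] at key3
    omega
  · -- `h` odd
    rw [if_neg hev] at hinv
    have hB : Nat.card {p : G × G // orderOf p.1 = 2 ∧ orderOf p.2 = 2 ∧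
        ConjClasses.mk (p.1 * p.2) ∉ {C : ConjClasses G | ∀ g : G, ConjClasses.mk g = C → g ∉ H}} ≤
        Nat.card {x : G // orderOf x = 2} := by
      apply Nat.card_le_card_of_injective (fun p => (⟨p.1.1, p.2.1⟩ : {x : G // orderOf x = 2}))
      rintro ⟨p, hp1, hp2, hpC⟩ ⟨p', hp1', hp2', hpC'⟩ hpp
      have h1 : p.1 = p'.1 := congrArg Subtype.val hpp
      have h2 : p.1 = p.2 := by
        rcases hmeet p hp1 hp2 hpC with h | ⟨-, h⟩
        · exact h
        · exact absurd h hev
      have h3 : p'.1 = p'.2 := by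
        rcases hmeet p' hp1' hp2' hpC' with h | ⟨-, h⟩
        · exact h
        · exact absurd h hev
      apply Subtype.ext
      exact Prod.ext h1 (by rw [← h2, ← h3, h1])
    rw [hall, hinv] at hsplit
    rw [hinv] at hB
    rw [hG] at hA
    by_contra hcon
    push Not at hcon
    have hr : Nat.card {C : ConjClasses G // ∀ g : G, ConjClasses.mk g = C → g ∉ H} + 1 ≤ e := hcon
    have key : e * h * (e * h) ≤
        (Nat.card {C : ConjClasses G // ∀ g : G, ConjClasses.mk g = C → g ∉ H} * (h + 1) + 1) *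
          (e * h) := by
      calc e * h * (e * h) ≤
            Nat.card {C : ConjClasses G // ∀ g : G, ConjClasses.mk g = C → g ∉ H} *
              ((h + 1) * h * e) + e * h := by
            rw [hsplit]
            exact Nat.add_le_add hA hB
        _ = _ := by ring
    have hhpos : 0 < h := by omega
    have key2 : e * h ≤
        Nat.card {C : ConjClasses G // ∀ g : G, ConjClasses.mk g = C → g ∉ H} * (h + 1) + 1 :=
      Nat.le_of_mul_le_mul_right key (by positivity)
    have key3 : (Nat.card {C : ConjClasses G // ∀ g : G, ConjClasses.mk g = C → g ∉ H} + 1) * h ≤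
        e * h := Nat.mul_le_mul_right h hr
    have key4 : Nat.card {C : ConjClasses G // ∀ g : G, ConjClasses.mk g = C → g ∉ H} * (h + 1) =
        Nat.card {C : ConjClasses G // ∀ g : G, ConjClasses.mk g = C → g ∉ H} * h +
        Nat.card {C : ConjClasses G // ∀ g : G, ConjClasses.mk g = C → g ∉ H} := by ring
    have key5 : (Nat.card {C : ConjClasses G // ∀ g : G, ConjClasses.mk g = C → g ∉ H} + 1) * h =
        Nat.card {C : ConjClasses G // ∀ g : G, ConjClasses.mk g = C → g ∉ H} * h + h := by ring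
    rw [key4] at key2
    rw [key5] at key3
    omega

end Z8

end Cfsg.Agent.Lib.Helper21
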