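import Mathlib
import Cfsg.Agent.Lib.Helper21.Fz9
import Cfsg.Agent.Lib.Helper21.Zass3
import Cfsg.Agent.Lib.Helper23.FeitA
import Cfsg.Agent.Lib.Helper23.FeitDeg

/-!
Feit's theorem on Zassenhaus groups: the simple case, modulo the count of irreducible
characters.
-/

set_option autoImplicit false

namespace Cfsg.Agent.Lib.Helper21

open Cfsg MulAction
open scoped ComplexConjugate

section Fz10

variable {G Ω : Type*} [Group G] [MulAction G Ω]

set_option maxHeartbeats 1000000 in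
/-- Feit's theorem for simple Zassenhaus groups, given the count of irreducible characters -/
theorem feit_simple_of_count [Fintype G] [Fintype Ω] (hZ : IsZassenhausGroup G Ω) {a b : Ω}
    (hab : a ≠ b) [IsSimpleGroup G] (h e : ℕ) (hh : Fintype.card Ω = h + 1)
    (he : Nat.card ↥(stabilizer G a ⊓ stabilizer G b : Subgroup G) = e) (hodd : Odd e)
    (H : Subgroup G) (hHa : H ≤ stabilizer G a) (hHcard : Nat.card H + 1 = Fintype.card Ω)
    (hHfix : ∀ u ∈ H, u ≠ 1 → ∀ c : Ω, u • c = c → c = a)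
    (hcount : 2 * e < h - 1 →
      Nat.card ↥{ψ : ↥(stabilizer G a) → ℂ | IsIrrCharacter ↥(stabilizer G a) ψ ∧
        ∃ k : ↥(stabilizer G a), (k : G) ∈ H ∧ ψ k ≠ ψ 1} + e + 1 ≤ Nat.card (IrrCharacter G)) :
    h - 1 ≤ 2 * e ∨ (IsPGroup 2 H ∧ (∃ u v : H, u * v ≠ v * u) ∧
      (commutator H).index ≤ 4 * e ^ 2 + 1) := by
  classical
  by_cases hlt : 2 * e < h - 1
  swap
  · left
    omega
  right
  have F : FSetup H (stabilizer G a) h e := zass_fsetup hZ hab h e hh he hlt H hHa hHcard hHfix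
  have hnil : Group.IsNilpotent H := zass_H_nilpotent hZ hab H hHa hHcard hHfix
  have hodd' : Odd (Nat.card ↥(stabilizer G a ⊓ stabilizer G b : Subgroup G)) := by
    rw [he]; exact hodd
  have hpc := zass_perm_char hZ hab H hHa hHfix
  -- characters outside `relS` are trivial on `H`
  have htriv : ∀ ξ : ↥(stabilizer G a) → ℂ, ξ ∉ relS H (stabilizer G a) →
      IsIrrCharacter ↥(stabilizer G a) ξ →
      ∀ k : ↥(stabilizer G a), (k : G) ∈ H → ξ k = ξ 1 := by
    intro ξ hξ hirr k hk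
    by_contra hne
    exact hξ ⟨hirr, k, hk, hne⟩
  refine F.main hnil (hcount hlt) ?_ ?_ hpc.1 hpc.2 ?_
  · intro ξ hξ hξr
    exact Helper23.feit_lin hZ hab H hHa hHcard hHfix ξ hξ (htriv ξ hξr hξ)
  · intro μ hμ hμ1 hμr hμne
    refine zass_ind_irr hZ hab hodd' H hHa hHcard hHfix μ ⟨Helper35.isChar_of_irr hμ, hμ1⟩ ?_ hμne
    intro u hu
    rw [htriv μ hμr hμ u hu, hμ1]
  · intro Λ hΛ hΛ1 d hd
    exact Helper23.feit_deg_bound hZ hab h e hh he hodd H hHa hHcard hHfix Λ hΛ hΛ1 d hd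

end Fz10

end Cfsg.Agent.Lib.Helper21
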