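import Mathlib
import Cfsg.Agent.Lib.Helper21.Zass
import Cfsg.Agent.S0339
import Cfsg.Agent.S0878

/-!
Feit's theorem on Zassenhaus groups: reduction to simple groups.
-/

set_option autoImplicit false

namespace Cfsg.Agent.Lib.Helper21

open Cfsg MulAction

section Fz11

/-- the statement of Feit's inequality for the group `G` acting on `Ω` -/
def FeitStmt (G Ω : Type*) [Group G] [MulAction G Ω] [Fintype Ω] : Prop :=
  ∀ (_ : IsZassenhausGroup G Ω) (a b : Ω) (_ : a ≠ b) (h e : ℕ)
    (_ : Fintype.card Ω = h + 1)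
    (_ : Nat.card ↥(stabilizer G a ⊓ stabilizer G b : Subgroup G) = e) (_ : Odd e)
    (H : Subgroup G) (_ : H ≤ stabilizer G a) (_ : Nat.card H + 1 = Fintype.card Ω)
    (_ : ∀ u ∈ H, u ≠ 1 → ∀ c : Ω, u • c = c → c = a),
    h - 1 ≤ 2 * e ∨ (IsPGroup 2 H ∧ (∃ u v : H, u * v ≠ v * u) ∧
      (commutator H).index ≤ 4 * e ^ 2 + 1)

/-- the Frobenius kernel of a point stabiliser lies in every nontrivial normal subgroup -/
theorem zass_kernel_le_normal {G Ω : Type*} [Group G] [Finite G] [MulAction G Ω] [Fintype Ω]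
    (hZ : IsZassenhausGroup G Ω) {a b : Ω} (hab : a ≠ b)
    (H : Subgroup G) (hHa : H ≤ stabilizer G a) (hHcard : Nat.card H + 1 = Fintype.card Ω)
    (hHfix : ∀ u ∈ H, u ≠ 1 → ∀ c : Ω, u • c = c → c = a)
    (N : Subgroup G) [N.Normal] (hN : N ≠ ⊥) : H ≤ N := by
  classical
  have hZN : IsZassenhausGroup N Ω := Cfsg.Agent.S0339.result hZ N hN
  obtain ⟨x, hx1, hxa, hxb⟩ := zass_exists_ne_one hZN hab
  have hxa' : (x : G) • a = a := hxa
  have hxb' : (x : G) • b = b := hxb
  have hx1' : (x : G) ≠ 1 := fun h => hx1 (Subtype.ext h)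
  have hnorm := (Cfsg.Agent.S0878.result hZ a H hHa hHcard hHfix).2
  have hxn : (x : G) ∈ Subgroup.normalizer (H : Set G) := by
    rw [hnorm]; exact hxa'
  -- the commutator map
  have hmem : ∀ u : H, (u : G) * x * (u : G)⁻¹ * (x : G)⁻¹ ∈ H := by
    intro u
    have h1 : (x : G) * (u : G)⁻¹ * (x : G)⁻¹ ∈ H :=
      (Subgroup.mem_normalizer_iff.mp hxn _).mp (H.inv_mem u.2)
    have h2 := H.mul_mem u.2 h1
    have e1 : (u : G) * ((x : G) * (u : G)⁻¹ * (x : G)⁻¹) = (u : G) * x * (u : G)⁻¹ * (x : G)⁻¹ := by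
      group
    rwa [e1] at h2
  let φ : H → H := fun u => ⟨(u : G) * x * (u : G)⁻¹ * (x : G)⁻¹, hmem u⟩
  have hinj : Function.Injective φ := by
    intro u v huv
    have h1 : (u : G) * x * (u : G)⁻¹ * (x : G)⁻¹ = (v : G) * x * (v : G)⁻¹ * (x : G)⁻¹ :=
      congrArg Subtype.val huv
    have h2 : (u : G) * x * (u : G)⁻¹ = (v : G) * x * (v : G)⁻¹ := mul_right_cancel h1
    -- `w = v⁻¹ u` commutes with `x`
    have hw : ((v : G)⁻¹ * u) * x = x * ((v : G)⁻¹ * u) := by
      have : (v : G)⁻¹ * ((u : G) * x * (u : G)⁻¹) * u = (v : G)⁻¹ * ((v : G) * x * (v : G)⁻¹) * u := by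
        rw [h2]
      have e1 : (v : G)⁻¹ * ((u : G) * x * (u : G)⁻¹) * u = ((v : G)⁻¹ * u) * x := by group
      have e2 : (v : G)⁻¹ * ((v : G) * x * (v : G)⁻¹) * u = x * ((v : G)⁻¹ * u) := by group
      rw [e1, e2] at this
      exact this
    have hwH : (v : G)⁻¹ * u ∈ H := H.mul_mem (H.inv_mem v.2) u.2
    have hwa : ((v : G)⁻¹ * u) • a = a := hHa hwH
    have hfix : (x : G) • (((v : G)⁻¹ * u) • b) = ((v : G)⁻¹ * u) • b := by
      rw [← mul_smul, ← hw, mul_smul, hxb']
    have hw1 : (v : G)⁻¹ * u = 1 := by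
      by_contra hne
      -- `w • b` is fixed by `x`, hence is `a` or `b`
      by_cases h3 : ((v : G)⁻¹ * u) • b = b
      · exact hab (hHfix _ hwH hne b h3).symm
      · by_cases h4 : ((v : G)⁻¹ * u) • b = a
        · have : ((v : G)⁻¹ * u) • b = ((v : G)⁻¹ * u) • a := by rw [h4, hwa]
          exact hab (MulAction.injective _ this).symm
        · exact hx1' (zass_three hZ hab (Ne.symm h3) (Ne.symm h4) hxa' hxb' hfix)
    apply Subtype.ext
    have : (u : G) = v * ((v : G)⁻¹ * u) := by group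
    rw [this, hw1, mul_one]
  have hsurj : Function.Surjective φ := Finite.injective_iff_surjective.mp hinj
  intro v hv
  obtain ⟨u, hu⟩ := hsurj ⟨v, hv⟩
  have h1 : (u : G) * x * (u : G)⁻¹ * (x : G)⁻¹ = v := congrArg Subtype.val hu
  rw [← h1]
  exact N.mul_mem (‹N.Normal›.conj_mem _ x.2 _) (N.inv_mem x.2)

/-- transfer of the conclusion along `H.subgroupOf N ≃* H` -/
theorem feit_concl_transfer {A B : Type*} [Group A] [Group B] (φ : A ≃* B) {m m' : ℕ}
    (hm : m ≤ m')
    (hA : IsPGroup 2 A ∧ (∃ u v : A, u * v ≠ v * u) ∧ (commutator A).index ≤ 4 * m ^ 2 + 1) :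
    IsPGroup 2 B ∧ (∃ u v : B, u * v ≠ v * u) ∧ (commutator B).index ≤ 4 * m' ^ 2 + 1 := by
  obtain ⟨h1, ⟨u, v, huv⟩, h3⟩ := hA
  refine ⟨h1.of_equiv φ, ⟨φ u, φ v, ?_⟩, ?_⟩
  · intro hcon
    apply huv
    apply φ.injective
    rw [map_mul, map_mul, hcon]
  · have e1 : (commutator B).index = (commutator A).index := by
      rw [Subgroup.index_eq_card, Subgroup.index_eq_card]
      exact Nat.card_congr (MulEquiv.abelianizationCongr φ).symm.toEquiv
    rw [e1]
    have : 4 * m ^ 2 + 1 ≤ 4 * m' ^ 2 + 1 := by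
      have := Nat.pow_le_pow_left hm 2
      omega
    omega

/-- Feit's inequality for all finite Zassenhaus groups follows from the simple case -/
theorem feit_reduce.{u, v} {Ω : Type v} [Fintype Ω]
    (hS : ∀ (G : Type u) [Group G] [Finite G] [MulAction G Ω] [IsSimpleGroup G], FeitStmt G Ω) :
    ∀ (G : Type u) [Group G] [Finite G] [MulAction G Ω], FeitStmt G Ω := by
  classical
  have key : ∀ n : ℕ, ∀ (G : Type u) [Group G] [Finite G] [MulAction G Ω], Nat.card G = n →
      FeitStmt G Ω := by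
    intro n
    induction n using Nat.strong_induction_on with
    | _ n ih =>
      intro G _ _ _ hn
      by_cases hsimp : IsSimpleGroup G
      · exact hS G
      intro hZ a b hab h e hh he hodd H hHa hHcard hHfix
      -- a proper nontrivial normal subgroup
      have hex : ∃ N : Subgroup G, N.Normal ∧ N ≠ ⊥ ∧ N ≠ ⊤ := by
        by_contra hcon
        apply hsimp
        obtain ⟨g, hg, -⟩ := hZ.2.2.2.1
        haveI : Nontrivial G := ⟨⟨g, 1, hg⟩⟩
        refine ⟨fun N hN => ?_⟩
        by_contra h1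
        push Not at h1
        exact hcon ⟨N, hN, h1.1, h1.2⟩
      obtain ⟨N, hNn, hNbot, hNtop⟩ := hex
      haveI := hNn
      have hZN : IsZassenhausGroup N Ω := Cfsg.Agent.S0339.result hZ N hNbot
      have hHN : H ≤ N := zass_kernel_le_normal hZ hab H hHa hHcard hHfix N hNbot
      have hlt : Nat.card N < n := by
        rw [← hn]
        refine lt_of_le_of_ne (Subgroup.card_le_card_group N) ?_
        intro hc
        exact hNtop (Subgroup.card_eq_iff_eq_top N |>.mp hc)
      have hstab : ∀ (c : Ω) (x : N), x ∈ stabilizer N c ↔ (x : G) ∈ stabilizer G c := by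
        intro c x
        rw [mem_stabilizer_iff, mem_stabilizer_iff]
        rfl
      -- the order of the two-point stabiliser of `N` divides `e`
      have hdvd : Nat.card ↥(stabilizer N a ⊓ stabilizer N b : Subgroup N) ∣ e := by
        rw [← he]
        let f : ↥(stabilizer N a ⊓ stabilizer N b : Subgroup N) →*
            ↥(stabilizer G a ⊓ stabilizer G b : Subgroup G) :=
          { toFun := fun x => ⟨((x : N) : G), (hstab a x).mp x.2.1, (hstab b x).mp x.2.2⟩
            map_one' := rfl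
            map_mul' := fun _ _ => rfl }
        have hf : Function.Injective f := by
          intro x y hxy
          apply Subtype.ext
          apply Subtype.ext
          exact congrArg (fun z : ↥(stabilizer G a ⊓ stabilizer G b : Subgroup G) => (z : G)) hxy
        exact Subgroup.card_dvd_of_injective f hf
      have hepos : 0 < e := hodd.pos
      have hle : Nat.card ↥(stabilizer N a ⊓ stabilizer N b : Subgroup N) ≤ e :=
        Nat.le_of_dvd hepos hdvd
      have hodd' : Odd (Nat.card ↥(stabilizer N a ⊓ stabilizer N b : Subgroup N)) :=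
        Odd.of_dvd_nat hodd hdvd
      let φ : ↥(H.subgroupOf N) ≃* ↥H := Subgroup.subgroupOfEquivOfLe hHN
      have hHa' : H.subgroupOf N ≤ stabilizer N a := by
        intro x hx
        rw [hstab]
        exact hHa (Subgroup.mem_subgroupOf.mp hx)
      have hHcard' : Nat.card ↥(H.subgroupOf N) + 1 = Fintype.card Ω := by
        rw [Nat.card_congr φ.toEquiv]
        exact hHcard
      have hHfix' : ∀ u ∈ H.subgroupOf N, u ≠ 1 → ∀ c : Ω, u • c = c → c = a := by
        intro u hu hu1 c hc
        exact hHfix (u : G) (Subgroup.mem_subgroupOf.mp hu) (fun h => hu1 (Subtype.ext h)) c hc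
      rcases ih (Nat.card N) hlt N rfl hZN a b hab h _ hh rfl hodd' (H.subgroupOf N) hHa' hHcard'
        hHfix' with h1 | h1
      · left
        omega
      · right
        exact feit_concl_transfer φ hle h1
  intro G _ _ _
  exact key (Nat.card G) G rfl

end Fz11

end Cfsg.Agent.Lib.Helper21
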