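import Mathlib
import Cfsg.Agent.Lib.Helper21.Fz10
import Cfsg.Agent.Lib.Helper21.Fz11

/-!
Feit's theorem on Zassenhaus groups: assembly modulo the count of irreducible characters
in the simple case.
-/

set_option autoImplicit false

namespace Cfsg.Agent.Lib.Helper21

open Cfsg MulAction

section Fz12

/-- Feit's theorem, given the count of irreducible characters for simple groups -/
theorem feit_of_count.{u, v} {Ω : Type v} [Fintype Ω]
    (hcount : ∀ (G : Type u) [Group G] [Fintype G] [MulAction G Ω] [IsSimpleGroup G]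
      (_ : IsZassenhausGroup G Ω) (a b : Ω) (_ : a ≠ b) (h e : ℕ)
      (_ : Fintype.card Ω = h + 1)
      (_ : Nat.card ↥(stabilizer G a ⊓ stabilizer G b : Subgroup G) = e) (_ : Odd e)
      (_ : 2 * e < h - 1)
      (H : Subgroup G) (_ : H ≤ stabilizer G a) (_ : Nat.card H + 1 = Fintype.card Ω)
      (_ : ∀ u ∈ H, u ≠ 1 → ∀ c : Ω, u • c = c → c = a),
      Nat.card ↥{ψ : ↥(stabilizer G a) → ℂ | IsIrrCharacter ↥(stabilizer G a) ψ ∧
        ∃ k : ↥(stabilizer G a), (k : G) ∈ H ∧ ψ k ≠ ψ 1} + e + 1 ≤ Nat.card (IrrCharacter G))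
    (G : Type u) [Group G] [Finite G] [MulAction G Ω] : FeitStmt G Ω := by
  refine feit_reduce ?_ G
  intro G _ _ _ _ hZ a b hab h e hh he hodd H hHa hHcard hHfix
  letI := Fintype.ofFinite G
  exact feit_simple_of_count hZ hab h e hh he hodd H hHa hHcard hHfix
    (fun hlt => hcount G hZ a b hab h e hh he hodd hlt H hHa hHcard hHfix)

end Fz12

end Cfsg.Agent.Lib.Helper21
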