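import Mathlib
import Cfsg.Agent.Lib.Helper10.BR0
import Cfsg.Prelude.Def_Perm
import Cfsg.Agent.S0732

/-!
# S0999 (Brauer–Reynolds), piece BR-G6: the case `n_p = p + 1`
-/

set_option autoImplicit false

namespace Cfsg.Agent.Lib.Helper10.BR

open Cfsg

/-- BR-G6 -/
theorem case_one_of {G : Type*} [Group G] [Finite G] [IsSimpleGroup G] (hG : ¬ IsCyclic G)
    (p : ℕ) [Fact p.Prime] (hp5 : 5 ≤ p) (hS : Nat.card (Sylow p G) = 1 + 1 * p) (d : ℕ)
    (hcard : Nat.card G = (1 + 1 * p) * (p * d)) (hd : d < p)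
    (hpgl : (G ≃* Matrix.ProjGenLinGroup (Fin 2) (ZMod p)) → False)
    (hsemi : ∀ (q : ℕ) (Γ : Subgroup (Equiv.Perm (GaloisField 2 q))), q.Prime →
      Γ ≤ Cfsg.semiaffineGroup (GaloisField 2 q) → (G ≃* Γ) → False) :
    Nonempty (G ≃* Matrix.ProjectiveSpecialLinearGroup (Fin 2) (ZMod p)) := by
  classical
  have hp : p.Prime := Fact.out
  haveI : Fintype (Sylow p G) := Fintype.ofFinite _
  have hα : Fintype.card (Sylow p G) = p + 1 := by
    rw [← Nat.card_eq_fintype_card, hS]; ring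
  -- the conjugation action on the Sylow `p`-subgroups
  let φ : G →* Equiv.Perm (Sylow p G) := MulAction.toPermHom G (Sylow p G)
  have hker : φ.ker = ⊥ := by
    rcases (φ.normal_ker).eq_bot_or_eq_top with h | h
    · exact h
    · exfalso
      obtain ⟨P, Q, hPQ⟩ : ∃ P Q : Sylow p G, P ≠ Q :=
        Fintype.exists_pair_of_one_lt_card (by omega)
      obtain ⟨g, hg⟩ := MulAction.exists_smul_eq G P Q
      have hgk : g ∈ φ.ker := by rw [h]; exact Subgroup.mem_top g
      have h1 : φ g = 1 := hgk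
      have h2 : φ g P = g • P := rfl
      rw [h1] at h2
      exact hPQ (by rw [← hg, ← h2]; rfl)
  have hinj : Function.Injective φ := (MonoidHom.ker_eq_bot_iff φ).mp hker
  let f : G ≃* φ.range := MonoidHom.ofInjective hinj
  haveI : MulAction.IsPretransitive φ.range (Sylow p G) := by
    constructor
    intro a b
    obtain ⟨g, hg⟩ := MulAction.exists_smul_eq G a b
    exact ⟨⟨φ g, g, rfl⟩, hg⟩
  have hG' : Nat.card φ.range = (p + 1) * p * d := by
    rw [← Nat.card_congr f.toEquiv, hcard]; ring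
  rcases Cfsg.Agent.S0732.result hp hα φ.range hG' hd with ⟨-, ⟨e⟩⟩ | ⟨-, ⟨e⟩⟩ | ⟨q, hq, -, -, e, he⟩
  · exact (hpgl (f.trans e)).elim
  · exact ⟨f.trans e⟩
  · exfalso
    let Γ : Subgroup (Equiv.Perm (GaloisField 2 q)) :=
      φ.range.map (e.permCongrHom : Equiv.Perm (Sylow p G) →* Equiv.Perm (GaloisField 2 q))
    have hΓ : Γ ≤ Cfsg.semiaffineGroup (GaloisField 2 q) := by
      rintro _ ⟨g, hg, rfl⟩
      exact he ⟨g, hg⟩
    have f2 : φ.range ≃* Γ := e.permCongrHom.subgroupMap φ.range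
    exact hsemi q Γ hq hΓ (f.trans f2)

end Cfsg.Agent.Lib.Helper10.BR
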