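import Mathlib
import Cfsg.Prelude.Def_Blocks
import Cfsg.Agent.Lib.Helper21.Cent
import Cfsg.Agent.Lib.Helper80.EV

/-!
# Blocks do not depend on the maximal ideal: Galois conjugation of central characters
-/

set_option autoImplicit false

namespace Cfsg.Agent.Lib.Helper21

open Cfsg Cfsg.Agent.Lib.Helper4 NumberField
open scoped Pointwise

section Galois

variable {G : Type*} [Group G] [Fintype G]

theorem irr_pow_eq (χ : IrrCharacter G) (h : G) (ζ : ℂ)
    (hζ : IsPrimitiveRoot ζ (Nat.card G)) :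
    ∃ m : ℕ → ℕ, ∀ k : ℕ, (χ : G → ℂ) (h ^ k) =
      ∑ j ∈ Finset.range (Nat.card G), (m j : ℂ) * (ζ ^ j) ^ k := by
  obtain ⟨n, ρ, hρ, hχ⟩ := χ.2
  obtain ⟨m, hm⟩ := Cfsg.Agent.Lib.Helper80.character_pow_eq ρ h (Nat.card G) Nat.card_pos
    pow_card_eq_one' ζ hζ
  exact ⟨m, fun k => by rw [← hχ]; exact hm k⟩

theorem centralizer_pow_eq (h : G) (u : ℕ) (hu : (Nat.card G).Coprime u) :
    Subgroup.centralizer ({h ^ u} : Set G) = Subgroup.centralizer ({h} : Set G) := by
  have hinv : (h ^ u) ^ ((Nat.card G).gcdB u) = h := (powCoprime hu).left_inv h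
  ext x
  simp only [Subgroup.mem_centralizer_iff, Set.mem_singleton_iff, forall_eq]
  constructor
  · intro hx
    have h1 : Commute (h ^ u) x := hx
    have h2 := h1.zpow_left ((Nat.card G).gcdB u)
    rw [hinv] at h2
    exact h2
  · intro hx
    have h1 : Commute h x := hx
    exact h1.pow_left u

/-- The differences of central characters live in the ring of integers of the cyclotomic
field, and Galois conjugation acts on them through powers of the group element. -/
theorem exists_galois_data (χ ψ : IrrCharacter G) (n : ℕ) [NeZero n] (hn : n = Nat.card G)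
    (φ : CyclotomicField n ℚ →+* ℂ) :
    ∃ w : G → 𝓞 (CyclotomicField n ℚ),
      (∀ h, φ (w h : CyclotomicField n ℚ) =
        centralChar (χ : G → ℂ) h - centralChar (ψ : G → ℂ) h) ∧
      ∀ σ : CyclotomicField n ℚ ≃ₐ[ℚ] CyclotomicField n ℚ, ∃ u : ℕ, (Nat.card G).Coprime u ∧
        ∀ h, σ • w h = w (h ^ u) := by
  classical
  haveI : IsCyclotomicExtension ({n} : Set ℕ) ℚ (CyclotomicField n ℚ) :=
    CyclotomicField.isCyclotomicExtension n ℚ
  have hz : IsPrimitiveRoot (IsCyclotomicExtension.zeta n ℚ (CyclotomicField n ℚ)) n :=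
    IsCyclotomicExtension.zeta_spec n ℚ (CyclotomicField n ℚ)
  obtain ⟨z, hzz⟩ : ∃ z : CyclotomicField n ℚ,
      z = IsCyclotomicExtension.zeta n ℚ (CyclotomicField n ℚ) := ⟨_, rfl⟩
  rw [← hzz] at hz
  have hφinj : Function.Injective φ := φ.injective
  have hζ : IsPrimitiveRoot (φ z) (Nat.card G) := hn ▸ hz.map_of_injective hφinj
  choose mχ hmχ using fun h => irr_pow_eq χ h (φ z) hζ
  choose mψ hmψ using fun h => irr_pow_eq ψ h (φ z) hζ
  obtain ⟨dχ, hdχpos, hdχ⟩ := irr_one_nat χ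
  obtain ⟨dψ, hdψpos, hdψ⟩ := irr_one_nat ψ
  let v : G → CyclotomicField n ℚ := fun h =>
    ((Subgroup.centralizer ({h} : Set G)).index : CyclotomicField n ℚ) /
        (dχ : CyclotomicField n ℚ) *
      ∑ j ∈ Finset.range (Nat.card G), (mχ h j : CyclotomicField n ℚ) * z ^ j -
    ((Subgroup.centralizer ({h} : Set G)).index : CyclotomicField n ℚ) /
        (dψ : CyclotomicField n ℚ) *
      ∑ j ∈ Finset.range (Nat.card G), (mψ h j : CyclotomicField n ℚ) * z ^ j
  have hφv : ∀ h, φ (v h) = centralChar (χ : G → ℂ) h - centralChar (ψ : G → ℂ) h := by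
    intro h
    have h1 := hmχ h 1
    have h2 := hmψ h 1
    simp only [pow_one] at h1 h2
    simp only [v, map_sub, map_mul, map_div₀, map_natCast, map_sum, map_pow]
    rw [← h1, ← h2]
    unfold centralChar
    rw [hdχ, hdψ]
    ring
  have hint : ∀ h, IsIntegral ℤ (v h) := by
    intro h
    have h1 : IsIntegral ℤ (φ (v h)) := by
      rw [hφv]
      exact (centralChar_isIntegral χ h).sub (centralChar_isIntegral ψ h)
    exact (isIntegral_algHom_iff (φ.toIntAlgHom) hφinj).mp h1
  refine ⟨fun h => ⟨v h, hint h⟩, fun h => hφv h, fun σ => ?_⟩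
  have hσz : IsPrimitiveRoot (σ z) n := hz.map_of_injective σ.injective
  obtain ⟨u, -, hucop, hu⟩ := (hz.isPrimitiveRoot_iff).mp hσz
  have hucop' : (Nat.card G).Coprime u := by rw [← hn]; exact hucop.symm
  refine ⟨u, hucop', fun h => ?_⟩
  apply Subtype.ext
  show σ (v h) = v (h ^ u)
  apply hφinj
  rw [hφv (h ^ u)]
  have h1 := hmχ h u
  have h2 := hmψ h u
  have h3 : σ (v h) =
      ((Subgroup.centralizer ({h} : Set G)).index : CyclotomicField n ℚ) /
          (dχ : CyclotomicField n ℚ) *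
        ∑ j ∈ Finset.range (Nat.card G), (mχ h j : CyclotomicField n ℚ) * (z ^ u) ^ j -
      ((Subgroup.centralizer ({h} : Set G)).index : CyclotomicField n ℚ) /
          (dψ : CyclotomicField n ℚ) *
        ∑ j ∈ Finset.range (Nat.card G), (mψ h j : CyclotomicField n ℚ) * (z ^ u) ^ j := by
    simp only [v, map_sub, map_mul, map_div₀, map_natCast, map_sum, map_pow, hu]
  rw [h3]
  simp only [map_sub, map_mul, map_div₀, map_natCast, map_sum, map_pow]
  have h4 : ∀ j, (φ z ^ u) ^ j = (φ z ^ j) ^ u := fun j => by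
    rw [← pow_mul, ← pow_mul, mul_comm]
  simp only [h4]
  rw [← h1, ← h2]
  unfold centralChar
  rw [centralizer_pow_eq h u hucop', hdχ, hdψ]
  ring

/-- Blocks do not depend on the choice of the maximal ideal over `p`. -/
theorem sameBlock_transfer {p : ℕ} {M M' : Ideal AlgInt} (hM : IsPModular p M)
    (hM' : IsPModular p M') (χ ψ : IrrCharacter G)
    (hsb : SameBlock M (χ : G → ℂ) (ψ : G → ℂ)) (g : G) :
    ∃ r : AlgInt, r ∈ M' ∧
      (r : ℂ) = centralChar (χ : G → ℂ) g - centralChar (ψ : G → ℂ) g := by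
  classical
  obtain ⟨n, hn⟩ : ∃ n, n = Nat.card G := ⟨_, rfl⟩
  haveI : NeZero n := ⟨by rw [hn]; exact Nat.card_pos.ne'⟩
  haveI : IsCyclotomicExtension ({n} : Set ℕ) ℚ (CyclotomicField n ℚ) :=
    CyclotomicField.isCyclotomicExtension n ℚ
  haveI : IsGalois ℚ (CyclotomicField n ℚ) := IsCyclotomicExtension.isGalois ({n} : Set ℕ) ℚ _
  let φ : CyclotomicField n ℚ →+* ℂ :=
    (IsAlgClosed.lift : CyclotomicField n ℚ →ₐ[ℚ] ℂ).toRingHom
  obtain ⟨w, hw1, hw2⟩ := exists_galois_data χ ψ n hn φ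
  let ι : 𝓞 (CyclotomicField n ℚ) →+* AlgInt :=
    { toFun := fun x => ⟨φ (x : CyclotomicField n ℚ), map_isIntegral_int φ x.2⟩
      map_one' := by apply Subtype.ext; simp
      map_mul' := fun x y => by apply Subtype.ext; simp
      map_zero' := by apply Subtype.ext; simp
      map_add' := fun x y => by apply Subtype.ext; simp }
  have hι : ∀ x, ((ι x : AlgInt) : ℂ) = φ (x : CyclotomicField n ℚ) := fun x => rfl
  haveI := pmod_isPrime hM
  haveI := pmod_isPrime hM'
  have hover : ∀ (N : Ideal AlgInt), IsPModular p N →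
      (N.comap ι).LiesOver (Ideal.span {(p : ℤ)}) := by
    intro N hN
    constructor
    ext k
    rw [Ideal.mem_span_singleton, Ideal.under_def, Ideal.mem_comap, Ideal.mem_comap,
      ← pmod_intCast_mem_iff hN]
    have : ι (algebraMap ℤ (𝓞 (CyclotomicField n ℚ)) k) = (k : AlgInt) := by simp
    rw [this]
  haveI := hover M hM
  haveI := hover M' hM'
  obtain ⟨σ, hσ⟩ := Ideal.exists_smul_eq_of_isGaloisGroup (Ideal.span {(p : ℤ)})
    (M.comap ι) (M'.comap ι) (CyclotomicField n ℚ ≃ₐ[ℚ] CyclotomicField n ℚ)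
  obtain ⟨u, hu, hwu⟩ := hw2 σ
  have hmem : ∀ h, w h ∈ M.comap ι := by
    intro h
    rw [Ideal.mem_comap, ← locIdeal_algInt_iff hM, hι, hw1]
    exact hsb h
  have hmem' : ∀ h, w (h ^ u) ∈ M'.comap ι := by
    intro h
    rw [← hwu h, ← hσ]
    exact Ideal.smul_mem_pointwise_smul σ (w h) _ (hmem h)
  have hg : ((powCoprime hu).symm g) ^ u = g := (powCoprime hu).apply_symm_apply g
  have h1 := hmem' ((powCoprime hu).symm g)
  rw [hg] at h1
  exact ⟨ι (w g), h1, by rw [hι, hw1]⟩

end Galois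

end Cfsg.Agent.Lib.Helper21
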