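import Mathlib
import Cfsg.Agent.S0144
import Cfsg.Agent.S0732
import Cfsg.Agent.S0494

/-!
# Piece G4-D6 for S2553 (helper70's job board)
-/

namespace Cfsg.Agent.Lib.Helper21.G4

theorem deg6
    (hALT : ∀ T : Subgroup (Equiv.Perm (Fin 6)), Nat.factorial 6 < 6 * Nat.card T →
      alternatingGroup (Fin 6) ≤ T)
    (hISO : ∀ T : Subgroup (Equiv.Perm (Fin 6)), alternatingGroup (Fin 6) ≤ T →
      Nonempty (T ≃* alternatingGroup (Fin 6)) ∨ Nonempty (T ≃* Equiv.Perm (Fin 6)))
    (hL : ∀ (T : Subgroup (Equiv.Perm (Fin 6))), Nat.card T = 60 → ¬ Group.IsSolvable T →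
      IsSimpleGroup T)
    (hS : ∀ (T : Subgroup (Equiv.Perm (Fin 6))), MulAction.IsPretransitive T (Fin 6) →
      Nat.card T = 120 → ¬ Group.IsSolvable T → Nonempty (T ≃* Equiv.Perm (Fin 5)))
    (T : Subgroup (Equiv.Perm (Fin 6))) [MulAction.IsPretransitive T (Fin 6)]
    (hT : ¬ Group.IsSolvable T) :
    Nonempty (T ≃* alternatingGroup (Fin 5)) ∨ Nonempty (T ≃* Equiv.Perm (Fin 5)) ∨
      Nonempty (T ≃* alternatingGroup (Fin 6)) ∨ Nonempty (T ≃* Equiv.Perm (Fin 6)) := by
  have hfac : Nat.factorial 6 = 720 := by decide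
  have hdvd : Nat.card T ∣ 720 := by
    have := Subgroup.card_subgroup_dvd_card T
    rwa [Nat.card_perm, Nat.card_fin, hfac] at this
  have hpos : 0 < Nat.card T := Nat.card_pos
  -- 5 ∣ |T|
  have h5 : 5 ∣ Nat.card T := by
    by_contra h5
    have hcop : Nat.Coprime (Nat.card T) 5 :=
      (Nat.Coprime.symm ((Nat.Prime.coprime_iff_not_dvd Nat.prime_five).mpr h5))
    have h144 : Nat.card T ∣ 16 * 9 := by
      have : Nat.card T ∣ 144 * 5 := by norm_num; exact hdvd
      have := hcop.dvd_of_dvd_mul_right this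
      norm_num; exact this
    obtain ⟨d1, d2, hd1, hd2, hd⟩ := (Nat.dvd_mul).mp h144
    have e16 : (16 : ℕ) = 2 ^ 4 := by norm_num
    have e9 : (9 : ℕ) = 3 ^ 2 := by norm_num
    rw [e16] at hd1
    rw [e9] at hd2
    obtain ⟨a, -, rfl⟩ := (Nat.dvd_prime_pow Nat.prime_two).mp hd1
    obtain ⟨b, -, rfl⟩ := (Nat.dvd_prime_pow Nat.prime_three).mp hd2
    exact hT (Cfsg.Agent.S0144.result 2 3 a b Nat.prime_two Nat.prime_three hd.symm)
  -- 6 ∣ |T|
  have h6 : 6 ∣ Nat.card T := by
    have h1 := MulAction.index_stabilizer_of_transitive T (0 : Fin 6)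
    rw [Nat.card_eq_fintype_card, Fintype.card_fin] at h1
    have h2 := Subgroup.index_dvd_card (MulAction.stabilizer T (0 : Fin 6))
    rwa [h1] at h2
  have h30 : 30 ∣ Nat.card T := by
    have : (5 * 6 : ℕ) ∣ Nat.card T := Nat.Coprime.mul_dvd_of_dvd_of_dvd (by norm_num) h5 h6
    simpa using this
  obtain ⟨m, hm⟩ := h30
  have hm24 : m ∣ 24 := by
    rw [hm] at hdvd
    have : 30 * m ∣ 30 * 24 := by norm_num; exact hdvd
    exact Nat.dvd_of_mul_dvd_mul_left (by norm_num) this
  have hmpos : 0 < m := Nat.pos_of_ne_zero (by rintro rfl; simp at hm; omega)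
  rcases Nat.lt_or_ge m 5 with hlt | hge
  · have hcard : Nat.card T = (5 + 1) * 5 * m := by rw [hm]
    rcases Cfsg.Agent.S0732.result (α := Fin 6) (p := 5) (d := m) Nat.prime_five (by simp) T
      hcard hlt with ⟨h4, -⟩ | ⟨h2, -⟩ | ⟨q, hq, h62, -⟩
    · -- m = 4
      have : Nat.card T = 120 := by rw [hm, h4]
      exact Or.inr (Or.inl (hS T inferInstance this hT))
    · -- m = 2
      have hm2 : m = 2 := by omega
      have h60 : Nat.card T = 60 := by rw [hm, hm2]
      haveI := hL T h60 hT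
      exact Or.inl (Cfsg.Agent.S0494.result h60)
    · exfalso
      rcases Nat.lt_or_ge q 3 with hq3 | hq3
      · interval_cases q <;> omega
      · have : 2 ^ 3 ≤ 2 ^ q := Nat.pow_le_pow_right (by norm_num) hq3
        omega
  · have hm6 : 6 ≤ m := by
      rcases Nat.lt_or_ge m 6 with h | h
      · have : m = 5 := by omega
        subst this
        omega
      · exact h
    have hbig : Nat.factorial 6 < 6 * Nat.card T := by
      rw [hfac, hm]; omega
    rcases hISO T (hALT T hbig) with h | h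
    · exact Or.inr (Or.inr (Or.inl h))
    · exact Or.inr (Or.inr (Or.inr h))

end Cfsg.Agent.Lib.Helper21.G4
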