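import Cfsg.Agent.Lib.Helper70.HeODefs

/-! Piece REPM for S2075 (helper70): multiplication of the elements `val i L` of `C(f)` is
composition of their tables. -/

set_option autoImplicit false

namespace Cfsg.Agent.Lib.Helper21.HeOREPM

open Cfsg.Agent.Lib.Helper39.HeOrd Cfsg.Agent.Lib.Helper70.HeC Cfsg.Agent.Lib.Helper70.HeO
open Cfsg.Agent.Lib.Helper70.HeM (Wd Wd_nil Wd_append tabF)

theorem fin_xor_val (a b : Fin 64) : (a ^^^ b).val = a.val ^^^ b.val := by
  rw [Fin.xor_val]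
  exact Nat.mod_eq_of_lt (Nat.xor_lt_two_pow (n := 6) a.isLt b.isLt)

theorem ofNat_val (a : Fin 64) : Fin.ofNat 64 a.val = a := by
  apply Fin.ext
  show a.val % 64 = a.val
  exact Nat.mod_eq_of_lt a.isLt

theorem ofNat_val_lt (i : ℕ) (hi : i < 16) : (Fin.ofNat 64 i).val = i := by
  show i % 64 = i
  exact Nat.mod_eq_of_lt (by omega)

theorem hWd_append : ∀ L L' : List ℕ, hWd (L ++ L') = hWd L ++ hWd L'
  | [], L' => rfl
  | c :: L, L' => by
    show hGW (hIdx c).val ++ hWd (L ++ L') = hGW (hIdx c).val ++ hWd L ++ hWd L'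
    rw [hWd_append L L', List.append_assoc]

theorem tabC_append : ∀ (L L' : List ℕ) (b : Fin 64), tabC (L ++ L') b = tabC L (tabC L' b)
  | [], L', b => rfl
  | c :: L, L', b => by
    show tabF (hT (hIdx c).val) (tabC (L ++ L') b) = tabF (hT (hIdx c).val) (tabC L (tabC L' b))
    rw [tabC_append L L' b]

theorem tabC_xor : ∀ (L : List ℕ) (a b : Fin 64), tabC L (a ^^^ b) = tabC L a ^^^ tabC L b
  | [], a, b => rfl
  | c :: L, a, b => by
    show tabF (hT (hIdx c).val) (tabC L (a ^^^ b)) =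
      tabF (hT (hIdx c).val) (tabC L a) ^^^ tabF (hT (hIdx c).val) (tabC L b)
    rw [tabC_xor L a b, lin_h]

theorem tabOf_eq (i : ℕ) (L : List ℕ) :
    tabOf i L = (List.range 16).map (fun b => (tabC L (Fin.ofNat 64 b)).val ^^^ i) := by
  unfold tabOf tab0
  rw [List.map_map]
  rfl

theorem tabOf_getD (i : ℕ) (L : List ℕ) (c : ℕ) (hc : c < 16) :
    (tabOf i L).getD c 0 = (tabC L (Fin.ofNat 64 c)).val ^^^ i := by
  rw [tabOf_eq, List.getD_eq_getElem?_getD, List.getElem?_map, List.getElem?_range hc]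
  rfl

theorem rp_one : Rp 1 idT := by
  refine ⟨0, by norm_num, [], ?_, ?_⟩
  · show (1 : G) = ew (Fin.ofNat 64 0) * Wd []
    rw [Wd_nil, mul_one]
    exact ew_zero.symm
  · decide

theorem val_mul (i i' : ℕ) (L L' : List ℕ) :
    val i L * val i' L' =
      val ((Fin.ofNat 64 i ^^^ tabC L (Fin.ofNat 64 i')).val) (L ++ L') := by
  unfold val
  rw [ofNat_val, hWd_append, Wd_append, ← hmulw, ← act_word L (Fin.ofNat 64 i')]
  group

theorem tab_mul (i i' : ℕ) (hi : i < 16) (hi' : i' < 16) (L L' : List ℕ) :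
    tcomp (tabOf i L) (tabOf i' L') =
      tabOf ((Fin.ofNat 64 i ^^^ tabC L (Fin.ofNat 64 i')).val) (L ++ L') := by
  unfold tcomp
  rw [tabOf_eq i' L', tabOf_eq _ (L ++ L'), List.map_map]
  apply List.map_congr_left
  intro b hb
  have hb16 : b < 16 := List.mem_range.mp hb
  show (tabOf i L).getD ((tabC L' (Fin.ofNat 64 b)).val ^^^ i') 0 =
    (tabC (L ++ L') (Fin.ofNat 64 b)).val ^^^ (Fin.ofNat 64 i ^^^ tabC L (Fin.ofNat 64 i')).val
  have hB : (tabC L' (Fin.ofNat 64 b)).val < 16 :=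
    tabC_lt L' _ (by rw [ofNat_val_lt b hb16]; exact hb16)
  have hc : (tabC L' (Fin.ofNat 64 b)).val ^^^ i' < 16 := Nat.xor_lt_two_pow (n := 4) hB hi'
  have e1 : Fin.ofNat 64 ((tabC L' (Fin.ofNat 64 b)).val ^^^ i') =
      tabC L' (Fin.ofNat 64 b) ^^^ Fin.ofNat 64 i' := by
    apply Fin.ext
    rw [fin_xor_val, ofNat_val_lt _ hc, ofNat_val_lt i' hi']
  rw [tabOf_getD i L _ hc, e1, tabC_xor, tabC_append, fin_xor_val, fin_xor_val,
    ofNat_val_lt i hi, Nat.xor_assoc, Nat.xor_comm i]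

theorem rp_mul : ∀ (g h : G) (N M : List ℕ), Rp g N → Rp h M → Rp (g * h) (tcomp N M) := by
  rintro g h N M ⟨i, hi, L, rfl, rfl⟩ ⟨i', hi', L', rfl, rfl⟩
  refine ⟨(Fin.ofNat 64 i ^^^ tabC L (Fin.ofNat 64 i')).val, ?_, L ++ L', val_mul i i' L L',
    tab_mul i i' hi hi' L L'⟩
  exact xor_lt16 _ _ (by rw [ofNat_val_lt i hi]; exact hi)
    (tabC_lt L _ (by rw [ofNat_val_lt i' hi']; exact hi'))

end Cfsg.Agent.Lib.Helper21.HeOREPM
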