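import Mathlib

/-!
# S2075 (`|Out(He)| = 2`, architect helper70): piece SYL7 (proof by helper21)

Normalising an automorphism fixing `z` by inner automorphisms from `C(z)`.
-/

set_option autoImplicit false

namespace Cfsg.Agent.Lib.Helper21.HeOSYL7

open scoped Pointwise

/-- conjugation by `b` doubles the exponents of `a` -/
theorem syl7_conj_pow {G : Type} [Group G] (a b : G) (hab : b * a * b⁻¹ = a ^ 2) (n : ℕ) :
    b * a ^ n * b⁻¹ = a ^ (2 * n) := by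
  rw [← conj_pow, hab, ← pow_mul]

/-- moving `b` to the left through a power of `a` -/
theorem syl7_swap {G : Type} [Group G] (a b : G) (ha : a ^ 7 = 1) (hab : b * a * b⁻¹ = a ^ 2)
    (n : ℕ) : a ^ n * b = b * a ^ (4 * n) := by
  have h1 := syl7_conj_pow a b hab (4 * n)
  have h2 : a ^ (2 * (4 * n)) = a ^ n := by
    have e : 2 * (4 * n) = 7 * n + n := by ring
    rw [e, pow_add, pow_mul, ha, one_pow, one_mul]
  rw [h2] at h1
  calc a ^ n * b = (b * a ^ (4 * n) * b⁻¹) * b := by rw [h1]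
    _ = b * a ^ (4 * n) := by group

/-- the cube of `b a^j` -/
theorem syl7_cube {G : Type} [Group G] (a b : G) (ha : a ^ 7 = 1) (hb : b ^ 3 = 1)
    (hab : b * a * b⁻¹ = a ^ 2) (j : ℕ) : (b * a ^ j) ^ 3 = 1 := by
  have h1 := syl7_swap a b ha hab j
  have h2 := syl7_swap a b ha hab (5 * j)
  calc (b * a ^ j) ^ 3 = b * (a ^ j * b) * a ^ j * b * a ^ j := by
        rw [pow_succ, pow_two]
        simp only [mul_assoc]
    _ = b * (b * a ^ (4 * j)) * a ^ j * b * a ^ j := by rw [h1]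
    _ = b * b * (a ^ (5 * j) * b) * a ^ j := by group
    _ = b * b * (b * a ^ (4 * (5 * j))) * a ^ j := by rw [h2]
    _ = b * b * b * a ^ (7 * (3 * j)) := by group
    _ = 1 := by
        rw [show b * b * b = b ^ 3 from by rw [pow_succ, pow_two], hb, pow_mul, ha, one_pow,
          one_mul]

/-- PIECE SYL7.  Normalising an automorphism fixing `z` by inner automorphisms from `C(z)`:
Sylow 7-subgroup `⟨x7⟩` of `C(z)`, `x3` acting on it by squaring, `C_{C(z)}(x7) = ⟨z⟩ × ⟨x7⟩`. -/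
theorem normalize_seven {G : Type} [Group G] [Finite G] (z x7 x3 : G)
    (hcard : Nat.card (Subgroup.centralizer ({z} : Set G)) = 21504)
    (hz2 : z * z = 1)
    (hx7 : x7 ^ 7 = 1) (hx71 : x7 ≠ 1) (hx7z : x7 * z = z * x7)
    (hx33 : x3 ^ 3 = 1) (hx3z : x3 * z = z * x3)
    (hx3 : x3 * x7 * x3⁻¹ = x7 ^ 2)
    (hcent : ∀ c : G, c * z = z * c → c * x7 = x7 * c → ∃ e j : ℕ, c = z ^ e * x7 ^ j)
    (φ : MulAut G) (hφ : φ z = z) :
    ∃ c : G, c * z = z * c ∧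
      ((c * φ x7 * c⁻¹ = x7 ∧ c * φ x3 * c⁻¹ = x3) ∨
        (c * φ x7 * c⁻¹ = x7⁻¹ ∧ c * φ x3 * c⁻¹ = x3)) := by
  have h7 : Fact (Nat.Prime 7) := ⟨by norm_num⟩
  have memC : ∀ g : G, g ∈ Subgroup.centralizer ({z} : Set G) ↔ g * z = z * g := by
    intro g
    rw [Subgroup.mem_centralizer_iff]
    constructor
    · intro h
      exact (h z rfl).symm
    · intro h y hy
      rw [Set.mem_singleton_iff] at hy
      rw [hy]
      exact h.symm
  have hφ7z : φ x7 * z = z * φ x7 := by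
    calc φ x7 * z = φ x7 * φ z := by rw [hφ]
      _ = φ (x7 * z) := (map_mul φ _ _).symm
      _ = φ (z * x7) := by rw [hx7z]
      _ = φ z * φ x7 := map_mul φ _ _
      _ = z * φ x7 := by rw [hφ]
  have hφ71 : φ x7 ≠ 1 := fun h => hx71 ((MulEquiv.map_eq_one_iff φ).1 h)
  have hφ77 : φ x7 ^ 7 = 1 := by rw [← map_pow, hx7, map_one]
  -- Sylow 7-subgroups of `C(z)`
  have hstep1 : ∃ (c : G) (n : ℕ), n < 7 ∧ c * z = z * c ∧ c * φ x7 * c⁻¹ = x7 ^ n := by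
    obtain ⟨a, ha⟩ : ∃ a : ↥(Subgroup.centralizer ({z} : Set G)), (a : G) = x7 :=
      ⟨⟨x7, (memC x7).2 hx7z⟩, rfl⟩
    obtain ⟨b, hb⟩ : ∃ b : ↥(Subgroup.centralizer ({z} : Set G)), (b : G) = φ x7 :=
      ⟨⟨φ x7, (memC _).2 hφ7z⟩, rfl⟩
    have hoa : orderOf a = 7 := by
      apply orderOf_eq_prime
      · apply Subtype.ext
        rw [Subgroup.coe_pow, ha, hx7, Subgroup.coe_one]
      · intro h
        apply hx71
        rw [← ha, h, Subgroup.coe_one]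
    have hob : orderOf b = 7 := by
      apply orderOf_eq_prime
      · apply Subtype.ext
        rw [Subgroup.coe_pow, hb, hφ77, Subgroup.coe_one]
      · intro h
        apply hφ71
        rw [← hb, h, Subgroup.coe_one]
    have hfac : (Nat.card ↥(Subgroup.centralizer ({z} : Set G))).factorization 7 = 1 := by
      rw [hcard]
      have h : (21504 : ℕ) = 7 * 3072 := by norm_num
      rw [h, Nat.factorization_mul (by norm_num) (by norm_num), Finsupp.add_apply,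
        Nat.Prime.factorization_self (by norm_num),
        Nat.factorization_eq_zero_of_not_dvd (by norm_num)]
    have hc1 : Nat.card (Subgroup.zpowers a) =
        7 ^ (Nat.card ↥(Subgroup.centralizer ({z} : Set G))).factorization 7 := by
      rw [hfac, pow_one, Nat.card_zpowers, hoa]
    have hc2 : Nat.card (Subgroup.zpowers b) =
        7 ^ (Nat.card ↥(Subgroup.centralizer ({z} : Set G))).factorization 7 := by
      rw [hfac, pow_one, Nat.card_zpowers, hob]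
    obtain ⟨c, hc⟩ := MulAction.exists_smul_eq ↥(Subgroup.centralizer ({z} : Set G))
      (Sylow.ofCard (Subgroup.zpowers b) hc2) (Sylow.ofCard (Subgroup.zpowers a) hc1)
    have h1 : MulAut.conj c • b ∈ MulAut.conj c • Subgroup.zpowers b :=
      Subgroup.smul_mem_pointwise_smul _ _ _ (Subgroup.mem_zpowers b)
    have h2 : ((c • Sylow.ofCard (Subgroup.zpowers b) hc2 :
        Sylow 7 ↥(Subgroup.centralizer ({z} : Set G))) :
        Subgroup ↥(Subgroup.centralizer ({z} : Set G))) =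
        MulAut.conj c • Subgroup.zpowers b := by
      rw [Sylow.coe_subgroup_smul, Sylow.coe_ofCard]
    rw [← h2, hc, Sylow.coe_ofCard, MulAut.smul_def, MulAut.conj_apply] at h1
    obtain ⟨k, hk⟩ := Subgroup.mem_zpowers_iff.1 h1
    have hk' : x7 ^ k = (c : G) * φ x7 * (c : G)⁻¹ := by
      have h3 := congrArg Subtype.val hk
      rw [Subgroup.coe_zpow, Subgroup.coe_mul, Subgroup.coe_mul, Subgroup.coe_inv, ha, hb] at h3
      exact h3
    have ho7 : orderOf x7 = 7 := orderOf_eq_prime hx7 hx71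
    have hnn : 0 ≤ k % 7 := Int.emod_nonneg _ (by norm_num)
    have hlt : k % 7 < 7 := Int.emod_lt_of_pos _ (by norm_num)
    refine ⟨(c : G), (k % 7).toNat, by omega, (memC _).1 c.2, ?_⟩
    rw [← hk', ← zpow_natCast, Int.toNat_of_nonneg hnn]
    have h4 := zpow_mod_orderOf x7 k
    rw [ho7] at h4
    exact h4.symm
  obtain ⟨c1, n, hn7, hc1z, hc1n⟩ := hstep1
  have step : ∀ (c : G) (m : ℕ), c * z = z * c → c * φ x7 * c⁻¹ = x7 ^ m →
      ∃ c' : G, c' * z = z * c' ∧ c' * φ x7 * c'⁻¹ = x7 ^ (2 * m) := by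
    intro c m hcz hcm
    refine ⟨x3 * c, ?_, ?_⟩
    · calc x3 * c * z = x3 * (c * z) := mul_assoc _ _ _
        _ = x3 * (z * c) := by rw [hcz]
        _ = (x3 * z) * c := (mul_assoc _ _ _).symm
        _ = (z * x3) * c := by rw [hx3z]
        _ = z * (x3 * c) := mul_assoc _ _ _
    · calc x3 * c * φ x7 * (x3 * c)⁻¹ = x3 * (c * φ x7 * c⁻¹) * x3⁻¹ := by group
        _ = x3 * x7 ^ m * x3⁻¹ := by rw [hcm]
        _ = x7 ^ (2 * m) := syl7_conj_pow x7 x3 hx3 m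
  have e6 : x7 ^ 6 = x7⁻¹ := eq_inv_of_mul_eq_one_left (by rw [← pow_succ, hx7])
  have e8 : x7 ^ 8 = x7 := by
    rw [show 8 = 7 + 1 from rfl, pow_add, hx7, one_mul, pow_one]
  have e20 : x7 ^ 20 = x7⁻¹ := by
    rw [show 20 = 7 * 2 + 6 from rfl, pow_add, pow_mul, hx7, one_pow, one_mul, e6]
  have hstep2 : ∃ c2 : G, c2 * z = z * c2 ∧
      (c2 * φ x7 * c2⁻¹ = x7 ∨ c2 * φ x7 * c2⁻¹ = x7⁻¹) := by
    interval_cases n
    · exfalso
      apply hφ71
      rw [pow_zero] at hc1n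
      calc φ x7 = c1⁻¹ * (c1 * φ x7 * c1⁻¹) * c1 := by group
        _ = 1 := by rw [hc1n]; group
    · exact ⟨c1, hc1z, Or.inl (by rw [hc1n, pow_one])⟩
    · obtain ⟨c', h1, h2⟩ := step c1 2 hc1z hc1n
      obtain ⟨c'', h3, h4⟩ := step c' (2 * 2) h1 h2
      exact ⟨c'', h3, Or.inl (by rw [h4]; exact e8)⟩
    · obtain ⟨c', h1, h2⟩ := step c1 3 hc1z hc1n
      exact ⟨c', h1, Or.inr (by rw [h2]; exact e6)⟩
    · obtain ⟨c', h1, h2⟩ := step c1 4 hc1z hc1n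
      exact ⟨c', h1, Or.inl (by rw [h2]; exact e8)⟩
    · obtain ⟨c', h1, h2⟩ := step c1 5 hc1z hc1n
      obtain ⟨c'', h3, h4⟩ := step c' (2 * 5) h1 h2
      exact ⟨c'', h3, Or.inr (by rw [h4]; exact e20)⟩
    · exact ⟨c1, hc1z, Or.inr (by rw [hc1n]; exact e6)⟩
  obtain ⟨c2, hc2z, hc27⟩ := hstep2
  -- the automorphism `ψ = conj c2 ∘ φ`
  obtain ⟨ψ, hψ⟩ : ∃ ψ : MulAut G, ∀ g, ψ g = c2 * φ g * c2⁻¹ :=
    ⟨MulAut.conj c2 * φ, fun g => by rw [MulAut.mul_apply, MulAut.conj_apply]⟩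
  have hψz : ψ z = z := by
    rw [hψ, hφ, hc2z, mul_inv_cancel_right]
  have hψ7 : ψ x7 = x7 ∨ ψ x7 = x7⁻¹ := by
    rw [hψ]
    exact hc27
  have hy : ψ x3 * ψ x7 * (ψ x3)⁻¹ = ψ x7 ^ 2 := by
    rw [← map_inv, ← map_mul, ← map_mul, hx3, map_pow]
  have hy3z : ψ x3 * z = z * ψ x3 := by
    calc ψ x3 * z = ψ x3 * ψ z := by rw [hψz]
      _ = ψ (x3 * z) := (map_mul ψ _ _).symm
      _ = ψ (z * x3) := by rw [hx3z]
      _ = ψ z * ψ x3 := map_mul ψ _ _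
      _ = z * ψ x3 := by rw [hψz]
  have hy33 : ψ x3 ^ 3 = 1 := by rw [← map_pow, hx33, map_one]
  have key : ψ x3 * x7 * (ψ x3)⁻¹ = x7 ^ 2 := by
    rcases hψ7 with h | h
    · rw [h] at hy
      exact hy
    · rw [h] at hy
      calc ψ x3 * x7 * (ψ x3)⁻¹ = (ψ x3 * x7⁻¹ * (ψ x3)⁻¹)⁻¹ := by group
        _ = (x7⁻¹ ^ 2)⁻¹ := by rw [hy]
        _ = x7 ^ 2 := by group
  have hd7 : x3⁻¹ * ψ x3 * x7 = x7 * (x3⁻¹ * ψ x3) := by
    calc x3⁻¹ * ψ x3 * x7 = x3⁻¹ * (ψ x3 * x7 * (ψ x3)⁻¹) * ψ x3 := by group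
      _ = x3⁻¹ * (x3 * x7 * x3⁻¹) * ψ x3 := by rw [key, hx3]
      _ = x7 * (x3⁻¹ * ψ x3) := by group
  have hdz : x3⁻¹ * ψ x3 * z = z * (x3⁻¹ * ψ x3) := by
    calc x3⁻¹ * ψ x3 * z = x3⁻¹ * (ψ x3 * z) := by group
      _ = x3⁻¹ * (z * ψ x3) := by rw [hy3z]
      _ = x3⁻¹ * (z * x3) * x3⁻¹ * ψ x3 := by group
      _ = x3⁻¹ * (x3 * z) * x3⁻¹ * ψ x3 := by rw [hx3z]
      _ = z * (x3⁻¹ * ψ x3) := by group
  obtain ⟨e, j, hej⟩ := hcent _ hdz hd7
  have hcz3 : Commute x3 z := hx3z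
  have hcz7 : Commute x7 z := hx7z
  have hcw : Commute (x3 * x7 ^ j) (z ^ e) := (hcz3.mul_left (hcz7.pow_left j)).pow_right e
  have hy3 : ψ x3 = (x3 * x7 ^ j) * z ^ e := by
    calc ψ x3 = x3 * (x3⁻¹ * ψ x3) := by group
      _ = x3 * (z ^ e * x7 ^ j) := by rw [hej]
      _ = x3 * (x7 ^ j * z ^ e) := by rw [((hcz7.pow_left j).pow_right e).eq]
      _ = (x3 * x7 ^ j) * z ^ e := (mul_assoc _ _ _).symm
  have hze : z ^ e = 1 := by
    have h1 : ((x3 * x7 ^ j) * z ^ e) ^ 3 = 1 := by rw [← hy3]; exact hy33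
    rw [hcw.mul_pow, syl7_cube x7 x3 hx7 hx33 hx3 j, one_mul] at h1
    have h2 : (z ^ e) ^ 2 = 1 := by
      rw [← pow_mul, mul_comm, pow_mul, pow_two, hz2, one_pow]
    calc z ^ e = ((z ^ e) ^ 2)⁻¹ * (z ^ e) ^ 3 := by group
      _ = 1 := by rw [h1, h2, inv_one, one_mul]
  rw [hze, mul_one] at hy3
  -- final conjugation by `x7 ^ (2 j)`
  have hc3 : ∀ g : G, x7 ^ (2 * j) * c2 * φ g * (x7 ^ (2 * j) * c2)⁻¹ =
      x7 ^ (2 * j) * ψ g * (x7 ^ (2 * j))⁻¹ := by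
    intro g
    rw [hψ]
    group
  have hfin3 : x7 ^ (2 * j) * ψ x3 * (x7 ^ (2 * j))⁻¹ = x3 := by
    rw [hy3]
    calc x7 ^ (2 * j) * (x3 * x7 ^ j) * (x7 ^ (2 * j))⁻¹
        = (x7 ^ (2 * j) * x3) * x7 ^ j * (x7 ^ (2 * j))⁻¹ := by group
      _ = (x3 * x7 ^ (4 * (2 * j))) * x7 ^ j * (x7 ^ (2 * j))⁻¹ := by
        rw [syl7_swap x7 x3 hx7 hx3 (2 * j)]
      _ = x3 * x7 ^ (7 * j) := by group
      _ = x3 := by rw [pow_mul, hx7, one_pow, mul_one]
  refine ⟨x7 ^ (2 * j) * c2, ?_, ?_⟩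
  · exact ((hcz7.pow_left (2 * j)).mul_left hc2z).eq
  · rcases hψ7 with h | h
    · left
      refine ⟨?_, ?_⟩
      · rw [hc3, h]
        group
      · rw [hc3]
        exact hfin3
    · right
      refine ⟨?_, ?_⟩
      · rw [hc3, h]
        group
      · rw [hc3]
        exact hfin3

end Cfsg.Agent.Lib.Helper21.HeOSYL7
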