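import Mathlib

/-!
# Piece CA of the involution-classes project (S2175/S2174, helper25), abstract part

`ca_abstract`: for subgroups `U, H, N ≤ Γ` and `Gp ≤ Γ` with `H` normalising `U`,
`(U ⊔ H) ⊓ N = H`, `U ⊓ H = ⊥`, `H ≤ N` and `U` a Sylow `p`-subgroup of `Gp`, the five
hypotheses of the abstract involution theorem hold for `B = U ⊔ H`.
-/

set_option autoImplicit false

namespace Cfsg.Agent.Lib.Helper25

theorem ca_mem_sup_of_le_normalizer {G : Type*} [Group G] (A K : Subgroup G)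
    (hK : K ≤ Subgroup.normalizer (A : Set G)) (g : G) (hg : g ∈ A ⊔ K) :
    ∃ a ∈ A, ∃ k ∈ K, g = a * k := by
  rw [Subgroup.sup_eq_closure] at hg
  induction hg using Subgroup.closure_induction with
  | mem x hx =>
    rcases hx with hx | hx
    · exact ⟨x, hx, 1, one_mem _, by simp⟩
    · exact ⟨1, one_mem _, x, hx, by simp⟩
  | one => exact ⟨1, one_mem _, 1, one_mem _, by simp⟩
  | mul x y _ _ hx hy =>
    obtain ⟨a, ha, k, hk, rfl⟩ := hx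
    obtain ⟨a', ha', k', hk', rfl⟩ := hy
    refine ⟨a * (k * a' * k⁻¹), mul_mem ha ?_, k * k', mul_mem hk hk', by group⟩
    exact ((Subgroup.mem_set_normalizer_iff.1 (hK hk)) a').1 ha'
  | inv x _ hx =>
    obtain ⟨a, ha, k, hk, rfl⟩ := hx
    refine ⟨k⁻¹ * a⁻¹ * k⁻¹⁻¹, ?_, k⁻¹, inv_mem hk, by group⟩
    exact ((Subgroup.mem_set_normalizer_iff.1 (hK (inv_mem hk))) a⁻¹).1 (inv_mem ha)

/-- The hypotheses of the abstract involution theorem for `B = U H`, in a group `Gp ≤ Γ`. -/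
theorem ca_abstract {Γ : Type*} [Group Γ] (p : ℕ) [Fact p.Prime] (Gp U H N : Subgroup Γ)
    (hUG : U ≤ Gp) (hHG : H ≤ Gp)
    (hHU : H ≤ Subgroup.normalizer (U : Set Γ))
    (hBN : (U ⊔ H) ⊓ N = H) (hUH : U ⊓ H = ⊥) (hHN : H ≤ N)
    (hSyl : ∃ Q : Sylow p ↥Gp, (Q : Subgroup ↥Gp) = U.subgroupOf Gp) :
    (∀ b ∈ (U ⊔ H).subgroupOf Gp, ∃ u ∈ U.subgroupOf Gp,
      ∃ h ∈ (U ⊔ H).subgroupOf Gp ⊓ N.subgroupOf Gp, b = u * h) ∧
    U.subgroupOf Gp ≤ (U ⊔ H).subgroupOf Gp ∧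
    (∀ u ∈ U.subgroupOf Gp, ∀ g : ↥Gp, g * u * g⁻¹ ∈ (U ⊔ H).subgroupOf Gp →
      g * u * g⁻¹ ∈ U.subgroupOf Gp) ∧
    (∀ u ∈ U.subgroupOf Gp, u ∈ N.subgroupOf Gp → u = 1) ∧
    H.subgroupOf Gp ≤ N.subgroupOf Gp := by
  refine ⟨?_, ?_, ?_, ?_, ?_⟩
  · intro b hb
    obtain ⟨u, hu, h, hh, hbuh⟩ :=
      ca_mem_sup_of_le_normalizer U H hHU (b : Γ) (Subgroup.mem_subgroupOf.1 hb)
    refine ⟨⟨u, hUG hu⟩, Subgroup.mem_subgroupOf.2 hu, ⟨h, hHG hh⟩, ?_, Subtype.ext hbuh⟩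
    exact Subgroup.mem_inf.2 ⟨Subgroup.mem_subgroupOf.2 (Subgroup.mem_sup_right hh),
      Subgroup.mem_subgroupOf.2 (hHN hh)⟩
  · intro x hx
    exact Subgroup.mem_subgroupOf.2 (Subgroup.mem_sup_left (Subgroup.mem_subgroupOf.1 hx))
  · intro u hu g hx
    obtain ⟨Q, hQ⟩ := hSyl
    have huQ : u ∈ (Q : Subgroup ↥Gp) := by rw [hQ]; exact hu
    obtain ⟨k, hk⟩ := Q.isPGroup' ⟨u, huQ⟩
    have hk' : u ^ p ^ k = 1 := by
      have := congrArg Subtype.val hk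
      simpa using this
    have hxk : (g * u * g⁻¹) ^ p ^ k = 1 := by
      rw [conj_pow, hk', mul_one, mul_inv_cancel]
    have hxp : IsPGroup p (Subgroup.zpowers (g * u * g⁻¹)) := by
      rintro ⟨y, hy⟩
      obtain ⟨j, rfl⟩ := Subgroup.mem_zpowers_iff.1 hy
      refine ⟨k, Subtype.ext ?_⟩
      show ((g * u * g⁻¹) ^ j) ^ p ^ k = 1
      rw [← zpow_natCast, ← zpow_mul, mul_comm, zpow_mul, zpow_natCast, hxk, one_zpow]
    have hBnorm : (U ⊔ H).subgroupOf Gp ≤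
        Subgroup.normalizer ((Q : Subgroup ↥Gp) : Set ↥Gp) := by
      intro b hb
      have hbΓ : (b : Γ) ∈ Subgroup.normalizer (U : Set Γ) :=
        (sup_le Subgroup.le_normalizer hHU) (Subgroup.mem_subgroupOf.1 hb)
      rw [Subgroup.mem_set_normalizer_iff]
      intro y
      rw [SetLike.mem_coe, SetLike.mem_coe, hQ, Subgroup.mem_subgroupOf, Subgroup.mem_subgroupOf]
      exact (Subgroup.mem_set_normalizer_iff.1 hbΓ) (y : Γ)
    have hnorm : Subgroup.zpowers (g * u * g⁻¹) ≤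
        Subgroup.normalizer ((Q : Subgroup ↥Gp) : Set ↥Gp) := by
      rw [Subgroup.zpowers_le]
      exact hBnorm hx
    have hsup : IsPGroup p (Subgroup.zpowers (g * u * g⁻¹) ⊔ (Q : Subgroup ↥Gp) : Subgroup ↥Gp) :=
      IsPGroup.to_sup_of_normal_right' hxp Q.isPGroup' hnorm
    have heq := Q.is_maximal' hsup le_sup_right
    have hxQ : g * u * g⁻¹ ∈ (Q : Subgroup ↥Gp) := by
      rw [← heq]
      exact Subgroup.mem_sup_left (Subgroup.mem_zpowers _)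
    rw [hQ] at hxQ
    exact hxQ
  · intro u hu huN
    have h1 : (u : Γ) ∈ (U ⊔ H) ⊓ N :=
      Subgroup.mem_inf.2 ⟨Subgroup.mem_sup_left (Subgroup.mem_subgroupOf.1 hu),
        Subgroup.mem_subgroupOf.1 huN⟩
    rw [hBN] at h1
    have h2 : (u : Γ) ∈ U ⊓ H := Subgroup.mem_inf.2 ⟨Subgroup.mem_subgroupOf.1 hu, h1⟩
    rw [hUH, Subgroup.mem_bot] at h2
    exact Subtype.ext h2
  · intro x hx
    exact Subgroup.mem_subgroupOf.2 (hHN (Subgroup.mem_subgroupOf.1 hx))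

end Cfsg.Agent.Lib.Helper25
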