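import Mathlib
import Cfsg.Agent.Lib.Helper25.ChevBNPair
import Cfsg.Agent.Lib.Helper25.ChevSylow
import Cfsg.Agent.Lib.Helper21.InvCAabs

/-!
# Piece CA of the involution-classes project (S2175/S2174, helper25)

`inv_chev_hyps`: the five hypotheses of the abstract involution theorem for the `(B, N)`-pair
`chevBN D hD` of a Chevalley group over a finite field of characteristic `p`, with `U` the
positive unipotent subgroup and `H` the diagonal subgroup.
-/

set_option autoImplicit false

namespace Cfsg.Agent.Lib.Helper25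

open Cfsg Cfsg.Lie Matrix
open Cfsg.Agent.Lib.Helper24

variable {F : Type*} [Field F]

theorem inv_chev_hyps [Fintype F] (p : ℕ) [Fact p.Prime] [CharP F p]
    (D : ChevalleyDatum) (hD : D ∈ [chevG2, chevB2, chevD4, chevF4, chevE6, chevE7, chevE8]) :
    (∀ b ∈ (chevBN (F := F) D hD).B, ∃ u ∈ (D.posUnipotent F).subgroupOf (D.group F),
      ∃ h ∈ (chevBN (F := F) D hD).B ⊓ (chevBN (F := F) D hD).N, b = u * h) ∧
    (D.posUnipotent F).subgroupOf (D.group F) ≤ (chevBN (F := F) D hD).B ∧
    (∀ u ∈ (D.posUnipotent F).subgroupOf (D.group F), ∀ g : ↥(D.group F),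
      g * u * g⁻¹ ∈ (chevBN (F := F) D hD).B →
        g * u * g⁻¹ ∈ (D.posUnipotent F).subgroupOf (D.group F)) ∧
    (∀ u ∈ (D.posUnipotent F).subgroupOf (D.group F), u ∈ (chevBN (F := F) D hD).N → u = 1) ∧
    (D.diagonalSubgroup F).subgroupOf (D.group F) ≤ (chevBN (F := F) D hD).N := by
  have hD' : D ∈ chevList := hD
  have hHU : D.diagonalSubgroup F ≤ Subgroup.normalizer (D.posUnipotent F : Set (GL D.Idx F)) :=
    diagonal_le_normalizer_rootGen D hD' D.IsPosRoot (fun r hr => hr.1)
  exact ca_abstract p (D.group F) (D.posUnipotent F) (D.diagonalSubgroup F) (D.monomialSubgroup F)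
    (posUnipotent_le_group D hD') (diagonalSubgroup_le_group D hD') hHU
    (borel_inf_monomial D hD') (posUnipotent_inf_diagonal D hD') le_sup_left
    (posUnipotent_sylow p D hD)

end Cfsg.Agent.Lib.Helper25
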