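import Mathlib
import Cfsg.Agent.Lib.Helper8.BN2

/-!
# Piece IB of the involution-classes project (S2175/S2174, helper25)

Normal form of an involution `u * n` (`u ∈ U`, `n ∈ N`) in a group with a `(B, N)`-pair:
`n * n = 1` and `n u n⁻¹ = u⁻¹`.
-/

set_option autoImplicit false

namespace Cfsg.Agent.Lib.Helper25

open Cfsg Cfsg.Agent.Lib.Helper8

section Abstract

variable {G : Type*} [Group G]

/-- IB -/
theorem inv_normal_form (P : BNPair G) (U : Subgroup G) (hUB : U ≤ P.B)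
    (hUc : ∀ u ∈ U, ∀ g : G, g * u * g⁻¹ ∈ P.B → g * u * g⁻¹ ∈ U)
    (hUN : ∀ u ∈ U, u ∈ P.N → u = 1)
    (u : G) (hu : u ∈ U) (n : P.N) (h2 : (u * (n : G)) * (u * (n : G)) = 1) :
    cl P n * cl P n = 1 ∧ (n : G) * (n : G) = 1 ∧ (n : G) * u * (n : G)⁻¹ = u⁻¹ := by
  have huB : u ∈ P.B := hUB hu
  -- `t' = u * n` lies in `B n B` and in `B n⁻¹ B`
  have hmem1 : u * (n : G) ∈ dc P (n : G) :=
    mem_dc.2 ⟨u, huB, 1, P.B.one_mem, by rw [mul_one]⟩
  have hinv : (u * (n : G))⁻¹ = u * (n : G) := inv_eq_of_mul_eq_one_right h2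
  have hmem2 : u * (n : G) ∈ dc P ((n⁻¹ : P.N) : G) := by
    have h := dc_inv_mem hmem1
    rw [hinv] at h
    exact h
  have hdc : dc P (n : G) = dc P ((n⁻¹ : P.N) : G) := dc_eq_of_mem_of_mem hmem1 hmem2
  have hcl : cl P n = cl P n⁻¹ := cl_eq_of_dc_eq P hdc
  have hcl2 : cl P n * cl P n = 1 := by
    have h : cl P n * cl P n = cl P n * cl P n⁻¹ := by rw [← hcl]
    rw [h, cl_inv, mul_inv_cancel]
  have hnnB : (n : G) * (n : G) ∈ P.B := by
    have h : cl P (n * n) = 1 := by rw [cl_mul]; exact hcl2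
    exact cl_eq_one_iff.1 h
  -- `n u n⁻¹ = u⁻¹ (n n)⁻¹`
  have hconj : (n : G) * u * (n : G)⁻¹ = u⁻¹ * ((n : G) * (n : G))⁻¹ := by
    have h : (n : G) * u * (n : G) = u⁻¹ := by
      have h' : u * ((n : G) * u * (n : G)) = 1 := by
        rw [← h2]; group
      exact eq_inv_of_mul_eq_one_right h'
    calc (n : G) * u * (n : G)⁻¹ = ((n : G) * u * (n : G)) * ((n : G) * (n : G))⁻¹ := by group
      _ = u⁻¹ * ((n : G) * (n : G))⁻¹ := by rw [h]
  have hconjB : (n : G) * u * (n : G)⁻¹ ∈ P.B := by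
    rw [hconj]
    exact P.B.mul_mem (P.B.inv_mem huB) (P.B.inv_mem hnnB)
  have hconjU : (n : G) * u * (n : G)⁻¹ ∈ U := hUc u hu (n : G) hconjB
  have hnnU : ((n : G) * (n : G))⁻¹ ∈ U := by
    have h : ((n : G) * (n : G))⁻¹ = u * ((n : G) * u * (n : G)⁻¹) := by
      rw [hconj]; group
    rw [h]
    exact U.mul_mem hu hconjU
  have hnnN : ((n : G) * (n : G))⁻¹ ∈ P.N := P.N.inv_mem (P.N.mul_mem n.2 n.2)
  have hnn1 : ((n : G) * (n : G))⁻¹ = 1 := hUN _ hnnU hnnN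
  have hnn : (n : G) * (n : G) = 1 := inv_eq_one.1 hnn1
  refine ⟨hcl2, hnn, ?_⟩
  rw [hconj, hnn, inv_one, mul_one]

end Abstract

end Cfsg.Agent.Lib.Helper25
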