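import Mathlib

/-!
# Piece J-DIH for S2605/S2606 (helper51's job board)
-/

namespace Cfsg.Agent.Lib.Helper21.OutDIH

open DihedralGroup in
/-- An automorphism of odd order of the dihedral group of order 8 is trivial. -/
theorem aut_d8_eq_one (β : MulAut (DihedralGroup 4)) {f : ℕ} (hf : Odd f) (hβ : β ^ f = 1) :
    β = 1 := by
  have key1 : ∀ g : DihedralGroup 4, g ^ 2 ≠ 1 → g = r 1 ∨ g = r 3 := by decide
  have key2 : ∀ c j : ZMod 4, (c = 1 ∨ c = 3) → c * j = 0 → j = 0 := by decide
  have key3 : ∀ i : ZMod 4, (r 1 : DihedralGroup 4) ^ (i.val) = r i := by decide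
  have key4 : ∀ i : ZMod 4, (sr 0 : DihedralGroup 4) * r i = sr i := by decide
  have h1 : β (r 1) = r 1 := by
    have h2 : (β (r 1)) ^ 2 ≠ 1 := by
      rw [← map_pow]
      intro h3
      have : (r 1 : DihedralGroup 4) ^ 2 = 1 := β.injective (by rw [h3, map_one])
      revert this
      decide
    rcases key1 _ h2 with h3 | h3
    · exact h3
    · exfalso
      have h4 : β (r 3) = r 1 := by
        have : (r 3 : DihedralGroup 4) = (r 1) ^ 3 := by decide
        rw [this, map_pow, h3]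
        decide
      have h5 : ∀ m : ℕ, (β ^ (2 * m)) (r 1) = r 1 := by
        intro m
        induction m with
        | zero => simp
        | succ m ih =>
          rw [Nat.mul_succ, pow_add, MulAut.mul_apply, pow_two, MulAut.mul_apply, h3, h4, ih]
      obtain ⟨m, rfl⟩ := hf
      have h6 : (β ^ (2 * m + 1)) (r 1) = r 3 := by
        rw [pow_succ', MulAut.mul_apply, h5, h3]
      rw [hβ, MulAut.one_apply] at h6
      revert h6
      decide
  have h2 : ∀ i : ZMod 4, β (r i) = r i := by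
    intro i
    rw [← key3 i, map_pow, h1]
  have h3 : ∃ j : ZMod 4, β (sr 0) = sr j := by
    rcases h : β (sr 0) with i | j
    · exfalso
      have : (sr 0 : DihedralGroup 4) = r i := β.injective (by rw [h, h2])
      exact absurd this (by simp)
    · exact ⟨j, rfl⟩
  obtain ⟨j, hj⟩ := h3
  have h4 : ∀ i : ZMod 4, β (sr i) = sr (j + i) := by
    intro i
    rw [← key4 i, map_mul, hj, h2]
    exact DihedralGroup.sr_mul_r j i
  have h5 : ∀ n : ℕ, (β ^ n) (sr 0) = sr ((n : ZMod 4) * j) := by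
    intro n
    induction n with
    | zero => simp
    | succ n ih =>
      rw [pow_succ', MulAut.mul_apply, ih, h4]
      congr 1
      push_cast
      ring
  have h6 : (f : ZMod 4) * j = 0 := by
    have := h5 f
    rw [hβ, MulAut.one_apply] at this
    exact (DihedralGroup.sr.inj this).symm
  have h7 : (f : ZMod 4) = 1 ∨ (f : ZMod 4) = 3 := by
    obtain ⟨m, rfl⟩ := hf
    have e : ((2 * m + 1 : ℕ) : ZMod 4) = (((2 * m + 1) % 4 : ℕ) : ZMod 4) :=
      (ZMod.natCast_mod _ 4).symm
    rw [e]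
    have : (2 * m + 1) % 4 = 1 ∨ (2 * m + 1) % 4 = 3 := by omega
    rcases this with h | h <;> rw [h]
    · left; rfl
    · right; rfl
  have h8 : j = 0 := key2 _ j h7 h6
  subst h8
  ext g
  rcases g with i | i
  · rw [h2, MulAut.one_apply]
  · rw [h4, zero_add, MulAut.one_apply]

/-- J-DIH -/
theorem dih_times_cyclic {G : Type*} [Group G] (A : Subgroup G) [A.Normal]
    (eA : ↥A ≃* DihedralGroup 4) (x : G) {f : ℕ} (hf : Odd f)
    (hgen : ∀ y : G, ∃ k : ℕ, ∃ a ∈ A, y = a * x ^ k)
    (hx : ∀ k : ℕ, x ^ k ∈ A ↔ f ∣ k) :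
    Nonempty (G ≃* DihedralGroup 4 × Multiplicative (ZMod f)) := by
  have hfpos : 0 < f := hf.pos
  have hA8 : ∀ a ∈ A, a ^ 8 = 1 := by
    intro a ha
    have h1 : ∀ g : DihedralGroup 4, g ^ 8 = 1 := by decide
    have h2 : eA ((⟨a, ha⟩ : A) ^ 8) = 1 := by rw [map_pow]; exact h1 _
    have h3 : (⟨a, ha⟩ : A) ^ 8 = 1 := eA.injective (by rw [h2, map_one])
    have := congrArg Subtype.val h3
    simpa using this
  have hxf8 : x ^ (f * 8) = 1 := by
    rw [pow_mul]; exact hA8 _ ((hx f).mpr dvd_rfl)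
  obtain ⟨j, t, hjt⟩ : ∃ j t : ℕ, 8 * j = 1 + f * t := by
    rcases Nat.lt_or_ge 1 f with h1 | h1
    · have hcop : Nat.Coprime 8 f := by
        have : Nat.Coprime (2 ^ 3) f := Nat.Coprime.pow_left 3 (Nat.coprime_two_left.mpr hf)
        simpa using this
      obtain ⟨m, -, hm⟩ := Nat.exists_mul_mod_eq_one_of_coprime hcop h1
      refine ⟨m, 8 * m / f, ?_⟩
      have := Nat.div_add_mod (8 * m) f
      omega
    · have : f = 1 := by omega
      subst this
      exact ⟨1, 7, by norm_num⟩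
  have hupow : ∀ k : ℕ, (x ^ (8 * j)) ^ k = x ^ k * x ^ (f * t * k) := by
    intro k
    rw [← pow_mul, hjt, add_mul, one_mul, pow_add]
  have huf : (x ^ (8 * j)) ^ f = 1 := by
    rw [← pow_mul, mul_comm (8 * j) f, ← mul_assoc, pow_mul, hxf8, one_pow]
  generalize x ^ (8 * j) = u at hupow huf
  have huA : ∀ k : ℕ, u ^ k ∈ A ↔ f ∣ k := by
    intro k
    rw [hupow]
    have h1 : x ^ (f * t * k) ∈ A := (hx _).mpr ⟨t * k, by ring⟩
    rw [← hx k]
    constructor
    · intro h2
      have := A.mul_mem h2 (A.inv_mem h1)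
      rwa [mul_inv_cancel_right] at this
    · intro h2
      exact A.mul_mem h2 h1
  have hugen : ∀ y : G, ∃ k : ℕ, ∃ a ∈ A, y = a * u ^ k := by
    intro y
    obtain ⟨k, a, ha, rfl⟩ := hgen y
    have h1 : x ^ (f * t * k) ∈ A := (hx _).mpr ⟨t * k, by ring⟩
    refine ⟨k, a * (x ^ (f * t * k))⁻¹, A.mul_mem ha (A.inv_mem h1), ?_⟩
    rw [hupow]
    have h2 : x ^ k * x ^ (f * t * k) = x ^ (f * t * k) * x ^ k := by
      rw [← pow_add, ← pow_add, add_comm]
    rw [h2]
    group
  have hcomm : ∀ a ∈ A, u * a = a * u := by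
    intro a ha
    have h1 : (MulAut.congr eA (MulAut.conjNormal (H := A) u)) ^ f = 1 := by
      rw [← map_pow, ← map_pow, huf, map_one, map_one]
    have h2 := aut_d8_eq_one _ hf h1
    have h3 : MulAut.conjNormal (H := A) u = 1 :=
      (MulAut.congr eA).injective (by rw [h2, map_one])
    have h4 := congrArg (fun φ : MulAut A => ((φ ⟨a, ha⟩ : A) : G)) h3
    simp only [MulAut.conjNormal_apply, MulAut.one_apply] at h4
    calc u * a = u * a * u⁻¹ * u := by group
      _ = a * u := by rw [h4]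
  let φ : A × Subgroup.zpowers u →* G :=
    MonoidHom.noncommCoprod A.subtype (Subgroup.zpowers u).subtype (by
      intro a c
      obtain ⟨z, hz⟩ := Subgroup.mem_zpowers_iff.mp c.2
      show Commute (a : G) (c : G)
      rw [← hz]
      have hc0 : Commute (a : G) u := (hcomm a a.2).symm
      exact hc0.zpow_right z)
  have hfin : IsOfFinOrder u := isOfFinOrder_iff_pow_eq_one.mpr ⟨f, hfpos, huf⟩
  have hφinj : Function.Injective φ := by
    rw [injective_iff_map_eq_one]
    rintro ⟨a, c⟩ hac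
    have h1 : (a : G) * (c : G) = 1 := hac
    have hc : (c : G) ∈ Submonoid.powers u := hfin.mem_powers_iff_mem_zpowers.mpr c.2
    obtain ⟨k, hk⟩ := (Submonoid.mem_powers_iff _ _).mp hc
    have h2 : (c : G) = (a : G)⁻¹ := eq_inv_of_mul_eq_one_right h1
    have h3 : u ^ k ∈ A := by rw [hk, h2]; exact A.inv_mem a.2
    obtain ⟨d, rfl⟩ := (huA k).mp h3
    have h4 : (c : G) = 1 := by rw [← hk, pow_mul, huf, one_pow]
    have h5 : (a : G) = 1 := by rw [h4, mul_one] at h1; exact h1
    apply Prod.ext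
    · exact Subtype.ext h5
    · exact Subtype.ext h4
  have hφsurj : Function.Surjective φ := by
    intro y
    obtain ⟨k, a, ha, rfl⟩ := hugen y
    exact ⟨(⟨a, ha⟩, ⟨u ^ k, Subgroup.pow_mem _ (Subgroup.mem_zpowers u) k⟩), rfl⟩
  have hord : orderOf u = f := by
    apply Nat.dvd_antisymm (orderOf_dvd_of_pow_eq_one huf)
    apply (huA _).mp
    rw [pow_orderOf_eq_one]
    exact A.one_mem
  have hcard : Nat.card (Subgroup.zpowers u) = Nat.card (Multiplicative (ZMod f)) := by
    rw [Nat.card_zpowers, hord]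
    exact (Nat.card_zmod f).symm
  exact ⟨(MulEquiv.ofBijective φ ⟨hφinj, hφsurj⟩).symm.trans
    (MulEquiv.prodCongr eA (mulEquivOfCyclicCardEq hcard))⟩

end Cfsg.Agent.Lib.Helper21.OutDIH
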