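import Mathlib
import Cfsg.Agent.Lib.Helper25.StDefs

/-!
# Piece P5 "StBorel" of the Steinberg-character project (S2313 cluster, helper25), auxiliary part

For `b ∈ B`, the alternating sum `stSum` of the parabolic permutation characters at `b` equals the
number of `b`-fixed points of `G ⧸ B` whose Bruhat cell has no right ascent.  Here the statement is
proved with the two "gate" properties (piece P4) as hypotheses; `StBorel.lean` plugs them in.
-/

set_option autoImplicit false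

namespace Cfsg.Agent.Lib.Helper25

open Cfsg Cfsg.Agent.Lib.Helper8

variable {G : Type*} [Group G]

theorem stb_inCell_iff (P : BNPair G) (g : G) (w : W P) :
    InCell P (QuotientGroup.mk g : G ⧸ P.B) w ↔ ∃ n : P.N, cl P n = w ∧ g ∈ dc P (n : G) := by
  constructor
  · rintro ⟨n, hn, b, hb, hx⟩
    refine ⟨n, hn, ?_⟩
    have h1 : g⁻¹ * (b * (n : G)) ∈ P.B := QuotientGroup.eq.1 hx
    exact mem_dc.2 ⟨b, hb, (g⁻¹ * (b * (n : G)))⁻¹, P.B.inv_mem h1, by group⟩
  · rintro ⟨n, hn, hg⟩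
    obtain ⟨b₁, hb₁, b₂, hb₂, rfl⟩ := mem_dc.1 hg
    refine ⟨n, hn, b₁, hb₁, ?_⟩
    rw [QuotientGroup.eq]
    have : (b₁ * (n : G) * b₂)⁻¹ * (b₁ * (n : G)) = b₂⁻¹ := by group
    rw [this]
    exact P.B.inv_mem hb₂

theorem stb_cell_exists (P : BNPair G) (x : G ⧸ P.B) : ∃ w : W P, InCell P x w := by
  obtain ⟨g, rfl⟩ := QuotientGroup.mk_surjective x
  obtain ⟨n, hn, hg⟩ := bruhat P g
  exact ⟨cl P ⟨n, hn⟩, (stb_inCell_iff P g _).2 ⟨⟨n, hn⟩, rfl, hg⟩⟩

theorem stb_cell_unique (P : BNPair G) {x : G ⧸ P.B} {w w' : W P} (h : InCell P x w)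
    (h' : InCell P x w') : w = w' := by
  obtain ⟨g, rfl⟩ := QuotientGroup.mk_surjective x
  obtain ⟨n, rfl, hg⟩ := (stb_inCell_iff P g _).1 h
  obtain ⟨n', rfl, hg'⟩ := (stb_inCell_iff P g _).1 h'
  exact cl_eq_of_dc_eq P (dc_eq_of_mem_of_mem hg hg')

open Classical in
/-- the indices `i < r` such that `σ i` is a right ascent of the cell of `x` -/
noncomputable def stbA (P : BNPair G) (σ : ℕ → G) (r : ℕ) (x : G ⧸ P.B) : Finset ℕ :=
  (Finset.range r).filter (fun i => ∀ w : W P, InCell P x w →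
    ∀ h : σ i ∈ P.S, len (SW P) w < len (SW P) (w * cl P (sN P h)))

theorem stb_mem_A (P : BNPair G) (σ : ℕ → G) (r : ℕ) (x : G ⧸ P.B) (i : ℕ) :
    i ∈ stbA P σ r x ↔ i < r ∧ ∀ w : W P, InCell P x w →
      ∀ h : σ i ∈ P.S, len (SW P) w < len (SW P) (w * cl P (sN P h)) := by
  classical
  unfold stbA
  rw [Finset.mem_filter, Finset.mem_range]

theorem stb_A_subset (P : BNPair G) (σ : ℕ → G) (r : ℕ) (x : G ⧸ P.B) :
    stbA P σ r x ⊆ Finset.range r := by
  intro i hi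
  exact Finset.mem_range.2 ((stb_mem_A P σ r x i).1 hi).1

theorem stb_jmin_iff (P : BNPair G) (σ : ℕ → G) (r : ℕ) (J : Finset ℕ)
    (hJ : J ⊆ Finset.range r) (g : G) :
    JMin P (σ '' (↑J : Set ℕ)) g ↔ J ⊆ stbA P σ r (QuotientGroup.mk g) := by
  constructor
  · intro h i hi
    rw [stb_mem_A]
    refine ⟨Finset.mem_range.1 (hJ hi), ?_⟩
    intro w hw hs
    obtain ⟨n, rfl, hg⟩ := (stb_inCell_iff P g w).1 hw
    exact h n hg _ (mem_SWJ P hs ⟨i, hi, rfl⟩)
  · intro h n hg s hs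
    obtain ⟨s', hs', ⟨i, hi, rfl⟩, rfl⟩ := hs
    exact ((stb_mem_A P σ r _ i).1 (h hi)).2 (cl P n)
      ((stb_inCell_iff P g _).2 ⟨n, rfl, hg⟩) hs'

theorem stb_A_empty_iff (P : BNPair G) (σ : ℕ → G) (r : ℕ)
    (hS : P.S = σ '' (Finset.range r : Set ℕ)) (x : G ⧸ P.B) :
    stbA P σ r x = ∅ ↔ ∃ w : W P, InCell P x w ∧ NoRAsc (SW P) w := by
  constructor
  · intro h
    obtain ⟨w, hw⟩ := stb_cell_exists P x
    refine ⟨w, hw, ?_⟩
    rintro s ⟨s', hs', rfl⟩ hlt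
    have hs'' := hs'
    rw [hS] at hs''
    obtain ⟨i, hi, rfl⟩ := hs''
    have hmem : i ∈ stbA P σ r x := by
      rw [stb_mem_A]
      refine ⟨Finset.mem_range.1 (Finset.mem_coe.1 hi), ?_⟩
      intro w' hw' h'
      rw [← stb_cell_unique P hw hw']
      exact hlt
    rw [h] at hmem
    exact absurd hmem (Finset.notMem_empty _)
  · rintro ⟨w, hw, hno⟩
    rw [Finset.eq_empty_iff_forall_notMem]
    intro i hi
    rw [stb_mem_A] at hi
    have hs : σ i ∈ P.S := by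
      rw [hS]
      exact ⟨i, Finset.mem_coe.2 (Finset.mem_range.2 hi.1), rfl⟩
    exact hno _ (mem_SW P hs) (hi.2 w hw hs)

theorem stb_card_fixed [Finite G] (P : BNPair G) (σ : ℕ → G) (r : ℕ)
    (hS : P.S = σ '' (Finset.range r : Set ℕ)) (b : G) (hb : b ∈ P.B)
    (gate_ex : ∀ {J : Set G}, J ⊆ P.S → ∀ g : G, ∃ p ∈ P.parabolic J, JMin P J (g * p))
    (gate_un : ∀ {J : Set G}, J ⊆ P.S → ∀ {g p : G}, p ∈ P.parabolic J → JMin P J g →
      JMin P J (g * p) → p ∈ P.B)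
    (J : Finset ℕ) (hJ : J ⊆ Finset.range r) :
    Nat.card (MulAction.fixedBy (G ⧸ P.parabolic (σ '' (↑J : Set ℕ))) b) =
      Nat.card {x : G ⧸ P.B // b • x = x ∧ J ⊆ stbA P σ r x} := by
  have hJS : σ '' (↑J : Set ℕ) ⊆ P.S := by
    rw [hS]
    exact Set.image_mono (Finset.coe_subset.2 hJ)
  have hle : P.B ≤ P.parabolic (σ '' (↑J : Set ℕ)) := B_le_parabolic P _
  symm
  let f : {x : G ⧸ P.B // b • x = x ∧ J ⊆ stbA P σ r x} →
      MulAction.fixedBy (G ⧸ P.parabolic (σ '' (↑J : Set ℕ))) b :=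
    fun x => ⟨Subgroup.quotientMapOfLE hle x.1, by
      obtain ⟨x, hx, -⟩ := x
      obtain ⟨g, rfl⟩ := QuotientGroup.mk_surjective x
      rw [MulAction.mem_fixedBy]
      have h1 : (QuotientGroup.mk (b * g) : G ⧸ P.B) = QuotientGroup.mk g := hx
      have h2 : (b * g)⁻¹ * g ∈ P.B := QuotientGroup.eq.1 h1
      show (QuotientGroup.mk (b * g) : G ⧸ P.parabolic (σ '' (↑J : Set ℕ))) = QuotientGroup.mk g
      exact QuotientGroup.eq.2 (hle h2)⟩
  apply Nat.card_eq_of_bijective f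
  constructor
  · rintro ⟨x, hx, hxA⟩ ⟨y, hy, hyA⟩ hxy
    obtain ⟨g, rfl⟩ := QuotientGroup.mk_surjective x
    obtain ⟨g', rfl⟩ := QuotientGroup.mk_surjective y
    have h1 : (QuotientGroup.mk g : G ⧸ P.parabolic (σ '' (↑J : Set ℕ))) = QuotientGroup.mk g' :=
      congrArg Subtype.val hxy
    have h2 : g⁻¹ * g' ∈ P.parabolic (σ '' (↑J : Set ℕ)) := QuotientGroup.eq.1 h1
    have hg : JMin P (σ '' (↑J : Set ℕ)) g := (stb_jmin_iff P σ r J hJ g).2 hxA
    have hg' : JMin P (σ '' (↑J : Set ℕ)) (g * (g⁻¹ * g')) := by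
      rw [mul_inv_cancel_left]
      exact (stb_jmin_iff P σ r J hJ g').2 hyA
    have h3 := gate_un hJS h2 hg hg'
    exact Subtype.ext (QuotientGroup.eq.2 h3)
  · rintro ⟨y, hy⟩
    obtain ⟨g, rfl⟩ := QuotientGroup.mk_surjective y
    rw [MulAction.mem_fixedBy] at hy
    have h1 : (QuotientGroup.mk (b * g) : G ⧸ P.parabolic (σ '' (↑J : Set ℕ))) =
        QuotientGroup.mk g := hy
    have h2 : (b * g)⁻¹ * g ∈ P.parabolic (σ '' (↑J : Set ℕ)) := QuotientGroup.eq.1 h1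
    obtain ⟨p, hp, hmin⟩ := gate_ex hJS g
    have hp' : (g * p)⁻¹ * b * (g * p) ∈ P.parabolic (σ '' (↑J : Set ℕ)) := by
      have : (g * p)⁻¹ * b * (g * p) = p⁻¹ * ((b * g)⁻¹ * g)⁻¹ * p := by group
      rw [this]
      exact Subgroup.mul_mem _ (Subgroup.mul_mem _ (Subgroup.inv_mem _ hp)
        (Subgroup.inv_mem _ h2)) hp
    have hmin' : JMin P (σ '' (↑J : Set ℕ)) (g * p * ((g * p)⁻¹ * b * (g * p))) := by
      have e : g * p * ((g * p)⁻¹ * b * (g * p)) = b * (g * p) := by group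
      rw [e]
      intro n hn
      apply hmin n
      have := dc_mul_left_mem (P.B.inv_mem hb) hn
      rwa [inv_mul_cancel_left] at this
    have h3 : (g * p)⁻¹ * b * (g * p) ∈ P.B := gate_un hJS hp' hmin hmin'
    refine ⟨⟨QuotientGroup.mk (g * p), ?_, (stb_jmin_iff P σ r J hJ (g * p)).1 hmin⟩, ?_⟩
    · show (QuotientGroup.mk (b * (g * p)) : G ⧸ P.B) = QuotientGroup.mk (g * p)
      rw [QuotientGroup.eq]
      have : (b * (g * p))⁻¹ * (g * p) = ((g * p)⁻¹ * b * (g * p))⁻¹ := by group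
      rw [this]
      exact P.B.inv_mem h3
    · apply Subtype.ext
      show (QuotientGroup.mk (g * p) : G ⧸ P.parabolic (σ '' (↑J : Set ℕ))) = QuotientGroup.mk g
      rw [QuotientGroup.eq]
      have : (g * p)⁻¹ * g = p⁻¹ := by group
      rw [this]
      exact Subgroup.inv_mem _ hp

theorem stb_stSum_borel_of_gate [Finite G] (P : BNPair G) (σ : ℕ → G) (r : ℕ)
    (hS : P.S = σ '' (Finset.range r : Set ℕ)) (b : G) (hb : b ∈ P.B)
    (gate_ex : ∀ {J : Set G}, J ⊆ P.S → ∀ g : G, ∃ p ∈ P.parabolic J, JMin P J (g * p))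
    (gate_un : ∀ {J : Set G}, J ⊆ P.S → ∀ {g p : G}, p ∈ P.parabolic J → JMin P J g →
      JMin P J (g * p) → p ∈ P.B) :
    stSum P σ r b = (Nat.card {x : G ⧸ P.B // b • x = x ∧
      ∃ w : W P, InCell P x w ∧ NoRAsc (SW P) w} : ℂ) := by
  classical
  have : Fintype (G ⧸ P.B) := Fintype.ofFinite _
  have hcard1 : ∀ J : Finset ℕ, J ⊆ Finset.range r →
      fixedPointCharacter (P.parabolic (σ '' (↑J : Set ℕ))) b =
        ∑ x ∈ Finset.univ.filter (fun x : G ⧸ P.B => b • x = x),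
          if J ⊆ stbA P σ r x then (1 : ℂ) else 0 := by
    intro J hJ
    unfold fixedPointCharacter
    rw [stb_card_fixed P σ r hS b hb gate_ex gate_un J hJ, Nat.card_eq_fintype_card, Fintype.card_subtype,
      ← Finset.filter_filter, Finset.sum_boole]
  unfold stSum
  rw [Finset.sum_congr rfl (fun J hJ => by rw [hcard1 J (Finset.mem_powerset.1 hJ)])]
  simp_rw [Finset.mul_sum]
  rw [Finset.sum_comm]
  have hinner : ∀ x ∈ Finset.univ.filter (fun x : G ⧸ P.B => b • x = x),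
      ∑ J ∈ (Finset.range r).powerset,
        (-1 : ℂ) ^ J.card * (if J ⊆ stbA P σ r x then (1 : ℂ) else 0) =
      if stbA P σ r x = ∅ then (1 : ℂ) else 0 := by
    intro x _
    have hA : stbA P σ r x ⊆ Finset.range r := stb_A_subset P σ r x
    have h1 : ∑ J ∈ (Finset.range r).powerset,
        (-1 : ℂ) ^ J.card * (if J ⊆ stbA P σ r x then (1 : ℂ) else 0) =
        ∑ J ∈ (stbA P σ r x).powerset, (-1 : ℂ) ^ J.card := by
      simp_rw [mul_ite, mul_one, mul_zero]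
      rw [← Finset.sum_filter]
      apply Finset.sum_congr _ (fun _ _ => rfl)
      ext J
      simp only [Finset.mem_filter, Finset.mem_powerset]
      exact ⟨fun h => h.2, fun h => ⟨h.trans hA, h⟩⟩
    rw [h1]
    have h2 := Finset.sum_powerset_neg_one_pow_card (x := stbA P σ r x)
    have h3 := congrArg (Int.cast : ℤ → ℂ) h2
    push_cast at h3
    rw [h3]
  rw [Finset.sum_congr rfl hinner, Finset.sum_boole]
  congr 1
  rw [Nat.card_eq_fintype_card, Fintype.card_subtype, ← Finset.filter_filter]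
  congr 1
  apply Finset.filter_congr
  intro x _
  exact stb_A_empty_iff P σ r hS x

end Cfsg.Agent.Lib.Helper25
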